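import Groth.Prelude.Def_W4c1btstackcountsChain
import Mathlib

/-!
# Interval decomposition of chains of linear maps
-/

set_option autoImplicit false
set_option linter.unusedVariables false
set_option linter.unusedSectionVars false

open Module

noncomputable section

namespace Groth.Agent.H14Count.Chain

universe u v
variable {k : Type u} [Field k] {V : ℕ → Type v} [∀ j, AddCommGroup (V j)] [∀ j, Module k (V j)]
  (F : ∀ j, V j →ₗ[k] V (j + 1)) (r : ℕ)

/-- The image of the space at `i` in the space at `j`. -/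
def W : (j : ℕ) → ℕ → Submodule k (V j)
  | 0, _ => ⊤
  | j + 1, i => if j + 1 ≤ i then ⊤ else (W j i).map (F j)

lemma W_self (j : ℕ) : W F j j = ⊤ := by
  cases j <;> simp [W]

lemma W_succ {i j : ℕ} (h : i ≤ j) : W F (j + 1) i = (W F j i).map (F j) := by
  rw [W, if_neg (by omega)]

/-- Strands born at `i` and dead after `e`. -/
def strands (i e : ℕ) : Submodule k (∀ j, V j) where
  carrier := {s | (∀ j, ¬(1 ≤ i ∧ i ≤ j ∧ j ≤ e ∧ j ≤ r) → s j = 0) ∧ ∀ j, i ≤ j → j < r → F j (s j) = s (j + 1)}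
  add_mem' := by
    rintro s t ⟨h1, h2⟩ ⟨h1', h2'⟩
    exact ⟨fun j hj => by simp [h1 j hj, h1' j hj], fun j a b => by simp [h2 j a b, h2' j a b]⟩
  zero_mem' := ⟨fun j _ => rfl, fun j _ _ => by simp⟩
  smul_mem' := by
    rintro c s ⟨h1, h2⟩
    exact ⟨fun j hj => by simp [h1 j hj], fun j a b => by simp [h2 j a b]⟩

lemma strands_mono {i e e' : ℕ} (h : e ≤ e') : strands F r i e ≤ strands F r i e' := fun s hs =>
  ⟨fun j hj => hs.1 j fun h' => hj ⟨h'.1, h'.2.1, h'.2.2.1.trans h, h'.2.2.2⟩, hs.2⟩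

lemma strands_zero (e : ℕ) : strands F r 0 e = ⊥ :=
  (Submodule.eq_bot_iff _).2 fun s hs => funext fun j => hs.1 j (by omega)

/-- The strand of a vector. -/
def strand (i : ℕ) (v : V i) : ∀ j, V j
  | 0 => if h : i = 0 then h ▸ v else 0
  | j + 1 => if h : i = j + 1 then h ▸ v else if i ≤ j ∧ j < r then F j (strand i v j) else 0

lemma strand_self (i : ℕ) (v : V i) : strand F r i v i = v := by
  cases i <;> simp [strand]

lemma strand_mem {i : ℕ} (hi : 1 ≤ i) (hir : i ≤ r) (v : V i) : strand F r i v ∈ strands F r i r := by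
  refine ⟨fun j hj => ?_, fun j hij hjr => ?_⟩
  · rcases j with _ | j
    · simp [strand, show i ≠ 0 by omega]
    · rw [strand, dif_neg (by omega), if_neg (by omega)]
  · conv_rhs => rw [strand, dif_neg (by omega), if_pos ⟨hij, hjr⟩]

lemma strand_mem_W {i e : ℕ} {s : ∀ j, V j} (hs : s ∈ strands F r i e) : ∀ j, i ≤ j → s j ∈ W F j i := by
  intro j
  induction j with
  | zero => intro _; trivial
  | succ j ih =>
    intro hij
    rcases Nat.lt_or_ge j i with h | h
    · rw [show i = j + 1 by omega, W_self]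
      trivial
    · rw [W_succ F h]
      by_cases hjr : j < r
      · exact ⟨s j, ih h, hs.2 j h hjr⟩
      · rw [hs.1 (j + 1) (by omega)]
        exact zero_mem _

lemma eq_zero_of_zero {i e : ℕ} {s : ∀ j, V j} (hs : s ∈ strands F r i e) {j₀ : ℕ} (hi : i ≤ j₀) (h0 : s j₀ = 0) :
    ∀ j, j₀ ≤ j → s j = 0 := by
  intro j hj
  induction j, hj using Nat.le_induction with
  | base => exact h0
  | succ j hj ih =>
    by_cases hjr : j < r
    · rw [← hs.2 j (hi.trans hj) hjr, ih, map_zero]
    · exact hs.1 (j + 1) (by omega)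

/-- Truncation below a vertex. -/
def cut (i : ℕ) (s : ∀ j, V j) : ∀ j, V j := fun j => if i ≤ j then s j else 0

lemma cut_mem {i e : ℕ} {s : ∀ j, V j} (hs : s ∈ strands F r i e) :
    cut (i + 1) s ∈ strands F r (i + 1) e := by
  refine ⟨fun j hj => ?_, fun j hij hjr => ?_⟩
  · rw [cut]
    split_ifs with h
    · exact hs.1 j (by omega)
    · rfl
  · rw [cut, cut, if_pos hij, if_pos (by omega), hs.2 j (by omega) hjr]

lemma cut_apply {i j : ℕ} (s : ∀ j, V j) (h : i ≤ j) : cut i s j = s j := if_pos h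

/-- The filtration at the birth vertex. -/
def birth (i e : ℕ) : Submodule k (V i) :=
  (strands F r i e).map (LinearMap.proj i) ⊔ (strands F r (i - 1) r).map (LinearMap.proj i)

lemma birth_mono {i e e' : ℕ} (h : e ≤ e') : birth F r i e ≤ birth F r i e' :=
  sup_le_sup_right (Submodule.map_mono (strands_mono F r h)) _

lemma mem_birth_top {i : ℕ} (hi : 1 ≤ i) (hir : i ≤ r) (v : V i) : v ∈ birth F r i r :=
  Submodule.mem_sup_left ⟨strand F r i v, strand_mem F r hi hir v, strand_self F r i v⟩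

/-- The vertices and intervals through a vertex. -/
abbrev Idx (m : ℕ → ℕ → ℕ) : Type := Σ p : Fin (r + 1) × Fin (r + 1), Fin (m p.1 p.2)

/-- An interval contains a vertex. -/
abbrev Through {m : ℕ → ℕ → ℕ} (j : ℕ) (x : Idx r m) : Prop :=
  1 ≤ (x.1.1 : ℕ) ∧ (x.1.1 : ℕ) ≤ j ∧ j ≤ (x.1.2 : ℕ)

/-- A chain decomposed into intervals with multiplicities `m`. -/
structure Adapted (m : ℕ → ℕ → ℕ) where
  /-- the strands -/
  s : Idx r m → ∀ j, V j
  mem : ∀ x, s x ∈ strands F r x.1.1 x.1.2
  li : ∀ j, 1 ≤ j → j ≤ r → LinearIndependent k fun x : {x : Idx r m // Through r j x} => s x.1 j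
  span : ∀ j, 1 ≤ j → j ≤ r → ⊤ ≤ Submodule.span k (Set.range fun x : {x : Idx r m // Through r j x} => s x.1 j)

/-- The rectangle sums of the multiplicities. -/
def rect (m : ℕ → ℕ → ℕ) (i j : ℕ) : ℕ := ∑ a ∈ Finset.Icc 1 i, ∑ b ∈ Finset.Icc j r, m a b

variable {F r}

namespace Adapted

variable {m : ℕ → ℕ → ℕ} (A : Adapted F r m)

lemma W_eq {i : ℕ} (hi : 1 ≤ i) : ∀ j, i ≤ j → j ≤ r →
    W F j i = Submodule.span k (Set.range fun x : {x : Idx r m // Through r j x ∧ (x.1.1 : ℕ) ≤ i} => A.s x.1 j) := by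
  intro j hij
  induction j, hij using Nat.le_induction with
  | base =>
    intro hir
    rw [W_self]
    refine le_antisymm ((A.span i hi hir).trans (Submodule.span_mono ?_)) le_top
    rintro _ ⟨x, rfl⟩
    exact ⟨⟨x.1, x.2, x.2.2.1⟩, rfl⟩
  | succ j hij ih =>
    intro hjr
    rw [W_succ F hij, ih (by omega), Submodule.map_span, ← Set.range_comp]
    refine le_antisymm (Submodule.span_le.2 ?_) (Submodule.span_le.2 ?_)
    · rintro _ ⟨x, rfl⟩
      change F j (A.s x.1 j) ∈ _
      rw [(A.mem x.1).2 j x.2.1.2.1 (by omega)]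
      by_cases hx : j + 1 ≤ (x.1.1.2 : ℕ)
      · exact Submodule.subset_span ⟨⟨x.1, ⟨x.2.1.1, x.2.1.2.1.trans (Nat.le_succ _), hx⟩, x.2.2⟩, rfl⟩
      · rw [(A.mem x.1).1 (j + 1) (fun h => hx h.2.2.1)]
        exact zero_mem _
    · rintro _ ⟨x, rfl⟩
      refine Submodule.subset_span ⟨⟨x.1, ⟨x.2.1.1, x.2.2.trans hij, (Nat.le_succ j).trans x.2.1.2.2⟩, x.2.2⟩, ?_⟩
      exact (A.mem x.1).2 j (x.2.2.trans hij) (by omega)

lemma card_through (m : ℕ → ℕ → ℕ) {i j : ℕ} (hij : i ≤ j) :
    Fintype.card {x : Idx r m // Through r j x ∧ (x.1.1 : ℕ) ≤ i} = rect r m i j := by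
  classical
  let P : Fin (r + 1) × Fin (r + 1) → Prop := fun p =>
    (1 ≤ (p.1 : ℕ) ∧ (p.1 : ℕ) ≤ j ∧ j ≤ (p.2 : ℕ)) ∧ (p.1 : ℕ) ≤ i
  have e : {x : Idx r m // Through r j x ∧ (x.1.1 : ℕ) ≤ i} ≃ Σ p : Subtype P, Fin (m p.1.1 p.1.2) :=
    { toFun := fun x => ⟨⟨x.1.1, x.2⟩, x.1.2⟩
      invFun := fun x => ⟨⟨x.1.1, x.2⟩, x.1.2⟩
      left_inv := fun x => rfl
      right_inv := fun x => rfl }
  rw [Fintype.card_congr e, Fintype.card_sigma, rect, ← Finset.sum_product']
  simp only [Fintype.card_fin]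
  refine Finset.sum_bij (fun p _ => ((p.1.1 : ℕ), (p.1.2 : ℕ))) (fun p _ => ?_) (fun p _ q _ h => ?_)
    (fun q hq => ?_) (fun p _ => rfl)
  · obtain ⟨⟨h1, h2, h3⟩, h4⟩ := p.2
    simp only [Finset.mem_product, Finset.mem_Icc]
    exact ⟨⟨h1, h4⟩, h3, Nat.lt_succ_iff.1 p.1.2.2⟩
  · simp only [Prod.mk.injEq] at h
    exact Subtype.ext (Prod.ext (Fin.ext h.1) (Fin.ext h.2))
  · simp only [Finset.mem_product, Finset.mem_Icc] at hq
    exact ⟨⟨(⟨q.1, by omega⟩, ⟨q.2, by omega⟩), ⟨hq.1.1, by simp only; omega, hq.2.1⟩, hq.1.2⟩,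
      Finset.mem_univ _, rfl⟩

include A in
lemma finrank_W {i j : ℕ} (hi : 1 ≤ i) (hij : i ≤ j) (hjr : j ≤ r) :
    finrank k (W F j i) = rect r m i j := by
  classical
  let sub : {x : Idx r m // Through r j x ∧ (x.1.1 : ℕ) ≤ i} → {x : Idx r m // Through r j x} := fun x => ⟨x.1, x.2.1⟩
  have hli : LinearIndependent k fun x : {x : Idx r m // Through r j x ∧ (x.1.1 : ℕ) ≤ i} => A.s x.1 j :=
    (A.li j (hi.trans hij) hjr).comp sub fun x y h => Subtype.ext (congrArg (fun z => z.1) h)
  rw [A.W_eq hi j hij hjr, finrank_span_eq_card hli, card_through m hij]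

end Adapted

section Exists

variable (F r)

lemma cut_mem_of_le {i i' e : ℕ} (hi' : 1 ≤ i') (h : i ≤ i') {s : ∀ j, V j} (hs : s ∈ strands F r i e) :
    cut i' s ∈ strands F r i' e := by
  refine ⟨fun j hj => ?_, fun j hij hjr => ?_⟩
  · rw [cut]
    split_ifs with h'
    · exact hs.1 j (by omega)
    · rfl
  · rw [cut, cut, if_pos hij, if_pos (by omega), hs.2 j (by omega) hjr]

/-- The part of the birth filtration which dies after `e` exactly. -/
abbrev Layer (i e : ℕ) : Type v := birth F r i e ⧸ (birth F r i (e - 1)).comap (birth F r i e).subtype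

/-- The class of a strand in its layer. -/
def layerMap (i e : ℕ) : strands F r i e →ₗ[k] Layer F r i e :=
  (Submodule.mkQ _).comp (((LinearMap.proj i).comp (strands F r i e).subtype).codRestrict (birth F r i e)
    fun s => Submodule.mem_sup_left ⟨s.1, s.2, rfl⟩)

lemma layerMap_surjective (i e : ℕ) : Function.Surjective (layerMap F r i e) := by
  intro q
  obtain ⟨⟨v, hv⟩, rfl⟩ := Submodule.mkQ_surjective _ q
  obtain ⟨_, ⟨s, hs, rfl⟩, b, hb, rfl⟩ := Submodule.mem_sup.1 hv
  refine ⟨⟨s, hs⟩, (Submodule.Quotient.eq _).2 ?_⟩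
  change s i - (s i + b) ∈ birth F r i (e - 1)
  rw [sub_add_cancel_left]
  exact neg_mem (Submodule.mem_sup_right hb)

variable [∀ j, Module.Finite k (V j)]

/-- The multiplicities of the intervals. -/
def mult (i e : ℕ) : ℕ := if 1 ≤ i ∧ i ≤ e ∧ e ≤ r then finrank k (Layer F r i e) else 0

lemma exists_layer (i e : ℕ) : ∃ s : Fin (mult F r i e) → strands F r i e, 1 ≤ i → i ≤ e → e ≤ r →
    (∀ v ∈ birth F r i e, ∃ c : Fin (mult F r i e) → k, v - ∑ t, c t • (s t).1 i ∈ birth F r i (e - 1)) ∧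
    ∀ c : Fin (mult F r i e) → k, ∑ t, c t • (s t).1 i ∈ birth F r i (e - 1) → c = 0 := by
  classical
  by_cases h : 1 ≤ i ∧ i ≤ e ∧ e ≤ r
  · have hm : finrank k (Layer F r i e) = mult F r i e := (if_pos h).symm
    let b := Module.finBasisOfFinrankEq k (Layer F r i e) hm
    choose s hs using fun t => layerMap_surjective F r i e (b t)
    have hb : ∀ (v : V i) (hv : v ∈ birth F r i e), ∀ c : Fin (mult F r i e) → k,
        (v - ∑ t, c t • (s t).1 i ∈ birth F r i (e - 1) ↔ Submodule.mkQ _ (⟨v, hv⟩ : birth F r i e) = ∑ t, c t • b t) := by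
      intro v hv c
      rw [show (∑ t, c t • b t) = layerMap F r i e (∑ t, c t • s t) by simp [map_sum, hs], layerMap,
        LinearMap.comp_apply, Submodule.mkQ_apply, Submodule.mkQ_apply, Submodule.Quotient.eq]
      simp
    refine ⟨s, fun _ _ _ => ⟨fun v hv => ⟨b.repr (Submodule.mkQ _ ⟨v, hv⟩), (hb v hv _).2 (b.sum_repr _).symm⟩, fun c hc => ?_⟩⟩
    have hv : ∑ t, c t • (s t).1 i ∈ birth F r i e :=
      birth_mono F r (Nat.sub_le e 1) hc
    have := (hb _ hv c).1 (by simp)
    exact funext (Fintype.linearIndependent_iff.1 b.linearIndependent c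
      (this.symm.trans ((Submodule.Quotient.mk_eq_zero _).2 hc)))
  · exact ⟨fun _ => 0, fun a b c => absurd ⟨a, b, c⟩ h⟩

/-- Every chain decomposes into intervals. -/
theorem exists_adapted : Nonempty (Adapted F r (mult F r)) := by
  classical
  choose s hs using exists_layer F r
  let σ : Idx r (mult F r) → ∀ j, V j := fun x => (s x.1.1 x.1.2 x.2).1
  have hmem : ∀ x, σ x ∈ strands F r x.1.1 x.1.2 := fun x => (s x.1.1 x.1.2 x.2).2
  let S : ∀ j, Submodule k (V j) := fun j => Submodule.span k (Set.range fun x => σ x j)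
  have key : ∀ i e, i ≤ r → e ≤ r → ∀ t ∈ strands F r i e, ∀ j, t j ∈ S j := by
    intro i
    induction i with
    | zero =>
      intro e _ _ t ht j
      rw [ht.1 j (by omega)]
      exact zero_mem _
    | succ i ih =>
      intro e
      induction e with
      | zero =>
        intro _ _ t ht j
        rw [ht.1 j (by omega)]
        exact zero_mem _
      | succ e ihe =>
        intro hir her t ht j
        rcases Nat.lt_or_ge (e + 1) (i + 1) with hlt | hge
        · rw [ht.1 j (by omega)]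
          exact zero_mem _
        obtain ⟨c, hc⟩ := (hs (i + 1) (e + 1) (by omega) hge her).1 (t (i + 1))
          (Submodule.mem_sup_left ⟨t, ht, rfl⟩)
        obtain ⟨_, ⟨w, hw, rfl⟩, _, ⟨w', hw', rfl⟩, heq⟩ := Submodule.mem_sup.1 hc
        simp only [Nat.add_sub_cancel] at hw hw'
        simp only [LinearMap.proj_apply] at heq
        let d : ∀ j, V j := t - (∑ z, c z • (s (i + 1) (e + 1) z).1) - w - cut (i + 1) w'
        have hd : d ∈ strands F r (i + 1) r := by
          refine sub_mem (sub_mem (sub_mem (strands_mono F r her ht) (Submodule.sum_mem _ fun z _ =>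
            Submodule.smul_mem _ _ (strands_mono F r her (s (i + 1) (e + 1) z).2))) ?_) ?_
          · exact strands_mono F r (by omega) hw
          · exact cut_mem_of_le F r (by omega) (Nat.le_succ i) hw'
        have hd0 : d (i + 1) = 0 := by
          simp only [d, Pi.sub_apply, Finset.sum_apply, Pi.smul_apply, cut_apply w' le_rfl]
          rw [sub_sub, heq, sub_self]
        have hd' : d j = 0 := by
          rcases Nat.lt_or_ge j (i + 1) with hj | hj
          · exact hd.1 j (by omega)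
          · exact eq_zero_of_zero F r hd le_rfl hd0 j hj
        have htj : t j = (∑ z, c z • (s (i + 1) (e + 1) z).1 j) + w j + cut (i + 1) w' j := by
          simp only [d, Pi.sub_apply, Finset.sum_apply, Pi.smul_apply, sub_sub, sub_eq_zero] at hd'
          rw [hd']
          simp only [Pi.add_apply, Finset.sum_apply, Pi.smul_apply]
          abel
        rw [htj]
        refine add_mem (add_mem (Submodule.sum_mem _ fun z _ => Submodule.smul_mem _ _ ?_) ?_) ?_
        · exact Submodule.subset_span ⟨⟨(⟨i + 1, by omega⟩, ⟨e + 1, by omega⟩), z⟩, rfl⟩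
        · exact ihe hir (by omega) w hw j
        · rw [cut]
          split_ifs
          · exact ih r (by omega) le_rfl w' hw' j
          · exact zero_mem _
  refine ⟨⟨σ, hmem, fun j hj hjr => ?_, fun j hj hjr => ?_⟩⟩
  · rw [Fintype.linearIndependent_iff]
    intro c hc
    by_contra hne
    push Not at hne
    obtain ⟨x₁, hx₁⟩ := hne
    let c' : Idx r (mult F r) → k := fun x => if h : Through r j x then c ⟨x, h⟩ else 0
    have hc' : ∀ x, c' x ≠ 0 → Through r j x := by
      intro x hx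
      by_contra h
      exact hx (dif_neg h)
    have hsum : ∑ x, c' x • σ x j = 0 := by
      rw [← Finset.sum_subset (Finset.subset_univ (Finset.univ.filter fun x => Through r j x))
        (fun x _ hx => by simp [c', (by simpa using hx : ¬Through r j x)]),
        Finset.sum_subtype (p := fun x => Through r j x) _ (by simp), ← hc]
      refine Finset.sum_congr rfl fun x _ => ?_
      simp [c', x.2]
    obtain ⟨x₀, hx₀, hmax⟩ := Finset.exists_max_image (Finset.univ.filter fun x => c' x ≠ 0)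
      (fun x : Idx r (mult F r) => (x.1.1 : ℕ) * (r + 1) + x.1.2)
      ⟨x₁.1, by simp [c', x₁.2, hx₁]⟩
    simp only [Finset.mem_filter, Finset.mem_univ, true_and] at hx₀ hmax
    obtain ⟨⟨⟨⟨a, ha⟩, ⟨b, hb⟩⟩, t₀⟩, rfl⟩ : ∃ y, y = x₀ := ⟨_, rfl⟩
    obtain ⟨ha1, haj, hjb⟩ := hc' _ hx₀
    simp only at ha1 haj hjb hmax
    have hle : ∀ x, c' x ≠ 0 → (x.1.1 : ℕ) < a ∨ ((x.1.1 : ℕ) = a ∧ (x.1.2 : ℕ) ≤ b) := by
      intro x hx
      have h' := hmax x hx
      have := x.1.2.2
      rcases Nat.lt_trichotomy (x.1.1 : ℕ) a with h | h | h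
      · exact .inl h
      · refine .inr ⟨h, ?_⟩
        rw [h] at h'
        omega
      · exfalso
        nlinarith
    let D : ∀ j, V j := ∑ x, c' x • cut a (σ x)
    have hD : D ∈ strands F r a r := Submodule.sum_mem _ fun x _ => by
      by_cases hx : c' x = 0
      · simp [hx]
      · refine Submodule.smul_mem _ _ (cut_mem_of_le F r ha1 ?_ (strands_mono F r (Nat.lt_succ_iff.1 x.1.2.2) (hmem x)))
        rcases hle x hx with h | h <;> omega
    have hD' : D ∈ strands F r a (j - 1) := by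
      refine ⟨fun l hl => ?_, hD.2⟩
      by_cases h : 1 ≤ a ∧ a ≤ l ∧ l ≤ r
      · refine eq_zero_of_zero F r hD haj ?_ l (by omega)
        simp only [D, Finset.sum_apply, Pi.smul_apply, cut_apply _ haj]
        exact hsum
      · exact hD.1 l (by omega)
    have htot : ∑ x, c' x • σ x a ∈ birth F r a (b - 1) := by
      refine birth_mono F r (by omega) (Submodule.mem_sup_left ⟨D, hD', ?_⟩)
      simp [D, cut_apply]
    let P : Idx r (mult F r) → Prop := fun x => x.1 = ((⟨a, ha⟩ : Fin (r + 1)), (⟨b, hb⟩ : Fin (r + 1)))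
    have hrest : ∑ x ∈ Finset.univ.filter (fun x => ¬P x), c' x • σ x a ∈ birth F r a (b - 1) := by
      refine Submodule.sum_mem _ fun x hx => ?_
      by_cases h0 : c' x = 0
      · simp [h0]
      refine Submodule.smul_mem _ _ ?_
      have hxP : ¬P x := (Finset.mem_filter.1 hx).2
      obtain ⟨hx1, hxj, hjx⟩ := hc' x h0
      rcases hle x h0 with h | ⟨h, h'⟩
      · refine Submodule.mem_sup_right ⟨cut (a - 1) (σ x), cut_mem_of_le F r (by omega) (by omega)
          (strands_mono F r (Nat.lt_succ_iff.1 x.1.2.2) (hmem x)), ?_⟩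
        exact cut_apply _ (Nat.sub_le a 1)
      · have hxb : (x.1.2 : ℕ) ≠ b := fun e' => hxP (Prod.ext (Fin.ext h) (Fin.ext e'))
        refine Submodule.mem_sup_left ⟨σ x, ?_, rfl⟩
        rw [← h]
        exact strands_mono F r (by omega) (hmem x)
    have hP : ∑ x ∈ Finset.univ.filter P, c' x • σ x a ∈ birth F r a (b - 1) := by
      rw [← Finset.sum_filter_add_sum_filter_not Finset.univ P] at htot
      simpa using sub_mem htot hrest
    have hP' : ∑ x ∈ Finset.univ.filter P, c' x • σ x a =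
        ∑ t, c' ⟨(⟨a, ha⟩, ⟨b, hb⟩), t⟩ • (s a b t).1 a := by
      symm
      refine Finset.sum_bij (fun t _ => (⟨(⟨a, ha⟩, ⟨b, hb⟩), t⟩ : Idx r (mult F r))) (fun t _ => by simp [P])
        (fun t _ t' _ h => by simpa using h) (fun x hx => ?_) (fun t _ => rfl)
      obtain ⟨p, t⟩ := x
      obtain rfl : p = _ := (Finset.mem_filter.1 hx).2
      exact ⟨t, Finset.mem_univ _, rfl⟩
    rw [hP'] at hP
    exact hx₀ (congr_fun ((hs a b ha1 (by omega) (by omega)).2 _ hP) t₀)
  · intro v _
    have hv := key j r hjr le_rfl _ (strand_mem F r hj hjr v) j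
    rw [strand_self] at hv
    refine Submodule.span_le.2 ?_ hv
    rintro _ ⟨x, rfl⟩
    change σ x j ∈ _
    by_cases h : Through r j x
    · exact Submodule.subset_span ⟨⟨x, h⟩, rfl⟩
    · rw [(hmem x).1 j (fun h' => h ⟨h'.1, h'.2.1, h'.2.2.1⟩)]
      exact zero_mem _

end Exists

section Arith

variable (r)

/-- A row of the rectangle sums. -/
def row (m : ℕ → ℕ → ℕ) (i j : ℕ) : ℕ := ∑ b ∈ Finset.Icc j r, m i b

lemma rect_zero (m : ℕ → ℕ → ℕ) (j : ℕ) : rect r m 0 j = 0 := by simp [rect]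

lemma rect_succ (m : ℕ → ℕ → ℕ) (i j : ℕ) : rect r m (i + 1) j = rect r m i j + row r m (i + 1) j := by
  rw [rect, Finset.sum_Icc_succ_top (by omega), rect, row]

lemma row_eq (m : ℕ → ℕ → ℕ) {i j : ℕ} (h : j ≤ r) : row r m i j = m i j + row r m i (j + 1) := by
  rw [row, row, Finset.Icc_add_one_left_eq_Ioc, Finset.add_sum_Ioc_eq_sum_Icc h]

lemma row_top (m : ℕ → ℕ → ℕ) (i : ℕ) {j : ℕ} (h : r < j) : row r m i j = 0 := by
  rw [row, Finset.Icc_eq_empty (by omega), Finset.sum_empty]

lemma eq_of_rect_eq {m m' : ℕ → ℕ → ℕ} (h : ∀ i j, 1 ≤ i → i ≤ j → j ≤ r → rect r m i j = rect r m' i j)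
    (hm : ∀ a b, ¬(1 ≤ a ∧ a ≤ b ∧ b ≤ r) → m a b = 0) (hm' : ∀ a b, ¬(1 ≤ a ∧ a ≤ b ∧ b ≤ r) → m' a b = 0) :
    m = m' := by
  funext a b
  by_cases hab : 1 ≤ a ∧ a ≤ b ∧ b ≤ r
  · obtain ⟨ha, hab, hbr⟩ := hab
    have hrow : ∀ j, a ≤ j → row r m a j = row r m' a j := by
      intro j hj
      by_cases hjr : j ≤ r
      · obtain ⟨a, rfl⟩ : ∃ a', a = a' + 1 := ⟨a - 1, by omega⟩
        have h1 := h (a + 1) j ha hj hjr
        rw [rect_succ, rect_succ] at h1
        rcases Nat.eq_zero_or_pos a with rfl | hpos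
        · rw [rect_zero, rect_zero] at h1
          omega
        · have h2 := h a j hpos (by omega) hjr
          omega
      · rw [row_top r m a (by omega), row_top r m' a (by omega)]
    have h1 := hrow b hab
    have h2 := hrow (b + 1) (by omega)
    rw [row_eq r m hbr, row_eq r m' hbr] at h1
    omega
  · rw [hm a b hab, hm' a b hab]

/-- The multiplicities with prescribed rectangle sums. -/
lemma exists_rect_eq {d : ℕ → ℕ} {a : ℕ → ℕ → ℕ} (ha : W4c1btstackcounts.IsRankArray d r a) :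
    ∃ m : ℕ → ℕ → ℕ, ∀ i j, 1 ≤ i → i ≤ j → j ≤ r → rect r m i j = a i j := by
  obtain ⟨h1, h2, h3, h4⟩ := ha
  let R : ℕ → ℕ → ℕ := fun i j => if j ≤ r then a i j - (if i ≤ 1 then 0 else a (i - 1) j) else 0
  let m : ℕ → ℕ → ℕ := fun i j => R i j - R i (j + 1)
  have hanti : ∀ i j, 1 ≤ i → i ≤ j → R i (j + 1) ≤ R i j := by
    intro i j hi hij
    simp only [R]
    by_cases hjr : j < r
    · rw [if_pos (show j + 1 ≤ r by omega), if_pos (show j ≤ r by omega)]
      by_cases hi1 : i ≤ 1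
      · simp only [if_pos hi1]
        have := h3 i j hi hij hjr
        omega
      · simp only [if_neg hi1]
        have := h4 i j (by omega) hij hjr
        have := h2 (i - 1) (j + 1) (by omega) (by omega) (by omega)
        have := h2 (i - 1) j (by omega) (by omega) (by omega)
        simp only [show i - 1 + 1 = i by omega] at *
        omega
    · rw [if_neg (show ¬(j + 1 ≤ r) by omega)]
      exact Nat.zero_le _
  have hrow : ∀ i, 1 ≤ i → ∀ n j, j + n = r + 1 → i ≤ j → row r m i j = R i j := by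
    intro i hi n
    induction n with
    | zero =>
      intro j hj _
      rw [row_top r m i (by omega)]
      simp [R, show ¬(j ≤ r) by omega]
    | succ n ih =>
      intro j hj hij
      rw [row_eq r m (by omega), ih (j + 1) (by omega) (by omega)]
      have := hanti i j hi hij
      simp only [m]
      omega
  refine ⟨m, fun i => ?_⟩
  induction i with
  | zero => intro j h; omega
  | succ i ih =>
    intro j _ hij hjr
    rw [rect_succ, hrow (i + 1) (by omega) (r + 1 - j) j (by omega) hij]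
    simp only [R, if_pos hjr, Nat.add_sub_cancel]
    rcases Nat.eq_zero_or_pos i with rfl | hpos
    · simp [rect_zero]
    · rw [if_neg (by omega), ih j hpos (by omega) hjr]
      have := h2 i j hpos (by omega) hjr
      omega

lemma rect_mono_left (m : ℕ → ℕ → ℕ) (i j : ℕ) : rect r m i j ≤ rect r m (i + 1) j := by
  rw [rect_succ]
  omega

lemma rect_anti_right (m : ℕ → ℕ → ℕ) (i j : ℕ) : rect r m i (j + 1) ≤ rect r m i j :=
  Finset.sum_le_sum fun a _ => Finset.sum_le_sum_of_subset (Finset.Icc_subset_Icc_left (by omega))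

lemma rect_square (m : ℕ → ℕ → ℕ) {i j : ℕ} (hi : 1 ≤ i) :
    rect r m i (j + 1) + rect r m (i - 1) j ≤ rect r m i j + rect r m (i - 1) (j + 1) := by
  obtain ⟨i, rfl⟩ : ∃ i', i = i' + 1 := ⟨i - 1, by omega⟩
  rw [Nat.add_sub_cancel, rect_succ, rect_succ]
  have : row r m (i + 1) (j + 1) ≤ row r m (i + 1) j :=
    Finset.sum_le_sum_of_subset (Finset.Icc_subset_Icc_left (by omega))
  omega

end Arith

end Groth.Agent.H14Count.Chain
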