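import Groth.Agent.H14Count.Chain

/-!
# Orbits of chains of matrices
-/

set_option autoImplicit false
set_option linter.unusedVariables false
set_option linter.unusedSectionVars false

open Module W4c1btstackcounts

noncomputable section

namespace Groth.Agent.H14Count.Chain

universe u
variable {k : Type u} [Field k] {d : ℕ → ℕ} (r : ℕ)

/-- The linear maps of a chain of matrices. -/
abbrev lin (f : (i : ℕ) → Matrix (Fin (d (i + 1))) (Fin (d i)) k) :
    ∀ j, (Fin (d j) → k) →ₗ[k] (Fin (d (j + 1)) → k) := fun j => Matrix.toLin' (f j)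

variable (f f' : (i : ℕ) → Matrix (Fin (d (i + 1))) (Fin (d i)) k)

lemma W_eq_iterImage (i n : ℕ) : W (lin f) (i + n) i = iterImage f i n := by
  induction n with
  | zero => exact W_self (lin f) i
  | succ n ih => exact (W_succ (lin f) (Nat.le_add_right i n)).trans (congrArg _ ih)

lemma rankArray_eq_finrank {i j : ℕ} (h : i ≤ j) : rankArray f i j = finrank k (W (lin f) j i) := by
  rw [rankArray, if_pos h]
  suffices ∀ n, i + n = j → finrank k (iterImage f i n) = finrank k (W (lin f) j i) from this _ (by omega)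
  rintro n rfl
  rw [W_eq_iterImage]

lemma rankArray_eq_rect {m : ℕ → ℕ → ℕ} (A : Adapted (lin f) r m) {i j : ℕ} (hi : 1 ≤ i) (hij : i ≤ j) (hjr : j ≤ r) :
    rankArray f i j = rect r m i j := by
  rw [rankArray_eq_finrank f hij, A.finrank_W hi hij hjr]

/-- Change of bases does not move the ranks. -/
lemma rankArray_conj (g : (j : ℕ) → Matrix.GeneralLinearGroup (Fin (d j)) k) (i j : ℕ) :
    rankArray (conj g f) i j = rankArray f i j := by
  by_cases h : i ≤ j
  · have hinv : ∀ l, (Matrix.toLin' ((g l)⁻¹).val).comp (Matrix.toLin' (g l).val) = LinearMap.id := fun l => by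
      rw [← Matrix.toLin'_mul, ← Units.val_mul, inv_mul_cancel, Units.val_one, Matrix.toLin'_one]
    have hinj : ∀ l, Function.Injective (Matrix.toLin' (g l).val) := fun l =>
      Function.LeftInverse.injective (g := Matrix.toLin' ((g l)⁻¹).val) fun v => LinearMap.congr_fun (hinv l) v
    have key : ∀ n, iterImage (conj g f) i n = (iterImage f i n).map (Matrix.toLin' (g (i + n)).val) := by
      intro n
      induction n with
      | zero =>
        symm
        rw [iterImage, iterImage, Submodule.map_top, LinearMap.range_eq_top]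
        exact LinearMap.surjective_of_injective (hinj _)
      | succ n ih =>
        change (iterImage (conj g f) i n).map (Matrix.toLin' (conj g f (i + n))) =
          ((iterImage f i n).map (Matrix.toLin' (f (i + n)))).map (Matrix.toLin' (g (i + n + 1)).val)
        rw [ih, ← Submodule.map_comp, ← Submodule.map_comp, conj, Matrix.toLin'_mul, Matrix.toLin'_mul,
          LinearMap.comp_assoc, hinv, LinearMap.comp_id]
    rw [rankArray, rankArray, if_pos h, if_pos h, key]
    exact (Submodule.equivMapOfInjective _ (hinj _) _).finrank_eq.symm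
  · rw [rankArray, rankArray, if_neg h, if_neg h]

lemma isRankArray : IsRankArray d r (rankArray f) := by
  obtain ⟨A⟩ := exists_adapted (lin f) r
  refine ⟨fun j hj hjr => ?_, fun i j hi hij hjr => ?_, fun i j hi hij hjr => ?_, fun i j hi hij hjr => ?_⟩
  · rw [rankArray_eq_finrank f le_rfl, W_self, finrank_top, finrank_fin_fun]
  · rw [rankArray_eq_rect r f A hi hij.le hjr, rankArray_eq_rect r f A (by omega) hij hjr]
    exact rect_mono_left r _ i j
  · rw [rankArray_eq_rect r f A hi (by omega) hjr, rankArray_eq_rect r f A hi hij (by omega)]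
    exact rect_anti_right r _ i j
  · rw [rankArray_eq_rect r f A (by omega) (by omega) hjr, rankArray_eq_rect r f A (by omega) (by omega) (by omega),
      rankArray_eq_rect r f A (by omega) hij (by omega), rankArray_eq_rect r f A (by omega) (by omega) hjr]
    exact rect_square r _ (by omega)

/-- Chains with equal ranks are conjugate. -/
lemma exists_conj_eq (h : ∀ i j : ℕ, 1 ≤ i → i ≤ j → j ≤ r → rankArray f i j = rankArray f' i j) :
    ∃ g : (j : ℕ) → Matrix.GeneralLinearGroup (Fin (d j)) k, ∀ i : ℕ, 1 ≤ i → i + 1 ≤ r → conj g f i = f' i := by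
  classical
  obtain ⟨A⟩ := exists_adapted (lin f) r
  obtain ⟨A'⟩ := exists_adapted (lin f') r
  have hm : mult (lin f) r = mult (lin f') r := eq_of_rect_eq r
    (fun i j hi hij hjr => by rw [← rankArray_eq_rect r f A hi hij hjr, h i j hi hij hjr, rankArray_eq_rect r f' A' hi hij hjr])
    (fun a b hab => if_neg hab) (fun a b hab => if_neg hab)
  revert A
  rw [hm]
  intro A
  generalize mult (lin f') r = m at A A'
  let φ : ∀ j, (Fin (d j) → k) ≃ₗ[k] (Fin (d j) → k) := fun j =>
    if hj : 1 ≤ j ∧ j ≤ r then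
      (Basis.mk (A.li j hj.1 hj.2) (A.span j hj.1 hj.2)).equiv (Basis.mk (A'.li j hj.1 hj.2) (A'.span j hj.1 hj.2))
        (Equiv.refl _)
    else LinearEquiv.refl k _
  have hφ : ∀ j (hj : 1 ≤ j) (hjr : j ≤ r) (x : Idx r m), Through r j x → φ j (A.s x j) = A'.s x j := by
    intro j hj hjr x hx
    simp only [φ, dif_pos (And.intro hj hjr)]
    have := (Basis.mk (A.li j hj hjr) (A.span j hj hjr)).equiv_apply ⟨x, hx⟩
      (Basis.mk (A'.li j hj hjr) (A'.span j hj hjr)) (Equiv.refl _)
    simpa using this
  let g : (j : ℕ) → Matrix.GeneralLinearGroup (Fin (d j)) k := fun j =>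
    { val := LinearMap.toMatrix' (φ j).toLinearMap
      inv := LinearMap.toMatrix' (φ j).symm.toLinearMap
      val_inv := by rw [← LinearMap.toMatrix'_comp, LinearEquiv.comp_symm, LinearMap.toMatrix'_id]
      inv_val := by rw [← LinearMap.toMatrix'_comp, LinearEquiv.symm_comp, LinearMap.toMatrix'_id] }
  refine ⟨g, fun i hi hir => Matrix.toLin'.injective ?_⟩
  have e1 : Matrix.toLin' (conj g f i) =
      ((φ (i + 1)).toLinearMap.comp (lin f i)).comp (φ i).symm.toLinearMap := by
    rw [conj, Matrix.toLin'_mul, Matrix.toLin'_mul, Matrix.toLin'_toMatrix']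
    congr 1
    exact Matrix.toLin'_toMatrix' _
  rw [e1]
  refine (Basis.mk (A'.li i hi (by omega)) (A'.span i hi (by omega))).ext fun ⟨x, hx⟩ => ?_
  rw [Basis.mk_apply, LinearMap.comp_apply, LinearMap.comp_apply]
  have e2 : (φ i).symm.toLinearMap (A'.s x i) = A.s x i := by
    rw [← hφ i hi (by omega) x hx]
    simp
  rw [e2]
  change φ (i + 1) (lin f i (A.s x i)) = lin f' i (A'.s x i)
  rw [(A.mem x).2 i hx.2.1 (by omega), (A'.mem x).2 i hx.2.1 (by omega)]
  by_cases hx' : Through r (i + 1) x
  · exact hφ (i + 1) (by omega) hir x hx'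
  · rw [(A.mem x).1 (i + 1) (fun h' => hx' ⟨h'.1, h'.2.1, h'.2.2.1⟩),
      (A'.mem x).1 (i + 1) (fun h' => hx' ⟨h'.1, h'.2.1, h'.2.2.1⟩), map_zero]

/-- Every admissible array occurs. -/
lemma exists_of_isRankArray {a : ℕ → ℕ → ℕ} (ha : IsRankArray d r a) :
    ∃ f : (i : ℕ) → Matrix (Fin (d (i + 1))) (Fin (d i)) k,
      ∀ i j : ℕ, 1 ≤ i → i ≤ j → j ≤ r → rankArray f i j = a i j := by
  classical
  obtain ⟨m, hm⟩ := exists_rect_eq r ha
  have hcard : ∀ j, 1 ≤ j → j ≤ r → Fintype.card {x : Idx r m // Through r j x} = d j := by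
    intro j hj hjr
    rw [← ha.1 j hj hjr, ← hm j j hj le_rfl hjr, ← Adapted.card_through (r := r) m le_rfl]
    exact Fintype.card_congr (Equiv.subtypeEquivRight fun x => ⟨fun h => ⟨h, h.2.1⟩, fun h => h.1⟩)
  let e : ∀ j, 1 ≤ j → j ≤ r → {x : Idx r m // Through r j x} ≃ Fin (d j) := fun j hj hjr =>
    Fintype.equivFinOfCardEq (hcard j hj hjr)
  let s : Idx r m → ∀ j, Fin (d j) → k := fun x j =>
    if h : Through r j x ∧ 1 ≤ j ∧ j ≤ r then Pi.single (e j h.2.1 h.2.2 ⟨x, h.1⟩) 1 else 0
  let Φ : ∀ j, (Fin (d j) → k) →ₗ[k] (Fin (d (j + 1)) → k) := fun j => (Pi.basisFun k (Fin (d j))).constr k fun q =>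
    if h : 1 ≤ j ∧ j ≤ r then s ((e j h.1 h.2).symm q).1 (j + 1) else 0
  let f : (i : ℕ) → Matrix (Fin (d (i + 1))) (Fin (d i)) k := fun i => LinearMap.toMatrix' (Φ i)
  have hlin : lin f = Φ := funext fun j => Matrix.toLin'_toMatrix' _
  have hfam : ∀ j (hj : 1 ≤ j) (hjr : j ≤ r), (fun x : {x : Idx r m // Through r j x} => s x.1 j) =
      (Pi.basisFun k (Fin (d j))) ∘ e j hj hjr := by
    intro j hj hjr
    funext x
    simp only [s, Function.comp_apply]
    rw [dif_pos ⟨x.2, hj, hjr⟩, Pi.basisFun_apply]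
  have A : Adapted (lin f) r m :=
    { s := s
      mem := fun x => by
        refine ⟨fun j hj => dif_neg fun h => hj ⟨h.1.1, h.1.2.1, h.1.2.2, h.2.2⟩, fun j hij hjr => ?_⟩
        rw [hlin]
        by_cases h : Through r j x ∧ 1 ≤ j ∧ j ≤ r
        · have hb : s x j = Pi.basisFun k (Fin (d j)) (e j h.2.1 h.2.2 ⟨x, h.1⟩) := by
            simp only [s]
            rw [dif_pos h, Pi.basisFun_apply]
          rw [hb, Basis.constr_basis, dif_pos h.2, Equiv.symm_apply_apply]
        · have hn : ¬(Through r (j + 1) x) ∨ (x.1.1 : ℕ) = j + 1 := by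
            by_cases h' : Through r (j + 1) x
            · refine .inr ?_
              by_contra hne
              exact h ⟨⟨h'.1, hij, by omega⟩, by have := h'.1; omega, hjr.le⟩
            · exact .inl h'
          rcases hn with hn | hn
          · rw [show s x j = 0 from dif_neg h, map_zero, show s x (j + 1) = 0 from dif_neg fun h' => hn h'.1]
          · omega
      li := fun j hj hjr => by
        rw [hfam j hj hjr]
        exact (Pi.basisFun k _).linearIndependent.comp _ (Equiv.injective _)
      span := fun j hj hjr => by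
        rw [hfam j hj hjr, (e j hj hjr).surjective.range_comp, (Pi.basisFun k _).span_eq] }
  exact ⟨f, fun i j hi hij hjr => by rw [rankArray_eq_rect r f A hi hij hjr, hm i j hi hij hjr]⟩

end Groth.Agent.H14Count.Chain
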