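import Groth.Agent.H14Count.GeomObjects
import Groth.Prelude.Def_StkCnt
import Mathlib.GroupTheory.GroupAction.Quotient

/-!
# The mass of a quotient stack over a finite field as a sum over Frobenius classes
-/

set_option autoImplicit false
set_option linter.unusedVariables false
set_option linter.unusedSectionVars false
set_option backward.isDefEq.respectTransparency false
set_option backward.isDefEq.respectTransparency.types false

universe u

open CategoryTheory CategoryTheory.Functor CategoryTheory.Limits MonoidalCategory CartesianMonoidalCategory MonObj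
open AlgebraicGeometry AlgSt

noncomputable section

namespace Groth.Agent.H14Count

attribute [local instance 2000] Hom.group Hom.monoid

variable {k : Type u} [Field k] {k' : Type u} [Field k'] [Algebra k k'] [Finite k']
  {Kb : Type u} [Field Kb] [IsAlgClosed Kb] [Algebra k Kb] [Algebra k' Kb] [IsScalarTower k k' Kb]
  [Algebra.IsAlgebraic k' Kb]
  (π : Kb ≃ₐ[k'] Kb) (hπ : ∀ x : Kb, π x = x ^ Nat.card k')
  {G X : Over (Spec (CommRingCat.of k))} [GrpObj G] (aX : AlgGrp.Action G X)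

/-- The twisted fixed elements of the group. -/
def fixGrp (a : SGA7.pt (K := k) Kb ⟶ G) : Subgroup (SGA7.pt (K := k) Kb ⟶ G) where
  carrier := {g | g * a = a * (ptAut k π ≫ g)}
  mul_mem' {g h} hg hh := by
    change g * h * a = a * (ptAut k π ≫ (g * h))
    rw [_root_.mul_assoc, hh, ← _root_.mul_assoc, hg, _root_.mul_assoc, MonObj.comp_mul]
  one_mem' := by
    change 1 * a = a * _
    rw [_root_.one_mul, MonObj.comp_one, _root_.mul_one]
  inv_mem' {g} hg := by
    change g⁻¹ * a = a * (ptAut k π ≫ g⁻¹)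
    rw [GrpObj.comp_inv, eq_mul_inv_iff_mul_eq, _root_.mul_assoc, ← hg, inv_mul_cancel_left]

/-- The twisted fixed points. -/
def fixPts (a : SGA7.pt (K := k) Kb ⟶ G) : Type u :=
  {x : SGA7.pt (K := k) Kb ⟶ X // lift a (ptAut k π ≫ x) ≫ aX.act = x}

lemma smul_rel {Y : Over (Spec (CommRingCat.of k))} (act : AlgGrp.Action G Y) {a g : SGA7.pt (K := k) Kb ⟶ G}
    {y : SGA7.pt (K := k) Kb ⟶ Y} (h : lift a (ptAut k π ≫ y) ≫ act.act = y) :
    lift (g * a * (ptAut k π ≫ g)⁻¹) (ptAut k π ≫ lift g y ≫ act.act) ≫ act.act = lift g y ≫ act.act := by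
  rw [← Category.assoc (ptAut k π), comp_lift, ← AlgGrp.Action.lift_mul_act, inv_mul_cancel_right,
    AlgGrp.Action.lift_mul_act, h]

lemma fixGrp_twist {a g : SGA7.pt (K := k) Kb ⟶ G} (hg : g ∈ fixGrp π a) : g * a * (ptAut k π ≫ g)⁻¹ = a :=
  mul_inv_eq_iff_eq_mul.2 hg

lemma mem_fixGrp_of_twist {a g : SGA7.pt (K := k) Kb ⟶ G} (hg : g * a * (ptAut k π ≫ g)⁻¹ = a) : g ∈ fixGrp π a :=
  mul_inv_eq_iff_eq_mul.1 hg

instance fixAction (a : SGA7.pt (K := k) Kb ⟶ G) : MulAction (fixGrp π a) (fixPts π aX a) where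
  smul g x := ⟨lift g.1 x.1 ≫ aX.act, by
    have h := smul_rel π aX (g := g.1) x.2
    rwa [fixGrp_twist π g.2] at h⟩
  one_smul x := Subtype.ext (AlgGrp.Action.lift_one_act aX x.1)
  mul_smul g g' x := Subtype.ext (AlgGrp.Action.lift_mul_act aX g.1 g'.1 x.1)

include hπ in
theorem finite_fixGrp [LocallyOfFiniteType G.hom] [QuasiCompact G.hom] (a : SGA7.pt (K := k) Kb ⟶ G) :
    Finite (fixGrp π a) := by
  obtain ⟨n, hn, ha, hN⟩ := exists_norm_level π hπ a
  have hstep : ∀ g ∈ fixGrp π a, ∀ m, g * geoNorm π a m = geoNorm π a m * (ptAut k (π ^ m) ≫ g) := fun g hg m => by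
    induction m with
    | zero => rw [geoNorm, pow_zero, ptAut_one, Category.id_comp, _root_.one_mul, _root_.mul_one]
    | succ m ih => rw [geoNorm, ← _root_.mul_assoc, show g * a = a * (ptAut k π ≫ g) from hg, _root_.mul_assoc,
        _root_.mul_assoc, ← MonObj.comp_mul, ih, MonObj.comp_mul, pow_succ', ptAut_mul, Category.assoc]
  refine Set.Finite.to_subtype ((finite_fixed π hπ G hn).subset fun g hg => ?_)
  have := hstep g hg n
  rw [hN, _root_.mul_one, _root_.one_mul] at this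
  exact this.symm

include hπ in
theorem finite_fixPts [LocallyOfFiniteType G.hom] [QuasiCompact G.hom] [LocallyOfFiniteType X.hom] [QuasiCompact X.hom]
    (a : SGA7.pt (K := k) Kb ⟶ G) : Finite (fixPts π aX a) := by
  obtain ⟨n, hn, ha, hN⟩ := exists_norm_level π hπ a
  exact Set.Finite.to_subtype ((finite_fixed π hπ X hn).subset fun x hx => fixed_of_norm π hx hN)

variable {J : Precoverage Scheme.{u}}

variable (J k') in
/-- The objects over the base. -/
abbrev FibOver := (QuotObj.forget J G aX).Fiber (SGA7.pt (K := k) k')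

include hπ in
/-- The mass formula over Frobenius classes. -/
theorem classMass [IsAffineHom G.hom] [LocallyOfFiniteType G.hom] [LocallyOfFiniteType X.hom] [QuasiCompact X.hom]
    [J.IsStableUnderBaseChange] (hJ₁ : Scheme.etalePrecoverage ≤ J) (hJ₂ : J ≤ Scheme.fppfPrecoverage)
    {C : Type*} [Fintype C] (a : C → (SGA7.pt (K := k) Kb ⟶ G))
    (hsurj : ∀ b, Nonempty (fixPts π aX b) → ∃ c g, a c = g * b * (ptAut k π ≫ g)⁻¹)
    (hinj : ∀ c c' g, a c' = g * a c * (ptAut k π ≫ g)⁻¹ → c = c') :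
    Finite (Quotient (isIsomorphicSetoid (FibOver k' aX J))) ∧ (∀ A : (FibOver k' aX J), Finite (Aut A)) ∧
      ∑ᶠ q : Quotient (isIsomorphicSetoid (FibOver k' aX J)), ((Nat.card (Aut q.out) : ℚ))⁻¹ =
        ∑ c, (Nat.card (fixPts π aX (a c)) : ℚ) / (Nat.card (fixGrp π (a c)) : ℚ) := by
  classical
  have : QuasiCompact G.hom := inferInstance
  have hfG := fun c => finite_fixGrp (G := G) π hπ (a c)
  have hfX := fun c => finite_fixPts (aX := aX) π hπ (a c)
  letI := fun c => Fintype.ofFinite (fixGrp π (a c))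
  letI := fun c => Fintype.ofFinite (fixPts π aX (a c))
  have hex := fun (c : C) (x : fixPts π aX (a c)) => exists_obj_of_frob (G := G) (aX := aX) π hπ hJ₁ (a c) x.1 x.2
  choose obj pt hpt hφ hrel using hex
  -- points of an object in the normal form
  have hnorm : ∀ A : (FibOver k' aX J), ∃ c p, p ≫ A.1.π = toPt k k' Kb ≫ eqToHom A.2.symm ∧
      lift (a c) (ptAut k π ≫ p) ≫ A.1.act.act = p := fun A => by
    obtain ⟨p, hp⟩ := exists_geomPt π hπ hJ₂ A
    obtain ⟨b, hb, -⟩ := geomPt_rel π A hp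
    have hb' : lift b (ptAut k π ≫ p ≫ A.1.φ) ≫ aX.act = p ≫ A.1.φ := by
      conv_rhs => rw [← hb, Category.assoc, A.1.eqv, lift_whiskerLeft_assoc, Category.assoc]
    obtain ⟨c, g, hg⟩ := hsurj b ⟨⟨_, hb'⟩⟩
    refine ⟨c, lift g p ≫ A.1.act.act, ?_, ?_⟩
    · rw [Category.assoc, A.1.cart.w, lift_snd_assoc, hp]
    · rw [hg]
      exact smul_rel π A.1.act hb
  have hiso : ∀ {A : (FibOver k' aX J)} {c} (x : fixPts π aX (a c)) (p : SGA7.pt (K := k) Kb ⟶ A.1.P),
      p ≫ A.1.π = toPt k k' Kb ≫ eqToHom A.2.symm → lift (a c) (ptAut k π ≫ p) ≫ A.1.act.act = p →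
      p ≫ A.1.φ = x.1 → ∃ f : obj c x ≅ A, pt c x ≫ f.hom.1.top = p := fun {A c} x p hp hr hx =>
    exists_iso_of_points π hπ (obj c x) A (hpt c x) hp (hrel c x) hr ((hφ c x).trans hx.symm)
  have hcomp : ∀ {c c'} (x : fixPts π aX (a c)) (x' : fixPts π aX (a c')) (f : obj c x ⟶ obj c' x'),
      ∃ h : c = c', ∃ g : fixGrp π (a c'), lift g.1 (pt c x ≫ f.1.top) ≫ (obj c' x').1.act.act = pt c' x' ∧
        g • (h ▸ x) = x' := by
    intro c c' x x' f
    have h1 := map_point (obj c x) (obj c' x') f (hpt c x)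
    obtain ⟨g, hg, -⟩ := exists_unique_elt (obj c' x').1 (pt c x ≫ f.1.top) (pt c' x') (h1.trans (hpt c' x').symm)
    have h2 := smul_rel π (obj c' x').1.act (g := g) (map_rel π _ _ f (hrel c x))
    rw [hg] at h2
    have h3 : g * a c * (ptAut k π ≫ g)⁻¹ = a c' := (geomPt_rel π _ (hpt c' x')).unique h2 (hrel c' x')
    obtain rfl := hinj c c' g h3.symm
    refine ⟨rfl, ⟨g, mem_fixGrp_of_twist π h3⟩, hg, Subtype.ext ?_⟩
    change lift g x.1 ≫ aX.act = x'.1
    have hf : pt c x ≫ f.1.top ≫ (obj c x').1.φ = x.1 := by rw [f.1.wφ, hφ]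
    rw [← hφ c x', ← hg, Category.assoc, (obj c x').1.eqv, lift_whiskerLeft_assoc, Category.assoc, hf]
  let Ω := fun c => MulAction.orbitRel.Quotient (fixGrp π (a c)) (fixPts π aX (a c))
  let Φ : (Σ c, Ω c) → Quotient (isIsomorphicSetoid (FibOver k' aX J)) := fun s =>
    Quotient.map' (obj s.1) (fun x y hxy => by
      obtain ⟨g, hg⟩ := MulAction.mem_orbit_iff.1 hxy
      obtain ⟨f, -⟩ := hiso (A := obj s.1 y) x (lift g.1 (pt s.1 y) ≫ (obj s.1 y).1.act.act)
        (by rw [Category.assoc, (obj s.1 y).1.cart.w, lift_snd_assoc, hpt])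
        (by
          have h := smul_rel π (obj s.1 y).1.act (g := g.1) (hrel s.1 y)
          rwa [fixGrp_twist π g.2] at h)
        (by rw [Category.assoc, (obj s.1 y).1.eqv, lift_whiskerLeft_assoc, hφ, ← hg]; rfl)
      exact ⟨f⟩) s.2
  have hΦ : Function.Bijective Φ := by
    refine ⟨?_, fun q => ?_⟩
    · rintro ⟨c, o⟩ ⟨c', o'⟩ e
      induction o using Quotient.inductionOn' with
      | h x =>
        induction o' using Quotient.inductionOn' with
        | h y =>
          obtain ⟨i⟩ := Quotient.eq''.1 e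
          obtain ⟨rfl, g, -, hg⟩ := hcomp x y i.hom
          exact congrArg (Sigma.mk c) (Quotient.eq''.2 (MulAction.mem_orbit_iff.2 ⟨g⁻¹, by rw [← hg, inv_smul_smul]⟩))
    · induction q using Quotient.inductionOn' with
      | h A =>
        obtain ⟨c, p, hp, hr⟩ := hnorm A
        have hx : lift (a c) (ptAut k π ≫ p ≫ A.1.φ) ≫ aX.act = p ≫ A.1.φ := by
          conv_rhs => rw [← hr, Category.assoc, A.1.eqv, lift_whiskerLeft_assoc, Category.assoc]
        obtain ⟨f, -⟩ := hiso (A := A) ⟨_, hx⟩ p hp hr rfl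
        exact ⟨⟨c, Quotient.mk'' ⟨_, hx⟩⟩, Quotient.eq''.2 ⟨f⟩⟩
  have hauto : ∀ {A B : (FibOver k' aX J)}, (A ≅ B) → Nat.card (Aut A) = Nat.card (Aut B) := fun e =>
    Nat.card_congr e.conjAut.toEquiv
  have haut : ∀ c (x : fixPts π aX (a c)), Nat.card (Aut (obj c x)) =
      Nat.card (MulAction.stabilizer (fixGrp π (a c)) x) ∧ Finite (Aut (obj c x)) := fun c x => by
    have hall : ∀ f : Aut (obj c x), ∃ g : MulAction.stabilizer (fixGrp π (a c)) x,
        lift g.1.1 (pt c x ≫ f.hom.1.top) ≫ (obj c x).1.act.act = pt c x := fun f => by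
      obtain ⟨_, g, hg, hgx⟩ := hcomp x x f.hom
      exact ⟨⟨g, hgx⟩, hg⟩
    choose F hF using hall
    have hb : Function.Bijective F := by
      refine ⟨fun f f' h => Iso.ext (hom_ext_of_point π hπ _ _ _ _ (hpt c x) ?_), fun g => ?_⟩
      · have h1 := hF f
        rw [h] at h1
        have h2 := congrArg (fun z => lift (F f').1.1⁻¹ z ≫ (obj c x).1.act.act) (h1.trans (hF f').symm)
        simpa only [← AlgGrp.Action.lift_mul_act, inv_mul_cancel, AlgGrp.Action.lift_one_act] using h2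
      · obtain ⟨f, hf⟩ := hiso (A := obj c x) x (lift g.1.1⁻¹ (pt c x) ≫ (obj c x).1.act.act)
          (by rw [Category.assoc, (obj c x).1.cart.w, lift_snd_assoc, hpt])
          (by
            have h := smul_rel π (obj c x).1.act (g := (g.1⁻¹).1) (hrel c x)
            rwa [fixGrp_twist π (g.1⁻¹).2] at h)
          (by
            rw [Category.assoc, (obj c x).1.eqv, lift_whiskerLeft_assoc, hφ]
            exact congrArg Subtype.val (show g.1⁻¹ • x = x from inv_smul_eq_iff.2 (MulAction.mem_stabilizer_iff.1 g.2).symm))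
        refine ⟨f, Subtype.ext (Subtype.ext ?_)⟩
        have h1 := hF f
        rw [hf, ← AlgGrp.Action.lift_mul_act] at h1
        have h2 := (exists_unique_elt (obj c x).1 (pt c x) (pt c x) rfl).unique h1
          (AlgGrp.Action.lift_one_act (obj c x).1.act (pt c x))
        exact mul_inv_eq_one.1 h2
    exact ⟨Nat.card_eq_of_bijective F hb, Finite.of_injective F hb.1⟩
  refine ⟨Finite.of_surjective Φ hΦ.2, fun A => ?_, ?_⟩
  · obtain ⟨⟨c, o⟩, ho⟩ := hΦ.2 (Quotient.mk'' A)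
    induction o using Quotient.inductionOn' with
    | h x =>
      obtain ⟨i⟩ := Quotient.eq''.1 ho
      have := (haut c x).2
      exact Finite.of_equiv _ i.conjAut.toEquiv
  rw [← finsum_comp (g := fun q => ((Nat.card (Aut q.out) : ℚ))⁻¹) Φ hΦ, finsum_eq_sum_of_fintype, Fintype.sum_sigma]
  refine Finset.sum_congr rfl fun c _ => ?_
  have hterm : ∀ o : Ω c, ((Nat.card (Aut (Φ ⟨c, o⟩).out) : ℚ))⁻¹ =
      (Nat.card (MulAction.orbit (fixGrp π (a c)) o.out) : ℚ) / (Nat.card (fixGrp π (a c)) : ℚ) := fun o => by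
    have e1 : Φ ⟨c, o⟩ = Quotient.mk'' (obj c o.out) := by
      conv_lhs => rw [← Quotient.out_eq' o]
      rfl
    obtain ⟨i⟩ : Nonempty ((Φ ⟨c, o⟩).out ≅ obj c o.out) :=
      Quotient.eq''.1 ((Quotient.out_eq' (Φ ⟨c, o⟩)).trans e1)
    rw [hauto i, (haut c o.out).1]
    have hos := MulAction.card_orbit_mul_card_stabilizer_eq_card_group (fixGrp π (a c)) o.out
    rw [← Nat.card_eq_fintype_card, ← Nat.card_eq_fintype_card, ← Nat.card_eq_fintype_card] at hos
    rw [← hos, Nat.cast_mul]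
    have : Nonempty (MulAction.orbit (fixGrp π (a c)) o.out) := ⟨⟨o.out, MulAction.mem_orbit_self _⟩⟩
    have h0 : (Nat.card (MulAction.orbit (fixGrp π (a c)) o.out) : ℚ) ≠ 0 := by exact_mod_cast (Nat.card_pos).ne'
    field_simp
  simp only [hterm]
  rw [← Finset.sum_div, ← Nat.cast_sum, ← Nat.card_sigma]
  congr 2
  exact Nat.card_congr (MulAction.selfEquivSigmaOrbits (fixGrp π (a c)) (fixPts π aX (a c))).symm

include hπ in
/-- The point count over the Frobenius classes which fix a point. -/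
theorem ptCount_eq' [IsAffineHom G.hom] [LocallyOfFiniteType G.hom] [LocallyOfFiniteType X.hom] [QuasiCompact X.hom]
    [J.IsStableUnderBaseChange] (hJ₁ : Scheme.etalePrecoverage ≤ J) (hJ₂ : J ≤ Scheme.fppfPrecoverage)
    {C : Type*} [Fintype C] (a : C → (SGA7.pt (K := k) Kb ⟶ G))
    (hsurj : ∀ b, Nonempty (fixPts π aX b) → ∃ c g, a c = g * b * (ptAut k π ≫ g)⁻¹)
    (hinj : ∀ c c' g, a c' = g * a c * (ptAut k π ≫ g)⁻¹ → c = c')
    (h : StkCnt.IsEssFinite (StkCnt.pts (QuotSt J G aX) k')) :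
    StkCnt.ptCount (QuotSt J G aX) k' h =
      ∑ c, (Nat.card (fixPts π aX (a c)) : ℚ) / (Nat.card (fixGrp π (a c)) : ℚ) := by
  obtain ⟨-, -, hm⟩ := classMass (J := J) π hπ aX hJ₁ hJ₂ a hsurj hinj
  haveI := h.finite_isoCl
  letI := Fintype.ofFinite (StkCnt.IsoCl (StkCnt.pts (QuotSt J G aX) k'))
  rw [← hm, StkCnt.ptCount, StkCnt.count_eq_sum, finsum_eq_sum_of_fintype]
  refine Finset.sum_congr rfl fun q _ => ?_
  conv_lhs => rw [← Quotient.out_eq q]
  rfl

include hπ in
/-- Finitely many isomorphism classes give finitely many Frobenius classes fixing a point. -/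
theorem exists_classes [IsAffineHom G.hom] [LocallyOfFiniteType G.hom] (hJ₁ : Scheme.etalePrecoverage ≤ J)
    (h : StkCnt.IsEssFinite (StkCnt.pts (QuotSt J G aX) k')) :
    ∃ (C : Type u) (_ : Fintype C) (a : C → (SGA7.pt (K := k) Kb ⟶ G)),
      (∀ c, Nonempty (fixPts π aX (a c))) ∧
      (∀ b, Nonempty (fixPts π aX b) → ∃ c g, a c = g * b * (ptAut k π ≫ g)⁻¹) ∧
      (∀ c c' g, a c' = g * a c * (ptAut k π ≫ g)⁻¹ → c = c') := by
  classical
  let B := {b : SGA7.pt (K := k) Kb ⟶ G // Nonempty (fixPts π aX b)}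
  let rel : Setoid B :=
    { r := fun b b' => ∃ g, b'.1 = g * b.1 * (ptAut k π ≫ g)⁻¹
      iseqv := ⟨fun b => ⟨1, by rw [MonObj.comp_one, inv_one, _root_.one_mul, _root_.mul_one]⟩,
        fun {b b'} ⟨g, hg⟩ => ⟨g⁻¹, by rw [hg, GrpObj.comp_inv]; group⟩,
        fun {b b' b''} ⟨g, hg⟩ ⟨g', hg'⟩ => ⟨g' * g, by rw [hg', hg, MonObj.comp_mul]; group⟩⟩ }
  have hobj := fun b : B => exists_obj_of_frob (G := G) (aX := aX) π hπ hJ₁ b.1 b.2.some.1 b.2.some.2
  choose obj pt hpt hφ hrel using hobj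
  haveI := h.finite_isoCl
  let Ψ : Quotient rel → StkCnt.IsoCl (StkCnt.pts (QuotSt J G aX) k') := fun q => Quotient.mk'' (obj q.out)
  haveI : Finite (Quotient rel) := by
    refine Finite.of_injective Ψ fun q q' hq => ?_
    obtain ⟨e⟩ := Quotient.eq''.1 hq
    rw [← Quotient.out_eq q, ← Quotient.out_eq q']
    refine Quotient.sound ?_
    obtain ⟨g, hg, -⟩ := exists_unique_elt (obj q'.out).1 (pt q.out ≫ e.hom.1.top) (pt q'.out)
      ((map_point (obj q.out) (obj q'.out) e.hom (hpt _)).trans (hpt _).symm)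
    have h2 := smul_rel π (obj q'.out).1.act (g := g) (map_rel π _ _ e.hom (hrel q.out))
    rw [hg] at h2
    exact ⟨g, ((geomPt_rel π _ (hpt q'.out)).unique h2 (hrel q'.out)).symm⟩
  refine ⟨Quotient rel, Fintype.ofFinite _, fun q => q.out.1, fun q => q.out.2, fun b hb => ?_, fun q q' g hg => ?_⟩
  · obtain ⟨g, hg⟩ : rel.r ⟨b, hb⟩ (Quotient.mk rel ⟨b, hb⟩).out := Quotient.exact (Quotient.out_eq _).symm
    exact ⟨Quotient.mk rel ⟨b, hb⟩, g, hg⟩
  · rw [← Quotient.out_eq q, ← Quotient.out_eq q']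
    exact Quotient.sound ⟨g, hg⟩

include hπ in
/-- The point count over Frobenius classes. -/
theorem ptCount_eq [IsAffineHom G.hom] [LocallyOfFiniteType G.hom] [LocallyOfFiniteType X.hom] [QuasiCompact X.hom]
    [J.IsStableUnderBaseChange] (hJ₁ : Scheme.etalePrecoverage ≤ J) (hJ₂ : J ≤ Scheme.fppfPrecoverage)
    {C : Type*} [Fintype C] (a : C → (SGA7.pt (K := k) Kb ⟶ G))
    (hsurj : ∀ b, ∃ c g, a c = g * b * (ptAut k π ≫ g)⁻¹)
    (hinj : ∀ c c' g, a c' = g * a c * (ptAut k π ≫ g)⁻¹ → c = c')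
    (h : StkCnt.IsEssFinite (StkCnt.pts (QuotSt J G aX) k')) :
    StkCnt.ptCount (QuotSt J G aX) k' h =
      ∑ c, (Nat.card (fixPts π aX (a c)) : ℚ) / (Nat.card (fixGrp π (a c)) : ℚ) := by
  exact ptCount_eq' π hπ aX hJ₁ hJ₂ a (fun b _ => hsurj b) hinj h

end Groth.Agent.H14Count
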