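import Groth.Prelude.Def_SGA7a
import Groth.Agent.H13Desc.GaloisHom
import Mathlib

/-!
# Descent of morphisms along a finite Galois extension, over a smaller base field
-/

set_option autoImplicit false
set_option linter.unusedVariables false
set_option backward.isDefEq.respectTransparency false
set_option backward.isDefEq.respectTransparency.types false

universe u

open CategoryTheory CategoryTheory.Limits AlgebraicGeometry

noncomputable section

namespace Groth.Agent.H14Count

variable (k : Type u) [Field k] (k' : Type u) [Field k'] [Algebra k k'] (K : Type u) [Field K]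
  [Algebra k K] [Algebra k' K] [IsScalarTower k k' K]

/-- The map of points given by a field extension. -/
def toPt : SGA7.pt (K := k) K ⟶ SGA7.pt (K := k) k' :=
  Over.homMk (Spec.map (CommRingCat.ofHom (algebraMap k' K))) (by
    change Spec.map _ ≫ Spec.map _ = Spec.map _
    rw [← Spec.map_comp, ← CommRingCat.ofHom_comp, ← IsScalarTower.algebraMap_eq])

variable {k k' K}

variable (k) in
/-- The morphism of points given by an automorphism of a field extension. -/
def ptAut (σ : K ≃ₐ[k'] K) : SGA7.pt (K := k) K ⟶ SGA7.pt (K := k) K :=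
  SGA7.specAut (σ.restrictScalars k)

lemma ptAut_left (σ : K ≃ₐ[k'] K) :
    (ptAut k σ).left = Spec.map (CommRingCat.ofHom (σ : K →ₐ[k'] K).toRingHom) := rfl

@[simp]
lemma ptAut_one : ptAut k (1 : K ≃ₐ[k'] K) = 𝟙 _ := by
  ext : 1
  change Spec.map (CommRingCat.ofHom (RingHom.id K)) = _
  rw [CommRingCat.ofHom_id]
  exact Spec.map_id _

lemma ptAut_mul (σ τ : K ≃ₐ[k'] K) : ptAut k (σ * τ) = ptAut k σ ≫ ptAut k τ := by
  ext : 1
  rw [Over.comp_left, ptAut_left, ptAut_left, ptAut_left, ← Spec.map_comp]
  rfl

@[simp]
lemma ptAut_toPt (σ : K ≃ₐ[k'] K) : ptAut k σ ≫ toPt k k' K = toPt k k' K := by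
  ext : 1
  rw [Over.comp_left, ptAut_left]
  change Spec.map _ ≫ Spec.map _ = Spec.map _
  rw [← Spec.map_comp]
  congr 1
  ext x
  exact σ.commutes x

variable
  {W W' : Over (Spec (CommRingCat.of k))} {q : W' ⟶ W} {r : W' ⟶ SGA7.pt (K := k) K} {π : W ⟶ SGA7.pt (K := k) k'}

/-- The base change along a finite field extension is cancellable. -/
theorem epi_of_isPullback (h : IsPullback q r π (toPt k k' K)) : Epi q := by
  have h' : IsPullback q.left r.left π.left (toPt k k' K).left := h.map (Over.forget _)
  have hc1 : Flat (toPt k k' K).left :=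
    Flat.SpecMap_iff.mpr (RingHom.flat_algebraMap_iff.mpr (inferInstance : Module.Flat k' K))
  have hc2 : Surjective (toPt k k' K).left := ⟨fun y => ⟨IsLocalRing.closedPoint K, Subsingleton.elim (α := PrimeSpectrum k') _ _⟩⟩
  have hc3 : QuasiCompact (toPt k k' K).left :=
    inferInstanceAs (QuasiCompact (Spec.map (CommRingCat.ofHom (algebraMap k' K))))
  have : Flat q.left := MorphismProperty.of_isPullback (P := @Flat) h'.flip hc1
  have : Surjective q.left := MorphismProperty.of_isPullback (P := @Surjective) h'.flip hc2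
  have : QuasiCompact q.left := MorphismProperty.of_isPullback (P := @QuasiCompact) h'.flip hc3
  have : Epi q.left := inferInstance
  exact ⟨fun a b hab => Over.OverMorphism.ext ((cancel_epi q.left).1 (congrArg (fun m => m.left) hab))⟩

/-- An invariant morphism out of a base change along a finite Galois extension descends. -/
theorem exists_desc_of_isPullback [FiniteDimensional k' K] [IsGalois k' K] (h : IsPullback q r π (toPt k k' K))
    (d : (K ≃ₐ[k'] K) → (W' ⟶ W')) (hq : ∀ σ, d σ ≫ q = q) (hr : ∀ σ, d σ ≫ r = r ≫ ptAut k σ)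
    {Z : Over (Spec (CommRingCat.of k))} (f : W' ⟶ Z) (hf : ∀ σ, d σ ≫ f = f) : ∃ g : W ⟶ Z, q ≫ g = f := by
  have h' : IsPullback q.left r.left π.left (Spec.map (CommRingCat.ofHom (algebraMap k' K))) := h.map (Over.forget _)
  let j := h'.isoPullback
  obtain ⟨g, hg⟩ := H13Desc.GaloisHom.exists_desc (k := k') (K := K) π.left (fun σ => j.inv ≫ (d σ).left ≫ j.hom)
    (fun σ => by
      rw [Category.assoc, Category.assoc, h'.isoPullback_hom_fst, ← Over.comp_left, hq]
      exact h'.isoPullback_inv_fst)
    (fun σ => by
      rw [Category.assoc, Category.assoc, h'.isoPullback_hom_snd, ← Over.comp_left, hr, Over.comp_left, ← Category.assoc,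
        h'.isoPullback_inv_snd, ptAut_left])
    (j.inv ≫ f.left) (fun σ => by
      rw [Category.assoc, Category.assoc, Iso.hom_inv_id_assoc, ← Over.comp_left, hf])
  have hg' : q.left ≫ g = f.left := by
    rw [← h'.isoPullback_hom_fst, Category.assoc, hg, Iso.hom_inv_id_assoc]
  have := epi_of_isPullback h
  refine ⟨Over.homMk g ?_, Over.OverMorphism.ext hg'⟩
  have hc1 : Flat (toPt k k' K).left :=
    Flat.SpecMap_iff.mpr (RingHom.flat_algebraMap_iff.mpr (inferInstance : Module.Flat k' K))
  have hc2 : Surjective (toPt k k' K).left := ⟨fun y => ⟨IsLocalRing.closedPoint K, Subsingleton.elim (α := PrimeSpectrum k') _ _⟩⟩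
  have hc3 : QuasiCompact (toPt k k' K).left :=
    inferInstanceAs (QuasiCompact (Spec.map (CommRingCat.ofHom (algebraMap k' K))))
  have : Flat q.left := MorphismProperty.of_isPullback (P := @Flat) h'.flip hc1
  have : Surjective q.left := MorphismProperty.of_isPullback (P := @Surjective) h'.flip hc2
  have : QuasiCompact q.left := MorphismProperty.of_isPullback (P := @QuasiCompact) h'.flip hc3
  rw [← cancel_epi q.left, ← Category.assoc, hg', Over.w f, Over.w q]

end Groth.Agent.H14Count
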