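import Groth.Agent.H14Count.Mass
import Groth.Agent.H14Quot.Etale

/-!
# Objects of a quotient stack over an algebraically closed point
-/

set_option autoImplicit false
set_option linter.unusedVariables false
set_option backward.isDefEq.respectTransparency false
set_option backward.isDefEq.respectTransparency.types false

universe u

open CategoryTheory CategoryTheory.Functor CategoryTheory.Limits MonoidalCategory CartesianMonoidalCategory MonObj GrpObj
open AlgebraicGeometry

noncomputable section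

namespace Groth.Agent.H14Count

open H14Quot AlgSt

attribute [local instance 2000] Hom.group Hom.monoid

variable {S : Scheme.{u}}

/-- A locally trivial torsor over an algebraically closed point has a section. -/
theorem exists_section_algClosed {K : Type u} [Field K] [IsAlgClosed K] {P T : Over S} (π : P ⟶ T)
    (e : T.left ≅ Spec (CommRingCat.of K))
    (h : NonAbH1.IsLocallyTrivialFor Scheme.etalePrecoverage (Over.mk π.left : Over T.left)) :
    ∃ t : T ⟶ P, t ≫ π = 𝟙 T := by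
  obtain ⟨R, hR, hs⟩ := h
  obtain ⟨κ, Z, g, rfl⟩ := Presieve.exists_eq_ofArrows R
  obtain ⟨hsurj, hprop⟩ := (Scheme.ofArrows_mem_precoverage_iff @Etale).1 hR
  obtain ⟨i, hi⟩ := hsurj (e.inv (IsLocalRing.closedPoint K))
  have : Etale (g i) := hprop i
  have hsub : Subsingleton T.left := e.hom.homeomorph.injective.subsingleton
  have : Surjective (g i) := ⟨fun s => by
    obtain ⟨z, hz⟩ := hi
    exact ⟨z, Subsingleton.elim _ _⟩⟩
  obtain ⟨z, hz⟩ := exists_lift_point (g i) e.inv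
  obtain ⟨s, hsi⟩ := hs (g i) ⟨i⟩
  change s ≫ π.left = g i at hsi
  have h1 : (e.hom ≫ z ≫ s) ≫ π.left = 𝟙 T.left := by
    rw [Category.assoc, Category.assoc, hsi, hz, e.hom_inv_id]
  refine ⟨Over.homMk (e.hom ≫ z ≫ s) ?_, Over.OverMorphism.ext h1⟩
  rw [← Over.w π, ← Category.assoc, h1, Category.id_comp]

variable {K : Precoverage Scheme.{u}} [K.IsStableUnderBaseChange] [K.HasIsos]
  {G X : Over S} [GrpObj G] {aX : AlgGrp.Action G X} {T : Over S}

/-- A section identifies an object with the trivial one of its point. -/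
theorem nonempty_iso_triv (A : (QuotObj.forget K G aX).Fiber T) (t : T ⟶ A.1.P) (ht : t ≫ A.1.π = eqToHom A.2.symm)
    {x : T ⟶ X} (hx : t ≫ A.1.φ = x) :
    Nonempty (Functor.Fiber.mk (p := QuotObj.forget K G aX) (a := triv K G aX x) (S := T) rfl ≅ A) := by
  let φ : triv K G aX x ⟶ A.1 := homOfSec t hx
  have hl : (QuotObj.forget K G aX).IsHomLift (𝟙 T) φ :=
    IsHomLift.of_fac' _ _ _ rfl A.2 (by
      change t ≫ A.1.π = 𝟙 _ ≫ 𝟙 _ ≫ eqToHom A.2.symm
      rw [Category.id_comp, Category.id_comp, ht])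
  have : IsIso φ := H14Fib.isIso_of_fibGrpd (quotSt_fibGrpd (K := K) (G := G) (aX := aX)) (𝟙 T) φ
  exact ⟨⟨@Functor.Fiber.homMk _ _ _ _ _ _ _ _ φ hl,
    @Functor.Fiber.homMk _ _ _ _ _ _ _ _ (inv φ) (IsHomLift.lift_id_inv_isIso (QuotObj.forget K G aX) _ φ),
    Functor.Fiber.hom_ext (IsIso.hom_inv_id φ), Functor.Fiber.hom_ext (IsIso.inv_hom_id φ)⟩⟩

/-- Isomorphy of objects with sections is having points in one orbit. -/
theorem nonempty_iso_iff_orbit (A B : (QuotObj.forget K G aX).Fiber T) (tA : T ⟶ A.1.P) (tB : T ⟶ B.1.P)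
    (hA : tA ≫ A.1.π = eqToHom A.2.symm) (hB : tB ≫ B.1.π = eqToHom B.2.symm) :
    Nonempty (A ≅ B) ↔ ∃ g : T ⟶ G, lift g (tA ≫ A.1.φ) ≫ aX.act = tB ≫ B.1.φ := by
  constructor
  · rintro ⟨e⟩
    let f : A.1 ⟶ B.1 := e.hom.1
    have hfb : f.base = eqToHom A.2 ≫ eqToHom B.2.symm := by
      have := @IsHomLift.fac' _ _ _ _ (QuotObj.forget K G aX) _ _ _ _ (𝟙 T) f e.hom.2
      rw [Category.id_comp] at this
      exact this
    have hb : tB ≫ B.1.π = (tA ≫ f.top) ≫ B.1.π := by
      rw [hB, Category.assoc, f.cart.w, ← Category.assoc, hA, hfb]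
      simp
    let k := B.1.cart.lift tB (tA ≫ f.top) hb
    refine ⟨k ≫ fst G B.1.P, ?_⟩
    have hk : lift (k ≫ fst G B.1.P) (tA ≫ f.top) ≫ B.1.act.act = tB := by
      have : lift (k ≫ fst G B.1.P) (tA ≫ f.top) = k := CartesianMonoidalCategory.hom_ext _ _ (lift_fst _ _)
        ((lift_snd _ _).trans (IsPullback.lift_snd _ _ _ _).symm)
      rw [this]
      exact IsPullback.lift_fst _ _ _ _
    conv_rhs => rw [← hk, Category.assoc, B.1.eqv, lift_whiskerLeft_assoc, Category.assoc, f.wφ]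
  · rintro ⟨g, hg⟩
    let σ : T ⟶ B.1.P := lift g⁻¹ tB ≫ B.1.act.act
    have hσπ : σ ≫ B.1.π = eqToHom B.2.symm := by
      rw [Category.assoc, B.1.cart.w, lift_snd_assoc, hB]
    have hσφ : σ ≫ B.1.φ = tA ≫ A.1.φ := by
      rw [Category.assoc, B.1.eqv, lift_whiskerLeft_assoc, ← hg, ← AlgGrp.Action.lift_mul_act, inv_mul_cancel,
        AlgGrp.Action.lift_one_act]
    obtain ⟨i⟩ := nonempty_iso_triv A tA hA (x := tA ≫ A.1.φ) rfl
    obtain ⟨j⟩ := nonempty_iso_triv B σ hσπ hσφ
    exact ⟨i.symm ≪≫ j⟩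

end Groth.Agent.H14Count
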