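import Groth.Agent.H14Count.ClassMass
import Mathlib.AlgebraicGeometry.Morphisms.Finite

/-!
# The mass of the classifying stack of a finite group scheme over a finite field is one
-/

set_option autoImplicit false
set_option linter.unusedVariables false
set_option linter.unusedSectionVars false
set_option backward.isDefEq.respectTransparency false
set_option backward.isDefEq.respectTransparency.types false

universe u

open CategoryTheory CategoryTheory.Functor CategoryTheory.Limits MonoidalCategory CartesianMonoidalCategory MonObj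
open AlgebraicGeometry AlgSt

noncomputable section

namespace Groth.Agent.H14Count

attribute [local instance 2000] Hom.group Hom.monoid

variable {k : Type u} [Field k] {k' : Type u} [Field k'] [Algebra k k'] [Finite k']
  {Kb : Type u} [Field Kb] [IsAlgClosed Kb] [Algebra k Kb] [Algebra k' Kb] [IsScalarTower k k' Kb]
  [Algebra.IsAlgebraic k' Kb]

/-- A finite scheme over a field has finitely many points in a field. -/
theorem finite_points_of_isFinite (Y : Over (Spec (CommRingCat.of k))) [IsFinite Y.hom] :
    Finite (SGA7.pt (K := k) Kb ⟶ Y) := by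
  classical
  have : IsAffine Y.left := isAffine_of_isAffineHom Y.hom
  obtain ⟨s, hs⟩ := exists_eval k (Kb := Kb) Y.hom
  have hint : Y.hom.appTop.hom.IsIntegral :=
    RingHom.IsIntegral.of_finite ((HasAffineProperty.iff_of_isAffine (P := @IsFinite)).1 inferInstance).2
  let χ : Γ(Spec (CommRingCat.of k), ⊤) →+* Kb :=
    ((SGA7.pt (K := k) Kb).hom.appTop ≫ (Scheme.ΓSpecIso (CommRingCat.of Kb)).hom).hom
  choose P hP using hint
  have hroot : ∀ (y : SGA7.pt (K := k) Kb ⟶ Y) (x : Γ(Y.left, ⊤)),
      evalAt y.left x ∈ ((P x).map χ).roots.toFinset := fun y x => by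
    rw [Multiset.mem_toFinset, Polynomial.mem_roots ((hP x).1.map χ).ne_zero, Polynomial.IsRoot.def,
      Polynomial.eval_map]
    let E : Γ(Y.left, ⊤) →+* Kb := (y.left.appTop ≫ (Scheme.ΓSpecIso (CommRingCat.of Kb)).hom).hom
    have h1 : E.comp Y.hom.appTop.hom = χ := by
      have h2 := congrArg Scheme.Hom.appTop (Over.w y)
      rw [Scheme.Hom.comp_appTop] at h2
      change ((Y.hom.appTop ≫ y.left.appTop ≫ (Scheme.ΓSpecIso (CommRingCat.of Kb)).hom)).hom = _
      rw [← Category.assoc, h2]
    change Polynomial.eval₂ χ (E x) (P x) = 0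
    rw [← h1, ← Polynomial.hom_eval₂, (hP x).2, map_zero]
  let Φ : (SGA7.pt (K := k) Kb ⟶ Y) → ((x : ↥s) → ↥((P x.1).map χ).roots.toFinset) := fun y x => ⟨_, hroot y x.1⟩
  refine Finite.of_injective Φ fun y y' h => Over.OverMorphism.ext (hs _ _ ((Over.w y).trans (Over.w y').symm) ?_)
  exact fun x hx => eq_of_evalAt (congrArg Subtype.val (congrFun h ⟨x, hx⟩))

variable (π : Kb ≃ₐ[k'] Kb) (hπ : ∀ x : Kb, π x = x ^ Nat.card k')
  {G : Over (Spec (CommRingCat.of k))} [GrpObj G]

/-- The twisted classes of an endomorphism of a finite group. -/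
theorem exists_twisted_classes {A : Type u} [Group A] [Finite A] (f : A →* A) :
    ∃ (C : Type u) (_ : Fintype C) (a : C → A), (∀ b, ∃ c g, a c = g * b * (f g)⁻¹) ∧
      (∀ c c' g, a c' = g * a c * (f g)⁻¹ → c = c') ∧
      ∑ c, (1 : ℚ) / (Nat.card {g : A // g * a c = a c * f g} : ℚ) = 1 := by
  classical
  let act : A → A → A := fun g b => g * b * (f g)⁻¹
  let rel : Setoid A :=
    { r := fun x y => ∃ g, y = act g x
      iseqv :=
        { refl := fun x => ⟨1, by simp [act]⟩
          symm := by
            rintro x y ⟨g, rfl⟩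
            exact ⟨g⁻¹, by simp only [act, _root_.map_inv]; group⟩
          trans := by
            rintro x y z ⟨g, rfl⟩ ⟨h, rfl⟩
            exact ⟨h * g, by simp only [act, map_mul]; group⟩ } }
  letI := Fintype.ofFinite A
  letI : Fintype (Quotient rel) := Fintype.ofFinite _
  refine ⟨Quotient rel, inferInstance, Quotient.out, fun b => ?_, fun c c' g hg => ?_, ?_⟩
  · obtain ⟨g, hg⟩ := rel.iseqv.symm (Quotient.mk_out (s := rel) b)
    exact ⟨Quotient.mk rel b, g, hg⟩
  · rw [← Quotient.out_eq c, ← Quotient.out_eq c']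
    exact Quotient.sound ⟨g, hg⟩
  have key : ∀ c : Quotient rel,
      Nat.card {g : A // g * c.out = c.out * f g} * Nat.card {b : A // Quotient.mk rel b = c} = Nat.card A := fun c => by
    have hfib : ∀ b : {b : A // Quotient.mk rel b = c}, ∃ g, b.1 = act g c.out := fun b =>
      Quotient.exact (s := rel) ((Quotient.out_eq c).trans b.2.symm)
    choose s hs using hfib
    let cl : A → {b : A // Quotient.mk rel b = c} := fun g => ⟨act g c.out,
      (Quotient.sound (s := rel) ⟨g, rfl⟩ : Quotient.mk rel c.out = Quotient.mk rel (act g c.out)).symm.trans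
        (Quotient.out_eq c)⟩
    have hst : ∀ g, act g c.out = c.out ↔ g * c.out = c.out * f g := fun g => mul_inv_eq_iff_eq_mul
    have hm0 : ∀ x y z, act (x * y) z = act x (act y z) := fun x y z => by simp only [act, map_mul]; group
    let e : A ≃ {g : A // g * c.out = c.out * f g} × {b : A // Quotient.mk rel b = c} :=
      { toFun := fun g => (⟨(s (cl g))⁻¹ * g, (hst _).1 (by
          have h := (hs (cl g)).symm
          have hm : ∀ x y z, act (x * y) z = act x (act y z) := fun x y z => by simp only [act, map_mul]; group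
          rw [hm, show act g c.out = (cl g).1 from rfl, ← h, ← hm, inv_mul_cancel]
          simp [act])⟩, cl g)
        invFun := fun q => s q.2 * q.1.1
        left_inv := fun g => mul_inv_cancel_left _ _
        right_inv := fun q => by
          have hcl : cl (s q.2 * q.1.1) = q.2 := Subtype.ext (by
            change act (s q.2 * q.1.1) c.out = q.2.1
            have h1 : act q.1.1 c.out = c.out := (hst _).2 q.1.2
            exact (hm0 _ _ _).trans ((congrArg (act (s q.2)) h1).trans (hs q.2).symm))
          refine Prod.ext (Subtype.ext ?_) hcl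
          change (s (cl (s q.2 * q.1.1)))⁻¹ * (s q.2 * q.1.1) = q.1.1
          rw [hcl, inv_mul_cancel_left] }
    rw [← Nat.card_prod]
    exact (Nat.card_congr e).symm
  have hpos : (Nat.card A : ℚ) ≠ 0 := by exact_mod_cast (Nat.card_pos (α := A)).ne'
  have hterm : ∀ c : Quotient rel, (1 : ℚ) / (Nat.card {g : A // g * c.out = c.out * f g} : ℚ) =
      (Nat.card {b : A // Quotient.mk rel b = c} : ℚ) / (Nat.card A : ℚ) := fun c => by
    have : Nonempty {g : A // g * c.out = c.out * f g} := ⟨⟨1, by simp⟩⟩
    have h0 : (Nat.card {g : A // g * c.out = c.out * f g} : ℚ) ≠ 0 := by exact_mod_cast (Nat.card_pos).ne'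
    rw [div_eq_div_iff h0 hpos, _root_.one_mul, _root_.mul_comm, ← Nat.cast_mul, key c]
  simp only [hterm]
  rw [← Finset.sum_div, ← Nat.cast_sum, ← Nat.card_sigma, Nat.card_congr (Equiv.sigmaFiberEquiv (Quotient.mk rel))]
  exact div_self hpos

variable (k) in
/-- Frobenius on the geometric points of a group. -/
def ptHom (G : Over (Spec (CommRingCat.of k))) [GrpObj G] :
    (SGA7.pt (K := k) Kb ⟶ G) →* (SGA7.pt (K := k) Kb ⟶ G) :=
  MonoidHom.mk' (fun g => ptAut k π ≫ g) (fun g h => MonObj.comp_mul _ _ _)

include hπ in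
/-- The mass of the classifying stack of a finite group over a finite field is one. -/
theorem finiteGroupMass [IsFinite G.hom] {J : Precoverage Scheme.{u}} [J.IsStableUnderBaseChange]
    (hJ₁ : Scheme.etalePrecoverage ≤ J) (hJ₂ : J ≤ Scheme.fppfPrecoverage) :
    Finite (Quotient (isIsomorphicSetoid (FibOver k' (trivAction G) J))) ∧
      (∀ A : FibOver k' (trivAction G) J, Finite (Aut A)) ∧
      ∑ᶠ q : Quotient (isIsomorphicSetoid (FibOver k' (trivAction G) J)), ((Nat.card (Aut q.out) : ℚ))⁻¹ = 1 := by
  have : Finite (SGA7.pt (K := k) Kb ⟶ G) := finite_points_of_isFinite (Kb := Kb) G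
  obtain ⟨C, _, a, hs, hi, hsum⟩ := exists_twisted_classes (ptHom k π G)
  haveI : IsIso (𝟙_ (Over (Spec (CommRingCat.of k)))).hom :=
    inferInstanceAs (IsIso (𝟙 (Spec (CommRingCat.of k))))
  obtain ⟨h1, h2, h3⟩ := classMass (J := J) π hπ (trivAction G) hJ₁ hJ₂ a (fun b _ => hs b) hi
  refine ⟨h1, h2, (h3.trans (Finset.sum_congr rfl fun c _ => ?_)).trans hsum⟩
  have hsub : Subsingleton (fixPts π (trivAction G) (a c)) := ⟨fun x y => Subtype.ext (toUnit_unique _ _)⟩
  have hne : Nonempty (fixPts π (trivAction G) (a c)) := ⟨⟨toUnit _, toUnit_unique _ _⟩⟩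
  rw [Nat.card_unique, Nat.cast_one]
  rfl

variable (k' Kb) in
/-- The Frobenius automorphism of an algebraic closure of a finite field. -/
theorem exists_frobenius : ∃ π : Kb ≃ₐ[k'] Kb, ∀ x : Kb, π x = x ^ Nat.card k' := by
  letI := Fintype.ofFinite k'
  exact ⟨FiniteField.frobeniusAlgEquivOfAlgebraic k' Kb, fun x => by rw [Nat.card_eq_fintype_card]; rfl⟩

end Groth.Agent.H14Count
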