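import Groth.Agent.S3934
import Mathlib.AlgebraicGeometry.AlgClosed.Basic
import Mathlib.AlgebraicGeometry.ResidueField
import Mathlib.FieldTheory.Finite.Basic

/-!
# Points of torsors under connected groups over finite fields
-/

set_option autoImplicit false
set_option linter.unusedVariables false
set_option backward.isDefEq.respectTransparency false
set_option backward.isDefEq.respectTransparency.types false

universe u

open CategoryTheory CategoryTheory.Limits MonoidalCategory CartesianMonoidalCategory MonObj GrpObj
open AlgebraicGeometry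

noncomputable section

namespace Groth.Agent.H14Count

/-- A surjective morphism locally of finite type lifts algebraically closed points. -/
theorem exists_lift_point {W V : Scheme.{u}} (f : W ⟶ V) [LocallyOfFiniteType f] [Surjective f] {K : Type u} [Field K]
    [IsAlgClosed K] (y : Spec (CommRingCat.of K) ⟶ V) : ∃ x : Spec (CommRingCat.of K) ⟶ W, x ≫ f = y := by
  let p : pullback f y ⟶ Spec (CommRingCat.of K) := pullback.snd f y
  have : JacobsonSpace (pullback f y : Scheme) := LocallyOfFiniteType.jacobsonSpace p
  obtain ⟨w, -⟩ := p.surjective (IsLocalRing.closedPoint K)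
  obtain ⟨c, -, hc⟩ := nonempty_inter_closedPoints (Z := (Set.univ : Set (pullback f y : Scheme))) ⟨w, trivial⟩
    isOpen_univ.isLocallyClosed
  refine ⟨pointOfClosedPoint p c hc ≫ pullback.fst f y, ?_⟩
  rw [Category.assoc, pullback.condition, ← Category.assoc, pointOfClosedPoint_comp, Category.id_comp]

/-- The solutions of `x ^ q = x` form the finite field. -/
theorem mem_range_of_pow_eq {F : Type u} [Field F] [Finite F] {K : Type u} [Field K] [Algebra F K] {x : K}
    (hx : x ^ Nat.card F = x) : x ∈ Set.range (algebraMap F K) := by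
  classical
  letI := Fintype.ofFinite F
  rw [Nat.card_eq_fintype_card] at hx
  let p : Polynomial K := Polynomial.X ^ Fintype.card F - Polynomial.X
  have hp : p ≠ 0 := FiniteField.X_pow_card_sub_X_ne_zero K Fintype.one_lt_card
  have hsub : (Finset.univ.image (algebraMap F K)).val ≤ p.roots :=
    (Multiset.le_iff_subset (Finset.nodup _)).2 fun a ha => by
      obtain ⟨c, -, rfl⟩ := Finset.mem_image.1 ha
      rw [Polynomial.mem_roots hp]
      simp [p, ← map_pow, FiniteField.pow_card]
  have hcard : p.roots.card ≤ Fintype.card F := (Polynomial.card_roots' p).trans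
    (FiniteField.X_pow_card_sub_X_natDegree_eq K Fintype.one_lt_card).le
  have heq : (Finset.univ.image (algebraMap F K)).val = p.roots := by
    refine Multiset.eq_of_le_of_card_le hsub (hcard.trans ?_)
    rw [Finset.card_val, Finset.card_image_of_injective _ (algebraMap F K).injective, Finset.card_univ]
  have hxr : x ∈ p.roots := by
    rw [Polynomial.mem_roots hp]
    simp [p, hx]
  rw [← heq] at hxr
  obtain ⟨c, -, rfl⟩ := Finset.mem_image.1 hxr
  exact ⟨c, rfl⟩

variable {F : Type u} [Field F] [Finite F]

/-- The point of the base. -/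
abbrev basePt : Over (Spec (CommRingCat.of F)) := Over.mk (𝟙 _)

variable (F) in
/-- The geometric point of the base. -/
abbrev geomPt : Over (Spec (CommRingCat.of F)) :=
  Over.mk (Spec.map (CommRingCat.ofHom (algebraMap F (AlgebraicClosure F))))

variable (F) in
/-- The Frobenius of the geometric point. -/
def geomFrob : geomPt F ⟶ geomPt F :=
  letI := Fintype.ofFinite F
  Over.homMk (Spec.map (CommRingCat.ofHom (FiniteField.frobeniusAlgHom F (AlgebraicClosure F)).toRingHom)) (by
    change Spec.map _ ≫ Spec.map _ = Spec.map _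
    rw [← Spec.map_comp]
    congr 1
    ext c
    exact (FiniteField.frobeniusAlgHom F (AlgebraicClosure F)).commutes c)

lemma geomFrob_appTop (a : Γ((geomPt F).left, ⊤)) : (geomFrob F).left.appTop a = a ^ Nat.card F := by
  letI := Fintype.ofFinite F
  let e := Scheme.ΓSpecIso (CommRingCat.of (AlgebraicClosure F))
  obtain ⟨c, rfl⟩ : ∃ c, e.inv.hom c = a := ⟨e.hom.hom a, congrArg (fun g => g.hom a) e.hom_inv_id⟩
  rw [Nat.card_eq_fintype_card]
  refine Eq.trans ?_ (e.inv.hom.map_pow c (Fintype.card F))
  exact (congrArg (fun g => g.hom c)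
    (Scheme.ΓSpecIso_inv_naturality (CommRingCat.ofHom (FiniteField.frobeniusAlgHom F (AlgebraicClosure F)).toRingHom))).symm

variable {G : Over (Spec (CommRingCat.of F))} [GrpObj G]

attribute [local instance 2000] Hom.group Hom.monoid

/-- Lang: every geometric point is a difference of a point and its Frobenius translate. -/
theorem exists_lang [IsAffineHom G.hom] [Smooth G.hom] [ConnectedSpace G.left] (g : geomPt F ⟶ G) :
    ∃ h : geomPt F ⟶ G, h * (geomFrob F ≫ h)⁻¹ = g := by
  have : IsAffine G.left := isAffine_of_isAffineHom G.hom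
  obtain ⟨Fr, hFr⟩ := Groth.Agent.S3934.exists_frob_factor G
  have hnat : ∀ h : geomPt F ⟶ G, geomFrob F ≫ h = h ≫ Fr := fun h => by
    refine Over.OverMorphism.ext ?_
    change (geomFrob F).left ≫ h.left = h.left ≫ Fr.left
    apply ext_of_isAffine
    rw [Scheme.Hom.comp_appTop, Scheme.Hom.comp_appTop]
    ext s
    change (geomFrob F).left.appTop (h.left.appTop s) = h.left.appTop (Fr.left.appTop s)
    rw [geomFrob_appTop, hFr, map_pow]
  let L : G ⟶ G := 𝟙 G * Fr⁻¹
  have : Surjective L.left := Groth.Agent.S3934.result F G Fr hFr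
  have : LocallyOfFiniteType (L.left ≫ G.hom) := by rw [Over.w L]; infer_instance
  have : LocallyOfFiniteType L.left := locallyOfFiniteType_of_comp L.left G.hom
  obtain ⟨x, hx⟩ := exists_lift_point L.left g.left
  let h : geomPt F ⟶ G := Over.homMk x (by
    rw [← Over.w L, ← Category.assoc, hx]
    exact Over.w g)
  refine ⟨h, ?_⟩
  rw [hnat]
  have e : h ≫ L = h * (h ≫ Fr)⁻¹ := by
    rw [MonObj.comp_mul, Category.comp_id, GrpObj.comp_inv]
  rw [← e]
  exact Over.OverMorphism.ext hx

/-- A geometric point fixed by Frobenius comes from a rational point. -/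
theorem exists_of_fixed {Y : Over (Spec (CommRingCat.of F))} (y : geomPt F ⟶ Y) (hy : geomFrob F ≫ y = y) :
    Nonempty (basePt (F := F) ⟶ Y) := by
  letI := Fintype.ofFinite F
  let K := AlgebraicClosure F
  let fr := CommRingCat.ofHom (FiniteField.frobeniusAlgHom F K).toRingHom
  have h0 : y.left = Spec.map (Scheme.SpecToEquivOfField K Y.left y.left).2 ≫
      Y.left.fromSpecResidueField (Scheme.SpecToEquivOfField K Y.left y.left).1 :=
    ((Scheme.SpecToEquivOfField K Y.left).left_inv y.left).symm
  obtain ⟨p, ι', hι'⟩ : ∃ (p : Y.left) (ι' : Y.left.residueField p ⟶ CommRingCat.of K),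
      y.left = Spec.map ι' ≫ Y.left.fromSpecResidueField p := ⟨_, _, h0⟩
  have hfix : ι' ≫ fr = ι' := by
    have h1 : Spec.map fr ≫ y.left = y.left := congrArg (fun k => Over.Hom.left k) hy
    rw [hι', ← Category.assoc, ← Spec.map_comp] at h1
    exact Spec.map_injective ((cancel_mono (Y.left.fromSpecResidueField p)).1 h1)
  have hmem : ∀ a, ι'.hom a ∈ Set.range (algebraMap F K) := fun a => mem_range_of_pow_eq (by
    rw [Nat.card_eq_fintype_card]
    exact congrArg (fun g => g.hom a) hfix)
  choose j hj using hmem
  have hinj := (algebraMap F K).injective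
  let jh : Y.left.residueField p →+* F :=
    { toFun := j
      map_one' := hinj (by rw [hj, map_one, map_one])
      map_zero' := hinj (by rw [hj, map_zero, map_zero])
      map_mul' := fun a b => hinj (by rw [hj, map_mul, map_mul, hj, hj])
      map_add' := fun a b => hinj (by rw [hj, map_add, map_add, hj, hj]) }
  have hι : ι' = CommRingCat.ofHom jh ≫ CommRingCat.ofHom (algebraMap F K) := by
    ext a
    exact (hj a).symm
  have : Epi (Spec.map (CommRingCat.ofHom (algebraMap F K))) := by
    have : Surjective (Spec.map (CommRingCat.ofHom (algebraMap F K))) :=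
      ⟨fun s => ⟨IsLocalRing.closedPoint K, Subsingleton.elim _ _⟩⟩
    infer_instance
  refine ⟨Over.homMk (Spec.map (CommRingCat.ofHom jh) ≫ Y.left.fromSpecResidueField p) ?_⟩
  rw [← cancel_epi (Spec.map (CommRingCat.ofHom (algebraMap F K)))]
  change _ = Spec.map (CommRingCat.ofHom (algebraMap F K)) ≫ 𝟙 _
  rw [Category.comp_id, ← Category.assoc, ← Category.assoc, ← Spec.map_comp, ← hι, ← hι']
  exact Over.w y

end Groth.Agent.H14Count
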