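import Groth.Agent.H14Count.GeomPoints
import Groth.Agent.H14Count.Lang
import Groth.Prelude.Def_GalTw

/-!
# The Galois module of geometric points over a finite field
-/

set_option autoImplicit false
set_option linter.unusedVariables false
set_option linter.unusedSectionVars false
set_option backward.isDefEq.respectTransparency false
set_option backward.isDefEq.respectTransparency.types false

universe u

open CategoryTheory CategoryTheory.Limits AlgebraicGeometry
open scoped MonObj

noncomputable section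

namespace Groth.Agent.H14Count

variable {k : Type u} [Field k] [Finite k] {Kb : Type u} [Field Kb] [IsAlgClosed Kb] [Algebra k Kb]
  [Algebra.IsAlgebraic k Kb]

/-- An automorphism acts on points through the underlying map of points. -/
lemma smul_eq_ptAut {Y : Over (Spec (CommRingCat.of k))} (σ : Kb ≃ₐ[k] Kb) (y : SGA7.Pts Kb Y) :
    σ • y = ptAut k σ ≫ y := rfl

/-- A geometric point has an open stabiliser. -/
theorem isOpen_stab {Y : Over (Spec (CommRingCat.of k))} [LocallyOfFiniteType Y.hom] (y : SGA7.Pts Kb Y) :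
    IsOpen {σ : Kb ≃ₐ[k] Kb | σ • y = y} := by
  classical
  obtain ⟨i, hi⟩ := Y.left.affineCover.exists_eq (y.left (IsLocalRing.closedPoint Kb))
  let U := Y.left.affineCover.X i
  let e := Y.left.affineCover.f i
  obtain ⟨a, ha⟩ := exists_affine_factor e y hi
  obtain ⟨s, hs⟩ := exists_eval k (Kb := Kb) (e ≫ Y.hom)
  let L : IntermediateField k Kb := IntermediateField.adjoin k ((evalAt a) '' (s : Set Γ(U, ⊤)))
  have : FiniteDimensional k L := by
    have := (s.finite_toSet.image (evalAt a)).to_subtype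
    exact IntermediateField.finiteDimensional_adjoin fun x _ => Algebra.IsIntegral.isIntegral x
  have hL : ∀ σ ∈ L.fixingSubgroup, σ • y = y := fun σ hσ => Over.OverMorphism.ext (by
    change (ptAut k σ).left ≫ y.left = y.left
    rw [← ha, ← Category.assoc]
    congr 1
    refine hs _ _ ?_ fun x hx => eq_of_evalAt ?_
    · have h1 := Over.w (ptAut k σ ≫ y)
      rw [Over.comp_left, ← ha] at h1
      have h2 := Over.w y
      rw [← ha] at h2
      simp only [Category.assoc] at h1 h2 ⊢
      exact h1.trans h2.symm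
    · rw [evalAt_ptAut]
      exact (IntermediateField.mem_fixingSubgroup_iff L σ).1 hσ _ (IntermediateField.subset_adjoin k _ ⟨x, hx, rfl⟩))
  refine isOpen_iff_mem_nhds.2 fun σ hσ => ?_
  refine Filter.mem_of_superset ((isOpen_agree σ L).mem_nhds ?_) fun τ hτ => ?_
  · change σ⁻¹ * σ ∈ L.fixingSubgroup
    rw [inv_mul_cancel]
    exact one_mem _
  · have h := hL _ hτ
    change τ • y = y
    calc τ • y = σ • (σ⁻¹ * τ) • y := by rw [← mul_smul, mul_inv_cancel_left]
      _ = y := by rw [h]; exact hσ

variable (π : Kb ≃ₐ[k] Kb) (hπ : ∀ x : Kb, π x = x ^ Nat.card k)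

include hπ in
lemma pow_comm (n : ℕ) (σ : Kb ≃ₐ[k] Kb) : π ^ n * σ = σ * π ^ n := by
  ext x
  rw [AlgEquiv.mul_apply, AlgEquiv.mul_apply, frob_pow_apply π hπ, frob_pow_apply π hπ, map_pow]

include hπ in
/-- Every geometric point of a group lies in a finite stable subgroup. -/
theorem exists_finite_stable {G : Over (Spec (CommRingCat.of k))} [GrpObj G] [LocallyOfFiniteType G.hom]
    [QuasiCompact G.hom] (a : SGA7.Pts Kb G) : ∃ H : Subgroup (SGA7.Pts Kb G), (H : Set (SGA7.Pts Kb G)).Finite ∧ a ∈ H ∧
      ∀ (σ : Kb ≃ₐ[k] Kb) (x : SGA7.Pts Kb G), x ∈ H → σ • x ∈ H := by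
  obtain ⟨d, hd, ha⟩ := exists_period π hπ a
  let H : Subgroup (SGA7.Pts Kb G) :=
    { carrier := {y | (π ^ d) • y = y}
      mul_mem' := fun {x y} hx hy => by
        change (π ^ d) • (x * y) = x * y
        rw [smul_mul', hx, hy]
      one_mem' := smul_one _
      inv_mem' := fun {x} hx => by
        change (π ^ d) • x⁻¹ = x⁻¹
        rw [smul_inv', hx] }
  refine ⟨H, finite_fixed π hπ G hd, ha, fun σ x hx => ?_⟩
  change (π ^ d) • σ • x = σ • x
  rw [← mul_smul, pow_comm π hπ, mul_smul, hx]

include hπ in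
/-- The rational points are the geometric points fixed by Frobenius. -/
theorem nat_card_fixed (Y : Over (Spec (CommRingCat.of k))) :
    Nat.card {y : SGA7.Pts Kb Y // ptAut k π ≫ y = y} = Nat.card (SGA7.Pts k Y) := by
  have hep := epi_toPt (k := k) (Kb := Kb) k
  refine (Nat.card_eq_of_bijective (fun y₀ : SGA7.Pts k Y => (⟨toPt k k Kb ≫ y₀, by
    rw [← Category.assoc, ptAut_toPt]⟩ : {y : SGA7.Pts Kb Y // ptAut k π ≫ y = y})) ⟨fun a b h => ?_, fun y => ?_⟩).symm
  · exact (cancel_epi (toPt k k Kb)).1 (congrArg Subtype.val h)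
  obtain ⟨y₁, hy₁⟩ := exists_factor_fixed π hπ Nat.one_pos y.1 (by rw [pow_one]; exact y.2)
  have hsurj : Function.Surjective (algebraMap k (fixedLevel π 1)) := fun x => by
    obtain ⟨c, hc⟩ := mem_range_of_pow_eq (F := k) (x := (x : Kb)) (by
      rw [← hπ]
      have := (mem_fixedLevel π).1 x.2
      rwa [pow_one] at this)
    exact ⟨c, Subtype.ext hc⟩
  let e : k ≃+* fixedLevel π 1 := RingEquiv.ofBijective _ ⟨(algebraMap k (fixedLevel π 1)).injective, hsurj⟩
  let w : SGA7.pt (K := k) k ⟶ SGA7.pt (K := k) (fixedLevel π 1) :=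
    Over.homMk (Spec.map (CommRingCat.ofHom e.symm.toRingHom)) (by
      change Spec.map _ ≫ Spec.map _ = Spec.map _
      rw [← Spec.map_comp]
      congr 1
      ext c
      exact e.symm_apply_apply c)
  have hw : toPt k k Kb ≫ w = toPt k (fixedLevel π 1) Kb := by
    ext : 1
    change Spec.map _ ≫ Spec.map _ = Spec.map _
    rw [← Spec.map_comp]
    congr 1
    ext x
    change algebraMap k Kb (e.symm x) = (x : Kb)
    conv_rhs => rw [← e.apply_symm_apply x]
    rfl
  exact ⟨w ≫ y₁, Subtype.ext (by dsimp only; rw [← Category.assoc, hw, hy₁])⟩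

end Groth.Agent.H14Count
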