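import Groth.Agent.H14Count.ClassMass
import Groth.Agent.H14Count.GeomGalois
import Groth.Agent.H14Quot.Etale

/-!
# The point count of a quotient stack over the stable orbits
-/

set_option autoImplicit false
set_option maxHeartbeats 800000
set_option linter.unusedVariables false
set_option linter.unusedSectionVars false
set_option linter.style.haveILetI false
set_option backward.isDefEq.respectTransparency false
set_option backward.isDefEq.respectTransparency.types false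

universe u

open CategoryTheory CategoryTheory.Limits MonoidalCategory CartesianMonoidalCategory MonObj GrpObj
open AlgebraicGeometry

noncomputable section

namespace Groth.Agent.H14Count

attribute [local instance 2000] Hom.group Hom.monoid

variable {k : Type u} [Field k] [Finite k] {Kb : Type u} [Field Kb] [IsAlgClosed Kb] [Algebra k Kb]
  [Algebra.IsAlgebraic k Kb] {G X : Over (Spec (CommRingCat.of k))} [GrpObj G] (aX : AlgGrp.Action G X)

/-- If Frobenius keeps a point in its orbit, so does every Galois automorphism. -/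
theorem orbit_stable (π : Kb ≃ₐ[k] Kb) (hπ : ∀ x : Kb, π x = x ^ Nat.card k) [LocallyOfFiniteType X.hom]
    {b : SGA7.Pts Kb G} {y : SGA7.Pts Kb X} (h : lift b (π • y) ≫ aX.act = y) (σ : Kb ≃ₐ[k] Kb) :
    ∃ g : SGA7.Pts Kb G, lift g (σ • y) ≫ aX.act = y := by
  have hpow : ∀ i, ∃ g : SGA7.Pts Kb G, lift g ((π ^ i) • y) ≫ aX.act = y := fun i => by
    induction i with
    | zero => exact ⟨1, by rw [pow_zero, one_smul, AlgGrp.Action.lift_one_act]⟩
    | succ i ih =>
      obtain ⟨g, hg⟩ := ih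
      refine ⟨b * (π • g), ?_⟩
      rw [AlgGrp.Action.lift_mul_act, pow_succ', mul_smul, smul_eq_ptAut π g, smul_eq_ptAut π ((π ^ i) • y),
        ← comp_lift_assoc, hg]
      exact h
  have hlc : IsLocallyConstant fun σ : Kb ≃ₐ[k] Kb => σ • y := IsLocallyConstant.iff_isOpen_fiber.2 fun z => by
    refine isOpen_iff_mem_nhds.2 fun σ₀ hσ₀ => ?_
    refine Filter.mem_of_superset ((((isOpen_stab y).preimage (continuous_const_mul σ₀⁻¹))).mem_nhds ?_) fun τ hτ => ?_
    · change (σ₀⁻¹ * σ₀) • y = y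
      rw [inv_mul_cancel, one_smul]
    · change τ • y = z
      have h' : (σ₀⁻¹ * τ) • y = y := hτ
      rw [← hσ₀, show τ = σ₀ * (σ₀⁻¹ * τ) from (mul_inv_cancel_left _ _).symm, mul_smul, h']
  have := congrFun (eq_of_eq_pow π hπ (hlc.comp fun z => ∃ g : SGA7.Pts Kb G, lift g z ≫ aX.act = y)
    (IsLocallyConstant.const True) fun n => eq_true (hpow n)) σ
  exact of_eq_true this

/-- The mass of the Frobenius classes fixing points is the sum over stable orbits of the masses of the twisted classes of the stabilisers. -/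
theorem mass_orbits (π : Kb ≃ₐ[k] Kb) (hπ : ∀ x : Kb, π x = x ^ Nat.card k)
    [LocallyOfFiniteType G.hom] [IsAffineHom G.hom] [LocallyOfFiniteType X.hom] [QuasiCompact X.hom]
    {J : Type} [Fintype J] (x : J → SGA7.Pts Kb X) (a : J → SGA7.Pts Kb G)
    (ha : ∀ j, lift (a j) (π • x j) ≫ aX.act = x j)
    (hdis : ∀ j j', (∃ g : SGA7.Pts Kb G, lift g (x j) ≫ aX.act = x j') → j = j')
    (hall : ∀ (b : SGA7.Pts Kb G) (y : SGA7.Pts Kb X), lift b (π • y) ≫ aX.act = y →
      ∃ (j : J) (g : SGA7.Pts Kb G), lift g (x j) ≫ aX.act = y)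
    (C : J → Type u) [∀ j, Fintype (C j)] (s : ∀ j, C j → SGA7.Pts Kb G)
    (hs : ∀ j c, lift (s j c) (x j) ≫ aX.act = x j)
    (hsurj : ∀ j (t : SGA7.Pts Kb G), lift t (x j) ≫ aX.act = x j → ∃ c g, lift g (x j) ≫ aX.act = x j ∧
      s j c = g * t * (a j * (π • g) * (a j)⁻¹)⁻¹)
    (hinj : ∀ j c c' (g : SGA7.Pts Kb G), lift g (x j) ≫ aX.act = x j →
      s j c' = g * s j c * (a j * (π • g) * (a j)⁻¹)⁻¹ → c = c')
    {D : Type u} [Fintype D] (b : D → (SGA7.pt (K := k) Kb ⟶ G))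
    (hbs : ∀ b', Nonempty (fixPts π aX b') → ∃ d v, b d = v * b' * (ptAut k π ≫ v)⁻¹)
    (hbi : ∀ d d' v, b d' = v * b d * (ptAut k π ≫ v)⁻¹ → d = d') :
    ∑ d, (Nat.card (fixPts π aX (b d)) : ℚ) / (Nat.card (fixGrp π (b d)) : ℚ) =
      ∑ j, ∑ c, (1 : ℚ) / (Nat.card {g : SGA7.Pts Kb G //
        lift g (x j) ≫ aX.act = x j ∧ g * s j c = s j c * (a j * (π • g) * (a j)⁻¹)} : ℚ) := by
  classical
  have hfG := fun d => finite_fixGrp (G := G) π hπ (b d)
  have hfX := fun d => finite_fixPts (aX := aX) π hπ (b d)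
  letI := fun d => Fintype.ofFinite (fixGrp π (b d))
  letI := fun d => Fintype.ofFinite (fixPts π aX (b d))
  let Ω := fun d => MulAction.orbitRel.Quotient (fixGrp π (b d)) (fixPts π aX (b d))
  have hpair : ∀ i : (Σ j, C j), lift (s i.1 i.2 * a i.1) (π • x i.1) ≫ aX.act = x i.1 := fun i => by
    rw [AlgGrp.Action.lift_mul_act, ha, hs]
  have hex : ∀ i : (Σ j, C j), ∃ (d : D) (v : SGA7.Pts Kb G),
      b d = v * (s i.1 i.2 * a i.1) * (ptAut k π ≫ v)⁻¹ := fun i =>
    hbs (s i.1 i.2 * a i.1) ⟨⟨x i.1, hpair i⟩⟩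
  choose F g hg using hex
  let pt : ∀ i, fixPts π aX (b (F i)) := fun i => ⟨lift (g i) (x i.1) ≫ aX.act, by
    have h1 := smul_rel π aX (g := g i) (hpair i)
    rw [← hg i] at h1
    exact h1⟩
  let Ψ : (Σ j, C j) → Σ d, Ω d := fun i => ⟨F i, Quotient.mk'' (pt i)⟩
  have hsame : ∀ i i' (d : D) (w : fixGrp π (b d)), F i = d → F i' = d →
      lift w.1 (lift (g i') (x i'.1) ≫ aX.act) ≫ aX.act = lift (g i) (x i.1) ≫ aX.act → i' = i := by
    intro i i' d w e1 e2 he
    obtain ⟨j, c⟩ := i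
    obtain ⟨j', c'⟩ := i'
    obtain ⟨w, hwm⟩ := w
    let u := (g ⟨j, c⟩)⁻¹ * w * g ⟨j', c'⟩
    have hu : lift u (x j') ≫ aX.act = x j := by
      rw [AlgGrp.Action.lift_mul_act, AlgGrp.Action.lift_mul_act, he, ← AlgGrp.Action.lift_mul_act, inv_mul_cancel,
        AlgGrp.Action.lift_one_act]
    obtain rfl := hdis j' j ⟨u, hu⟩
    refine congrArg (Sigma.mk j') (hinj j' c' c u hu ?_)
    have f1 := hg ⟨j', c⟩
    have f2 := hg ⟨j', c'⟩
    rw [e1] at f1
    rw [e2] at f2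
    change s j' c = u * s j' c' * (a j' * (π • u) * (a j')⁻¹)⁻¹
    have e3 : s j' c * a j' = (g ⟨j', c⟩)⁻¹ * b d * (ptAut k π ≫ g ⟨j', c⟩) := by
      rw [f1]; group
    have e4 : s j' c' * a j' = (g ⟨j', c'⟩)⁻¹ * b d * (ptAut k π ≫ g ⟨j', c'⟩) := by
      rw [f2]; group
    have e5 : s j' c * a j' = u * (s j' c' * a j') * (ptAut k π ≫ u)⁻¹ := by
      rw [e3, e4]
      simp only [u, MonObj.comp_mul, GrpObj.comp_inv]
      conv_lhs => rw [show b d = w * b d * (ptAut k π ≫ w)⁻¹ from (fixGrp_twist π hwm).symm]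
      group
    rw [smul_eq_ptAut]
    calc s j' c = (s j' c * a j') * (a j')⁻¹ := by group
      _ = _ := by rw [e5]; group
  have hΨ : Function.Bijective Ψ := by
    refine ⟨fun i i' e => ?_, fun z => ?_⟩
    · have e1 : F i = F i' := congrArg Sigma.fst e
      have key : ∀ (d : D) (o : Ω d), Ψ i = ⟨d, o⟩ → F i = d ∧ ∀ y : fixPts π aX (b d), Quotient.mk'' y = o →
          ∃ w : fixGrp π (b d), lift w.1 y.1 ≫ aX.act = lift (g i) (x i.1) ≫ aX.act := fun d o hd => by
        obtain rfl := congrArg Sigma.fst hd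
        obtain rfl := eq_of_heq (Sigma.mk.inj_iff.1 hd).2
        refine ⟨rfl, fun y hy => ?_⟩
        obtain ⟨w, hw⟩ := MulAction.mem_orbit_iff.1 (Quotient.eq''.1 hy.symm)
        exact ⟨w, congrArg Subtype.val hw⟩
      obtain ⟨e2, hk⟩ := key _ _ e
      obtain ⟨w, hw⟩ := hk (pt i') rfl
      exact (hsame i i' _ w e2 rfl hw).symm
    · obtain ⟨d, o⟩ := z
      induction o using Quotient.inductionOn' with
      | h y =>
        obtain ⟨j, v, hv⟩ := hall (b d) y.1 y.2
        let t := v⁻¹ * b d * (ptAut k π ≫ v) * (a j)⁻¹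
        have ht : lift t (x j) ≫ aX.act = x j := by
          conv_lhs => rw [← ha j, ← AlgGrp.Action.lift_mul_act]
          rw [inv_mul_cancel_right, AlgGrp.Action.lift_mul_act, smul_eq_ptAut, ← comp_lift_assoc, hv,
            AlgGrp.Action.lift_mul_act, y.2, ← hv, ← AlgGrp.Action.lift_mul_act, inv_mul_cancel,
            AlgGrp.Action.lift_one_act]
        obtain ⟨c, u, hu, hc⟩ := hsurj j t ht
        refine ⟨⟨j, c⟩, ?_⟩
        have hb : b (F ⟨j, c⟩) = (g ⟨j, c⟩ * u * v⁻¹) * b d * (ptAut k π ≫ (g ⟨j, c⟩ * u * v⁻¹))⁻¹ := by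
          rw [hg ⟨j, c⟩]
          change g ⟨j, c⟩ * (s j c * a j) * _ = _
          rw [hc, smul_eq_ptAut, MonObj.comp_mul, MonObj.comp_mul, GrpObj.comp_inv]
          simp only [t]
          group
        have hd := hbi d (F ⟨j, c⟩) _ hb
        have key : ∀ (d' : D) (y' : fixPts π aX (b d')) (e : d = d')
            (w : SGA7.Pts Kb G), b d' = w * b d * (ptAut k π ≫ w)⁻¹ → lift w y.1 ≫ aX.act = y'.1 →
            (⟨d', Quotient.mk'' y'⟩ : Σ d, Ω d) = ⟨d, Quotient.mk'' y⟩ := by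
          intro d' y' e w hw hy
          subst e
          refine congrArg (Sigma.mk d) (Quotient.eq''.2 (MulAction.mem_orbit_iff.2 ⟨⟨w, mem_fixGrp_of_twist π hw.symm⟩, ?_⟩))
          exact Subtype.ext hy
        refine key _ (pt ⟨j, c⟩) hd _ hb ?_
        change _ = lift (g ⟨j, c⟩) (x j) ≫ aX.act
        rw [AlgGrp.Action.lift_mul_act, AlgGrp.Action.lift_mul_act]
        congr 2
        conv_lhs => rw [← hv, ← AlgGrp.Action.lift_mul_act, ← AlgGrp.Action.lift_mul_act, inv_mul_cancel_right]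
        exact hu
  have hstab : ∀ i : (Σ j, C j), Nat.card (MulAction.stabilizer (fixGrp π (b (F i))) (pt i)) =
      Nat.card {z : SGA7.Pts Kb G //
        lift z (x i.1) ≫ aX.act = x i.1 ∧ z * s i.1 i.2 = s i.1 i.2 * (a i.1 * (π • z) * (a i.1)⁻¹)} := fun i => by
    obtain ⟨j, c⟩ := i
    have hb := hg ⟨j, c⟩
    let v := g ⟨j, c⟩
    refine Nat.card_congr
      { toFun := fun z => ⟨v⁻¹ * z.1.1 * v, ?_, ?_⟩
        invFun := fun z => ⟨⟨v * z.1 * v⁻¹, ?_⟩, ?_⟩
        left_inv := fun z => Subtype.ext (Subtype.ext (show v * (v⁻¹ * z.1.1 * v) * v⁻¹ = z.1.1 by group))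
        right_inv := fun z => Subtype.ext (show v⁻¹ * (v * z.1 * v⁻¹) * v = z.1 by group) }
    · have h1 : lift z.1.1 (lift v (x j) ≫ aX.act) ≫ aX.act = lift v (x j) ≫ aX.act :=
        congrArg Subtype.val (show z.1 • pt ⟨j, c⟩ = pt ⟨j, c⟩ from z.2)
      rw [AlgGrp.Action.lift_mul_act, AlgGrp.Action.lift_mul_act, h1, ← AlgGrp.Action.lift_mul_act, inv_mul_cancel,
        AlgGrp.Action.lift_one_act]
    · have h2 : z.1.1 * b (F ⟨j, c⟩) = b (F ⟨j, c⟩) * (ptAut k π ≫ z.1.1) := z.1.2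
      rw [smul_eq_ptAut, MonObj.comp_mul, MonObj.comp_mul, GrpObj.comp_inv]
      have h3 : s j c = v⁻¹ * b (F ⟨j, c⟩) * (ptAut k π ≫ v) * (a j)⁻¹ := by
        rw [hb]; simp only [v]; group
      change v⁻¹ * z.1.1 * v * s j c = s j c * _
      rw [h3]
      calc _ = v⁻¹ * (z.1.1 * b (F ⟨j, c⟩)) * (ptAut k π ≫ v) * (a j)⁻¹ := by group
        _ = _ := by rw [h2]; group
    · change v * z.1 * v⁻¹ * b (F ⟨j, c⟩) = b (F ⟨j, c⟩) * (ptAut k π ≫ (v * z.1 * v⁻¹))
      have h2 : z.1 * s j c = s j c * (a j * (π • z.1) * (a j)⁻¹) := z.2.2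
      rw [smul_eq_ptAut] at h2
      rw [hb, MonObj.comp_mul, MonObj.comp_mul, GrpObj.comp_inv]
      calc _ = v * (z.1 * s j c) * a j * (ptAut k π ≫ v)⁻¹ := by simp only [v]; group
        _ = _ := by rw [h2]; simp only [v]; group
    · refine MulAction.mem_stabilizer_iff.2 (Subtype.ext ?_)
      change lift (v * z.1 * v⁻¹) (lift v (x j) ≫ aX.act) ≫ aX.act = lift v (x j) ≫ aX.act
      rw [← AlgGrp.Action.lift_mul_act, inv_mul_cancel_right, AlgGrp.Action.lift_mul_act, z.2.1]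
  -- sum over the orbits
  have horb : ∀ d, (Nat.card (fixPts π aX (b d)) : ℚ) / (Nat.card (fixGrp π (b d)) : ℚ) =
      ∑ o : Ω d, (1 : ℚ) / (Nat.card (MulAction.stabilizer (fixGrp π (b d)) o.out) : ℚ) := fun d => by
    rw [Nat.card_congr (MulAction.selfEquivSigmaOrbits (fixGrp π (b d)) (fixPts π aX (b d))), Nat.card_sigma,
      Nat.cast_sum, Finset.sum_div]
    refine Finset.sum_congr rfl fun o _ => ?_
    have hos := MulAction.card_orbit_mul_card_stabilizer_eq_card_group (fixGrp π (b d)) o.out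
    rw [← Nat.card_eq_fintype_card, ← Nat.card_eq_fintype_card, ← Nat.card_eq_fintype_card] at hos
    rw [← hos, Nat.cast_mul]
    have : Nonempty (MulAction.orbit (fixGrp π (b d)) o.out) := ⟨⟨o.out, MulAction.mem_orbit_self _⟩⟩
    have h0 : (Nat.card (MulAction.orbit (fixGrp π (b d)) o.out) : ℚ) ≠ 0 := by exact_mod_cast (Nat.card_pos).ne'
    change _ / _ = (1 : ℚ) / _
    field_simp
  simp only [horb]
  rw [Finset.sum_sigma' Finset.univ (fun d => (Finset.univ : Finset (Ω d))) _, Finset.univ_sigma_univ,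
    Finset.sum_sigma' Finset.univ (fun j => (Finset.univ : Finset (C j))) _, Finset.univ_sigma_univ]
  refine (Fintype.sum_bijective Ψ hΨ _ _ fun i => ?_).symm
  rw [← hstab i]
  obtain ⟨w, hw⟩ := MulAction.mem_orbit_iff.1 (Quotient.eq''.1 (Quotient.out_eq' (Ψ i).2))
  change _ = (1 : ℚ) / (Nat.card (MulAction.stabilizer (fixGrp π (b (F i))) (Quotient.mk'' (pt i) : Ω (F i)).out) : ℚ)
  rw [← hw, MulAction.stabilizer_smul_eq_stabilizer_map_conj,
    ← Nat.card_congr (Subgroup.equivMapOfInjective _ _ (MulAut.conj w).injective).toEquiv]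

/-- The point count is the sum over stable orbits of the masses of the twisted classes of the stabilisers. -/
theorem ptCount_orbits (π : Kb ≃ₐ[k] Kb) (hπ : ∀ x : Kb, π x = x ^ Nat.card k)
    [LocallyOfFiniteType G.hom] [IsAffineHom G.hom] [LocallyOfFiniteType X.hom] [QuasiCompact X.hom]
    {J : Type} [Fintype J] (x : J → SGA7.Pts Kb X) (a : J → SGA7.Pts Kb G)
    (ha : ∀ j, lift (a j) (π • x j) ≫ aX.act = x j)
    (hdis : ∀ j j', (∃ g : SGA7.Pts Kb G, lift g (x j) ≫ aX.act = x j') → j = j')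
    (hall : ∀ (b : SGA7.Pts Kb G) (y : SGA7.Pts Kb X), lift b (π • y) ≫ aX.act = y →
      ∃ (j : J) (g : SGA7.Pts Kb G), lift g (x j) ≫ aX.act = y)
    (C : J → Type u) [∀ j, Fintype (C j)] (s : ∀ j, C j → SGA7.Pts Kb G)
    (hs : ∀ j c, lift (s j c) (x j) ≫ aX.act = x j)
    (hsurj : ∀ j (t : SGA7.Pts Kb G), lift t (x j) ≫ aX.act = x j → ∃ c g, lift g (x j) ≫ aX.act = x j ∧
      s j c = g * t * (a j * (π • g) * (a j)⁻¹)⁻¹)
    (hinj : ∀ j c c' (g : SGA7.Pts Kb G), lift g (x j) ≫ aX.act = x j →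
      s j c' = g * s j c * (a j * (π • g) * (a j)⁻¹)⁻¹ → c = c')
    (h : StkCnt.IsEssFinite (StkCnt.pts (AlgSt.QuotSt Scheme.etalePrecoverage G aX) k)) :
    StkCnt.ptCount (AlgSt.QuotSt Scheme.etalePrecoverage G aX) k h =
      ∑ j, ∑ c, (1 : ℚ) / (Nat.card {g : SGA7.Pts Kb G //
        lift g (x j) ≫ aX.act = x j ∧ g * s j c = s j c * (a j * (π • g) * (a j)⁻¹)} : ℚ) := by
  obtain ⟨D, _, b, -, hbs, hbi⟩ := exists_classes π hπ aX le_rfl h
  rw [ptCount_eq' π hπ aX le_rfl H14Quot.etale_le_fppf_pre b hbs hbi h]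
  exact mass_orbits aX π hπ x a ha hdis hall C s hs hsurj hinj b hbs hbi

end Groth.Agent.H14Count
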