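import Groth.Agent.H14Count.StabMass
import Groth.Agent.H14Count.OrbitMass
import Groth.Agent.H19Grp.Transporter
import Groth.Agent.H25AbCube.PoincareSplit
import Groth.Agent.H25Chow.Fin
import Mathlib.AlgebraicGeometry.AffineSpace

/-!
# Frobenius classes acting on a finite scheme and on an affine space
-/

set_option autoImplicit false
set_option maxHeartbeats 1600000
set_option linter.unusedVariables false
set_option linter.unusedSectionVars false
set_option linter.style.haveILetI false
set_option backward.isDefEq.respectTransparency false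
set_option backward.isDefEq.respectTransparency.types false

universe u

open CategoryTheory CategoryTheory.Limits MonoidalCategory CartesianMonoidalCategory MonObj GrpObj
open AlgebraicGeometry GalTw

noncomputable section

namespace Groth.Agent.H14Count

attribute [local instance 2000] Hom.group Hom.monoid

section Stabiliser

variable {k : Type u} [Field k] {K : Type u} [Field K] [Algebra k K] {G X : Over (Spec (CommRingCat.of k))} [GrpObj G]

/-- The transposition of points of a base change of a group is multiplicative. -/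
theorem homEquiv_mul' {T : Over (Spec (CommRingCat.of K))}
    (g g' : (Over.map (SGA7.pt (K := k) K).hom).obj T ⟶ G) :
    (Over.mapPullbackAdj (SGA7.pt (K := k) K).hom).homEquiv T G (g * g') =
      ((Over.mapPullbackAdj (SGA7.pt (K := k) K).hom).homEquiv T G g *
        (Over.mapPullbackAdj (SGA7.pt (K := k) K).hom).homEquiv T G g' : T ⟶ bcK K G) := by
  rw [Adjunction.homEquiv_unit, Adjunction.homEquiv_unit, Adjunction.homEquiv_unit]
  exact (congrArg _ (map_mul (Functor.homMonoidHom (Over.pullback (SGA7.pt (K := k) K).hom)) _ _)).trans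
    (MonObj.comp_mul _ _ _)

/-- The stabiliser of a geometric point is a subgroup scheme of the base change; its range is open when the space of
the base change of the variety is discrete. -/
theorem exists_stabiliser (aX : AlgGrp.Action G X) (x : SGA7.Pts K X) :
    ∃ (S : Over (Spec (CommRingCat.of K))) (_ : GrpObj S) (s : S ⟶ bcK K G), IsMonHom s ∧ Mono s ∧
      (DiscreteTopology (bcK K X).left → IsOpen (Set.range s.left)) ∧
      ∀ (T : Over (Spec (CommRingCat.of K))) (g : (Over.map (SGA7.pt (K := k) K).hom).obj T ⟶ G),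
        (∃ g' : T ⟶ S, g' ≫ s = (Over.mapPullbackAdj (SGA7.pt (K := k) K).hom).homEquiv T G g) ↔
          lift g (ptMap k T ≫ x) ≫ aX.act = ptMap k T ≫ x := by
  classical
  let adj := Over.mapPullbackAdj (SGA7.pt (K := k) K).hom
  let GK := bcK K G
  let g₀ : (Over.map (SGA7.pt (K := k) K).hom).obj GK ⟶ G := (adj.homEquiv GK G).symm (𝟙 GK)
  let ω : GK ⟶ bcK K X := adj.homEquiv GK X (lift g₀ (ptMap k GK ≫ x) ≫ aX.act)
  let xK : 𝟙_ (Over (Spec (CommRingCat.of K))) ⟶ bcK K X :=
    adj.homEquiv (𝟙_ (Over (Spec (CommRingCat.of K)))) X (ptMap k (𝟙_ (Over (Spec (CommRingCat.of K)))) ≫ x)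
  let S := pullback ω xK
  let s : S ⟶ GK := pullback.fst ω xK
  haveI : Mono xK := ⟨fun a b _ => toUnit_unique a b⟩
  haveI : Mono s := pullback.fst_of_mono
  have hS : ∀ (T : Over (Spec (CommRingCat.of K))) (g : (Over.map (SGA7.pt (K := k) K).hom).obj T ⟶ G),
      (∃ g' : T ⟶ S, g' ≫ s = adj.homEquiv T G g) ↔ lift g (ptMap k T ≫ x) ≫ aX.act = ptMap k T ≫ x := fun T g => by
    have h1 : adj.homEquiv T G g ≫ ω = adj.homEquiv T X (lift g (ptMap k T ≫ x) ≫ aX.act) := by
      refine (adj.homEquiv_naturality_left (adj.homEquiv T G g) _).symm.trans (congrArg _ ?_)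
      rw [← Category.assoc, comp_lift, ← Category.assoc _ (ptMap k GK), map_ptMap]
      congr 2
      rw [← adj.homEquiv_naturality_left_symm]
      erw [Category.comp_id]
      rw [Equiv.symm_apply_apply]
    have h2 : toUnit T ≫ xK = adj.homEquiv T X (ptMap k T ≫ x) := by
      refine (adj.homEquiv_naturality_left (toUnit T) _).symm.trans (congrArg _ ?_)
      rw [← Category.assoc, map_ptMap]
    rw [← (adj.homEquiv T X).injective.eq_iff, ← h1, ← h2]
    constructor
    · rintro ⟨g', hg'⟩
      rw [← hg', Category.assoc, pullback.condition, ← Category.assoc]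
      exact congrArg (· ≫ xK) (toUnit_unique _ _)
    · exact fun h => ⟨pullback.lift _ _ h, pullback.lift_fst _ _ _⟩
  let φ : ∀ T, ((Over.map (SGA7.pt (K := k) K).hom).obj T ⟶ G) →* (T ⟶ GK) :=
    fun T => MonoidHom.mk' (adj.homEquiv T G) (homEquiv_mul' (T := T))
  obtain ⟨gS, hs⟩ : ∃ _ : GrpObj S, IsMonHom s := by
    refine H19Grp.exists_grpObj_of_closed s ?_ (fun T a b => ?_) (fun T a => ?_)
    · obtain ⟨z, hz⟩ := (hS (𝟙_ (Over (Spec (CommRingCat.of K)))) 1).2 (AlgGrp.Action.lift_one_act aX _)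
      exact ⟨z, hz.trans (map_one (φ _))⟩
    · obtain ⟨g, hg⟩ := (adj.homEquiv T G).surjective (a ≫ s)
      obtain ⟨g', hg'⟩ := (adj.homEquiv T G).surjective (b ≫ s)
      have h1 := (hS T g).1 ⟨a, hg.symm⟩
      have h2 := (hS T g').1 ⟨b, hg'.symm⟩
      obtain ⟨z, hz⟩ := (hS T (g * g')).2 (by rw [AlgGrp.Action.lift_mul_act, h2, h1])
      exact ⟨z, by rw [hz, ← hg, ← hg']; exact map_mul (φ T) g g'⟩
    · obtain ⟨g, hg⟩ := (adj.homEquiv T G).surjective (a ≫ s)
      have h1 := (hS T g).1 ⟨a, hg.symm⟩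
      obtain ⟨z, hz⟩ := (hS T g⁻¹).2 (by
        conv_lhs => rw [← h1, ← AlgGrp.Action.lift_mul_act, inv_mul_cancel, AlgGrp.Action.lift_one_act])
      exact ⟨z, by rw [hz, ← hg]; exact map_inv (φ T) g⟩
  refine ⟨S, gS, s, hs, inferInstance, fun hdisc => ?_, hS⟩
  have hpb := (IsPullback.of_hasPullback ω xK).map (Over.forget _)
  have e : Set.range s.left = ω.left ⁻¹' Set.range xK.left := by
    have h : hpb.isoPullback.hom ≫ pullback.fst _ _ = s.left := hpb.isoPullback_hom_fst
    refine Eq.trans ?_ (Scheme.Pullback.range_fst ω.left xK.left)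
    ext y
    constructor
    · rintro ⟨z, rfl⟩
      exact ⟨hpb.isoPullback.hom z, by rw [← h]; rfl⟩
    · rintro ⟨z, rfl⟩
      obtain ⟨w, rfl⟩ := hpb.isoPullback.hom.surjective z
      exact ⟨w, by rw [← h]; rfl⟩
  rw [e]
  exact (isOpen_discrete _).preimage ω.left.continuous

end Stabiliser

variable {k : Type u} [Field k] [Finite k] {Kb : Type u} [Field Kb] [IsAlgClosed Kb] [Algebra k Kb]
  [Algebra.IsAlgebraic k Kb]

/-- The mass of the Frobenius classes of a group without subtorus acting on a finite scheme. -/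
theorem finite_action_mass (π : Kb ≃ₐ[k] Kb) (hπ : ∀ x : Kb, π x = x ^ Nat.card k)
    {F E : Over (Spec (CommRingCat.of k))} [GrpObj F] [Smooth F.hom] [IsAffineHom F.hom] [IsFinite E.hom]
    (aE : AlgGrp.Action F E) (hFu : Red.HasNoSubtorus Kb (bcK Kb F)) (dF : ℕ)
    (hdF : topologicalKrullDim ↥F.left = (dF : WithBot ℕ∞))
    {J : Type} [Fintype J] (e : J → SGA7.Pts Kb E)
    (hdis : ∀ j j' : J, (∃ g : SGA7.Pts Kb F, lift g (e j) ≫ aE.act = e j') → j = j')
    (hfix : ∀ (j : J) (σ : Kb ≃ₐ[k] Kb), ∃ g : SGA7.Pts Kb F, lift g (σ • e j) ≫ aE.act = e j)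
    (hall : ∀ y : SGA7.Pts Kb E, (∀ σ : Kb ≃ₐ[k] Kb, ∃ g : SGA7.Pts Kb F, lift g (σ • y) ≫ aE.act = y) →
      ∃ (j : J) (g : SGA7.Pts Kb F), lift g (e j) ≫ aE.act = y)
    {D : Type u} [Fintype D] (b : D → (SGA7.pt (K := k) Kb ⟶ F))
    (hbs : ∀ b', Nonempty (fixPts π aE b') → ∃ d v, b d = v * b' * (ptAut k π ≫ v)⁻¹)
    (hbi : ∀ d d' v, b d' = v * b d * (ptAut k π ≫ v)⁻¹ → d = d') :
    ∑ d, (Nat.card (fixPts π aE (b d)) : ℚ) / (Nat.card (fixGrp π (b d)) : ℚ) =
      (Fintype.card J : ℚ) * ((Nat.card k : ℚ) ^ dF)⁻¹ := by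
  classical
  haveI : IsFinite (bcK Kb E).hom := MorphismProperty.pullback_snd (P := @IsFinite) _ _ inferInstance
  haveI hdisc : DiscreteTopology (bcK Kb E).left := (H25Chow.discreteTopology_of_finite (bcK Kb E)).2
  haveI : LocallyOfFiniteType (bcK Kb F).hom := MorphismProperty.pullback_snd _ _ inferInstance
  choose S gS s hs hsm hso hS using fun j => exists_stabiliser aE (e j)
  have hsd : ∀ j, topologicalKrullDim ↥(S j).left = (dF : WithBot ℕ∞) := fun j => by
    haveI := hs j
    haveI := hsm j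
    haveI : IsClosedImmersion (s j).left := stab_isClosedImmersion aE (e j) (s j) (hS j)
    haveI : Nonempty (S j).left := ⟨(η[S j]).left (IsLocalRing.closedPoint Kb)⟩
    rw [dim_open_subgroup (s j) (s j).left.isClosedEmbedding.isEmbedding (hso j hdisc), ← hdF]
    exact H8Props.FieldDim.dim_baseChange (k := k) (K := Kb) F.hom (g := pullback.fst _ _) (f' := (bcK Kb F).hom)
      (IsPullback.of_hasPullback F.hom (SGA7.pt (K := k) Kb).hom)
  choose a ha using fun j => hfix j π
  choose C iC t ht h1 h2 hsum using fun j =>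
    @exists_stab_classes k _ _ Kb _ _ _ _ π hπ F E _ _ _ _ aE (e j) (a j) (ha j) (S j) (gS j) (s j) (hs j) (hsm j)
      (hS j) (fun T _ u _ _ hT => by
        haveI := hs j
        haveI := hsm j
        exact hFu T (u ≫ s j) hT) dF (hsd j)
  rw [mass_orbits aE π hπ e a ha hdis (fun b' y hy => hall y (orbit_stable aE π hπ hy)) C t ht h1 h2 b hbs hbi,
    Finset.sum_congr rfl fun j _ => hsum j, Finset.sum_const, Finset.card_univ, nsmul_eq_mul]

/-- The rational points of an affine space. -/
theorem card_pts_affineSpace (V : Over (Spec (CommRingCat.of k))) (n : ℕ)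
    (eV : V.left ≅ 𝔸(ULift.{u} (Fin n); Spec (CommRingCat.of k)))
    (heV : eV.hom ≫ (𝔸(ULift.{u} (Fin n); Spec (CommRingCat.of k)) ↘ Spec (CommRingCat.of k)) = V.hom) :
    Nat.card (SGA7.Pts k V) = Nat.card k ^ n := by
  letI := Fintype.ofFinite k
  let g : Γ(Spec (CommRingCat.of k), ⊤) ≃ k := (Scheme.ΓSpecIso (CommRingCat.of k)).commRingCatIsoToRingEquiv.toEquiv
  have hpt : ∀ y : SGA7.Pts k V, y.left ≫ V.hom = (SGA7.pt (K := k) k).hom := fun y => Over.w y
  let ψ : SGA7.Pts k V ≃ (ULift.{u} (Fin n) → Γ(Spec (CommRingCat.of k), ⊤)) :=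
    { toFun := fun y i => (y.left ≫ eV.hom).appTop (AffineSpace.coord (Spec (CommRingCat.of k)) i)
      invFun := fun v => Over.homMk (AffineSpace.homOfVector (SGA7.pt (K := k) k).hom v ≫ eV.inv) (by
        rw [Category.assoc, ← heV, Iso.inv_hom_id_assoc, AffineSpace.homOfVector_over])
      left_inv := fun y => by
        ext : 1
        change AffineSpace.homOfVector _ _ ≫ eV.inv = y.left
        rw [Iso.comp_inv_eq]
        refine AffineSpace.hom_ext ?_ fun i => ?_
        · rw [AffineSpace.homOfVector_over, Category.assoc, heV]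
          exact (hpt y).symm
        · rw [AffineSpace.homOfVector_appTop_coord]
      right_inv := fun v => funext fun i => by
        change ((AffineSpace.homOfVector _ v ≫ eV.inv) ≫ eV.hom).appTop (AffineSpace.coord _ i) = v i
        rw [Category.assoc, Iso.inv_hom_id, Category.comp_id, AffineSpace.homOfVector_appTop_coord] }
  rw [Nat.card_congr (ψ.trans (Equiv.arrowCongr Equiv.ulift g)), Nat.card_fun, Nat.card_eq_fintype_card (α := Fin n),
    Fintype.card_fin]

/-- The points of an affine space fixed by a Frobenius twisted through a connected group. -/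
theorem card_fix_affineSpace (π : Kb ≃ₐ[k] Kb) (hπ : ∀ x : Kb, π x = x ^ Nat.card k)
    {F Fc V : Over (Spec (CommRingCat.of k))} [GrpObj F] [GrpObj Fc] [Smooth Fc.hom] [QuasiCompact Fc.hom]
    [ConnectedSpace Fc.left] (n : ℕ) (eV : V.left ≅ 𝔸(ULift.{u} (Fin n); Spec (CommRingCat.of k)))
    (heV : eV.hom ≫ (𝔸(ULift.{u} (Fin n); Spec (CommRingCat.of k)) ↘ Spec (CommRingCat.of k)) = V.hom)
    (aV : AlgGrp.Action F V) (ρ : F ⟶ Fc) (aVc : AlgGrp.Action Fc V) (haV : aV.act = (ρ ▷ V) ≫ aVc.act)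
    (b : SGA7.pt (K := k) Kb ⟶ F) : Nat.card (fixPts π aV b) = Nat.card k ^ n := by
  classical
  obtain ⟨cj, -⟩ := exists_conjAction (𝟙 Fc) (fun T g m => ⟨_, (Category.comp_id _).symm⟩)
  obtain ⟨c, hc⟩ := exists_lang_twist π hπ cj (1 : SGA7.Pts Kb Fc)
    (fun x y => by simp only [AlgGrp.Action.lift_one_act]) (b ≫ ρ)
  rw [AlgGrp.Action.lift_one_act, smul_eq_ptAut] at hc
  rw [← card_pts_affineSpace V n eV heV, ← nat_card_fixed π hπ V]
  have hact : ∀ v : SGA7.Pts Kb V, lift b v ≫ aV.act = lift (b ≫ ρ) v ≫ aVc.act := fun v => by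
    rw [haV, lift_whiskerRight_assoc]
  refine Nat.card_congr
    { toFun := fun v => ⟨lift c⁻¹ v.1 ≫ aVc.act, ?_⟩
      invFun := fun w => ⟨lift c w.1 ≫ aVc.act, ?_⟩
      left_inv := fun v => Subtype.ext (by
        dsimp only
        rw [← AlgGrp.Action.lift_mul_act, mul_inv_cancel, AlgGrp.Action.lift_one_act])
      right_inv := fun w => Subtype.ext (by
        dsimp only
        rw [← AlgGrp.Action.lift_mul_act, inv_mul_cancel, AlgGrp.Action.lift_one_act]) }
  · have hv := v.2
    rw [hact, ← hc, AlgGrp.Action.lift_mul_act] at hv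
    have h2 := congrArg (fun z => lift c⁻¹ z ≫ aVc.act) hv
    simp only [← AlgGrp.Action.lift_mul_act, inv_mul_cancel, AlgGrp.Action.lift_one_act] at h2
    rw [inv_mul_cancel_left] at h2
    rw [← Category.assoc, comp_lift, GrpObj.comp_inv]
    exact h2
  · rw [hact, ← hc, ← Category.assoc (ptAut k π), comp_lift, w.2, ← AlgGrp.Action.lift_mul_act, inv_mul_cancel_right]

end Groth.Agent.H14Count
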