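import Groth.Prelude.Def_GSzH1
import Mathlib.FieldTheory.KrullTopology
import Mathlib.FieldTheory.IsAlgClosed.AlgebraicClosure
import Mathlib.FieldTheory.Finite.GaloisField
import Mathlib

/-!
# Continuous cocycles of the Galois group of a finite field are their values at Frobenius
-/

set_option autoImplicit false
set_option linter.unusedVariables false

universe u v

noncomputable section

namespace Groth.Agent.H14Count

variable {k : Type u} [Field k] [Finite k] {Kb : Type u} [Field Kb] [Algebra k Kb] [IsAlgClosed Kb]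
  [Algebra.IsAlgebraic k Kb] (π : Kb ≃ₐ[k] Kb) (hπ : ∀ x : Kb, π x = x ^ Nat.card k)

include hπ

lemma frob_pow_apply (n : ℕ) (x : Kb) : (π ^ n) x = x ^ (Nat.card k ^ n) := by
  induction n with
  | zero => simp
  | succ n ih => rw [pow_succ', AlgEquiv.mul_apply, ih, hπ, ← pow_mul, pow_succ]

/-- The automorphism agrees with a power of Frobenius on the elements of a finite level. -/
theorem exists_pow_agree {M : ℕ} (hM : 0 < M) (σ : Kb ≃ₐ[k] Kb) :
    ∃ n : ℕ, ∀ x : Kb, x ^ (Nat.card k ^ M) = x → σ x = (π ^ n) x := by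
  classical
  letI := Fintype.ofFinite k
  let L : IntermediateField k (Kb) := IntermediateField.fixedField (Subgroup.zpowers (π ^ M))
  have hmem : ∀ x, x ∈ L ↔ x ^ (Nat.card k ^ M) = x := fun x => by
    rw [IntermediateField.mem_fixedField_iff]
    constructor
    · intro h
      rw [← frob_pow_apply π hπ]
      exact h _ (Subgroup.mem_zpowers _)
    · intro h f hf
      have : Subgroup.zpowers (π ^ M) ≤ MulAction.stabilizer (Kb ≃ₐ[k] Kb) x :=
        Subgroup.zpowers_le.2 (by rw [MulAction.mem_stabilizer_iff, AlgEquiv.smul_def, frob_pow_apply π hπ, h])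
      exact this hf
  have : Finite L := by
    let p : Polynomial (Kb) := Polynomial.X ^ (Nat.card k ^ M) - Polynomial.X
    have hp : p ≠ 0 := FiniteField.X_pow_card_sub_X_ne_zero _ (one_lt_pow₀ Finite.one_lt_card hM.ne')
    refine Set.Finite.to_subtype (p.roots.toFinset.finite_toSet.subset fun x hx => ?_)
    simp only [Finset.mem_coe, Multiset.mem_toFinset, Polynomial.mem_roots hp]
    have hx' := (hmem x).1 hx
    simp only [p, Polynomial.IsRoot.def, Polynomial.eval_sub, Polynomial.eval_pow, Polynomial.eval_X, hx', sub_self]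
  have : IsGalois k L := GaloisField.instIsGaloisOfFinite
  obtain ⟨n, hn⟩ := (FiniteField.bijective_frobeniusAlgEquivOfAlgebraic_pow k L).2 (σ.restrictNormal L)
  refine ⟨n, fun x hx => ?_⟩
  have h1 := congrArg (fun f : L ≃ₐ[k] L => ((f ⟨x, (hmem x).2 hx⟩ : L) : Kb)) hn
  simp only at h1
  rw [frob_pow_apply π hπ, Nat.card_eq_fintype_card]
  refine (AlgEquiv.restrictNormal_commutes σ L ⟨x, (hmem x).2 hx⟩).symm.trans (h1.symm.trans ?_)
  rw [AlgEquiv.coe_pow, FiniteField.coe_frobeniusAlgEquivOfAlgebraic_iterate]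
  rfl

/-- A positive power of Frobenius below the level moves some element of the level. -/
theorem exists_moved {M r : ℕ} (hr : 0 < r) (hrM : r < M) :
    ∃ x : Kb, x ^ (Nat.card k ^ M) = x ∧ (π ^ r) x ≠ x := by
  classical
  by_contra hc
  push Not at hc
  let K := Kb
  obtain ⟨p, hchar⟩ := CharP.exists k
  have hcharK : CharP K p := charP_of_injective_algebraMap (algebraMap k K).injective p
  have hp : p.Prime := CharP.char_prime_of_ne_zero k (CharP.char_ne_zero_of_finite k p)
  have hdvd : p ∣ Nat.card k ^ M := by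
    letI := Fintype.ofFinite k
    refine dvd_pow ?_ (by omega)
    rw [← CharP.cast_eq_zero_iff k p, Nat.card_eq_fintype_card, FiniteField.cast_card_eq_zero]
  have h1 : 1 < Nat.card k ^ r := one_lt_pow₀ Finite.one_lt_card hr.ne'
  let f : Polynomial K := Polynomial.X ^ (Nat.card k ^ M) - Polynomial.X
  let g : Polynomial K := Polynomial.X ^ (Nat.card k ^ r) - Polynomial.X
  have hg : g ≠ 0 := FiniteField.X_pow_card_sub_X_ne_zero K h1
  have hf : f ≠ 0 := FiniteField.X_pow_card_sub_X_ne_zero K (one_lt_pow₀ Finite.one_lt_card (by omega))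
  have hsub : f.roots ≤ g.roots :=
    (Multiset.le_iff_subset (Polynomial.nodup_roots (galois_poly_separable p _ hdvd))).2 fun x hx => by
      rw [Polynomial.mem_roots hf] at hx
      rw [Polynomial.mem_roots hg]
      have hx' : x ^ (Nat.card k ^ M) = x := by simpa [f, sub_eq_zero] using hx
      have := hc x hx'
      rw [frob_pow_apply π hπ] at this
      simp [g, this]
  have h2 : f.roots.card = Nat.card k ^ M := by
    rw [← (IsAlgClosed.splits f).natDegree_eq_card_roots]
    exact FiniteField.X_pow_card_sub_X_natDegree_eq K (one_lt_pow₀ Finite.one_lt_card (by omega))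
  have h3 : g.roots.card ≤ Nat.card k ^ r :=
    (Polynomial.card_roots' g).trans (FiniteField.X_pow_card_sub_X_natDegree_eq K h1).le
  have h4 := (Multiset.card_le_card hsub).trans h3
  rw [h2] at h4
  exact absurd h4 (not_le.2 (Nat.pow_lt_pow_right Finite.one_lt_card hrM))

/-- Exponents agreeing on a finite level are congruent. -/
theorem modEq_of_agree {M : ℕ} (hM : 0 < M) {n n' : ℕ} (hle : n ≤ n')
    (h : ∀ x : Kb, x ^ (Nat.card k ^ M) = x → (π ^ n) x = (π ^ n') x) : M ∣ n' - n := by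
  by_contra hne
  have hr : 0 < (n' - n) % M := Nat.pos_of_ne_zero fun h0 => hne (Nat.dvd_of_mod_eq_zero h0)
  obtain ⟨x, hx, hmove⟩ := exists_moved π hπ hr (Nat.mod_lt _ hM)
  have h1 : (π ^ n) x = (π ^ n) ((π ^ (n' - n)) x) := by
    rw [← AlgEquiv.mul_apply, ← pow_add, Nat.add_sub_cancel' hle]
    exact h x hx
  have h2 := ((π ^ n).injective h1).symm
  have hfix : ∀ t, (π ^ (M * t)) x = x := fun t => by
    induction t with
    | zero => simp
    | succ t ih => rw [Nat.mul_succ, pow_add, AlgEquiv.mul_apply, frob_pow_apply π hπ M x, hx, ih]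
  rw [← Nat.mod_add_div (n' - n) M, pow_add, AlgEquiv.mul_apply, hfix] at h2
  exact hmove h2

variable {A : Type v} [Group A] [MulDistribMulAction (Kb ≃ₐ[k] Kb) A]

omit hπ in
/-- The partial norms. -/
def partNorm (a : A) : ℕ → A
  | 0 => 1
  | n + 1 => partNorm a n * (π ^ n) • a

omit hπ in
lemma partNorm_add (a : A) (m n : ℕ) : partNorm π a (m + n) = partNorm π a m * (π ^ m) • partNorm π a n := by
  induction n with
  | zero => simp [partNorm]
  | succ n ih =>
    rw [Nat.add_succ, partNorm, partNorm, ih, smul_mul', mul_assoc, ← mul_smul, ← pow_add]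

omit hπ in
lemma cocycle_pow (z : GpH1.OneCocycle (Kb ≃ₐ[k] Kb) A) (n : ℕ) :
    z (π ^ n) = partNorm π (z π) n := by
  induction n with
  | zero =>
    have h := z.2 1 1
    rw [mul_one, one_smul] at h
    rw [pow_zero, partNorm]
    exact mul_left_cancel (h.symm.trans (mul_one _).symm)
  | succ n ih => rw [pow_succ, z.2, ih, partNorm]

omit hπ in
lemma isOpen_agree (σ : Kb ≃ₐ[k] Kb) (L : IntermediateField k (Kb))
    [FiniteDimensional k L] : IsOpen {τ : Kb ≃ₐ[k] Kb | σ⁻¹ * τ ∈ L.fixingSubgroup} :=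
  (IntermediateField.fixingSubgroup_isOpen L).preimage (continuous_const_mul σ⁻¹)

/-- A finite extension lies in some finite level. -/
theorem exists_level (L : IntermediateField k (Kb)) [FiniteDimensional k L] :
    ∃ d : ℕ, 0 < d ∧ ∀ m, d ∣ m → ∀ x ∈ L, (π ^ m) x = x := by
  refine ⟨Module.finrank k L, Module.finrank_pos, fun m hm x hx => ?_⟩
  obtain ⟨t, rfl⟩ := hm
  have : Finite L := Module.finite_of_finite k
  letI := Fintype.ofFinite L
  have h1 : x ^ (Nat.card k ^ Module.finrank k L) = x := by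
    rw [← Module.natCard_eq_pow_finrank (K := k) (V := L), Nat.card_eq_fintype_card]
    exact congrArg Subtype.val (FiniteField.pow_card (⟨x, hx⟩ : L))
  induction t with
  | zero => simp
  | succ t ih => rw [Nat.mul_succ, pow_add, AlgEquiv.mul_apply, frob_pow_apply π hπ _ x, h1, ih]

/-- The powers of Frobenius are dense. -/
theorem eq_of_eq_pow {B : Type v} {f f' : (Kb ≃ₐ[k] Kb) → B}
    (hf : IsLocallyConstant f) (hf' : IsLocallyConstant f') (h : ∀ n : ℕ, f (π ^ n) = f' (π ^ n)) : f = f' := by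
  funext σ
  have ho : IsOpen ({τ | f τ = f σ} ∩ {τ | f' τ = f' σ}) := (hf {f σ}).inter (hf' {f' σ})
  have hn : (fun τ => σ * τ) ⁻¹' ({τ | f τ = f σ} ∩ {τ | f' τ = f' σ}) ∈ nhds (1 : Kb ≃ₐ[k] Kb) :=
    (ho.preimage (continuous_const_mul σ)).mem_nhds (by simp)
  obtain ⟨L, hL, hsub⟩ := (krullTopology_mem_nhds_one_iff k (Kb) _).1 hn
  obtain ⟨d, hd, hdL⟩ := exists_level π hπ L
  obtain ⟨n, hn'⟩ := exists_pow_agree π hπ hd σ
  have hmem : σ⁻¹ * π ^ n ∈ L.fixingSubgroup := by
    rw [IntermediateField.mem_fixingSubgroup_iff]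
    intro x hx
    rw [AlgEquiv.mul_apply, ← hn' x ?_]
    · exact σ.symm_apply_apply x
    · rw [← frob_pow_apply π hπ]
      exact hdL d dvd_rfl x hx
  obtain ⟨h1, h2⟩ := hsub hmem
  simp only [Set.mem_ofPred_eq, mul_inv_cancel_left] at h1 h2
  rw [← h1, ← h2]
  exact h n

/-- A finite set of vectors with open stabilisers is fixed by a finite level. -/
theorem exists_level_fixing (hcont : ∀ a : A, IsOpen {σ : Kb ≃ₐ[k] Kb | σ • a = a})
    {s : Set A} (hs : s.Finite) : ∃ (L : IntermediateField k (Kb)), FiniteDimensional k L ∧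
      ∀ σ ∈ L.fixingSubgroup, ∀ x ∈ s, σ • x = x := by
  have hn : (⋂ x ∈ s, {σ : Kb ≃ₐ[k] Kb | σ • x = x}) ∈
      nhds (1 : Kb ≃ₐ[k] Kb) :=
    (hs.isOpen_biInter fun x _ => hcont x).mem_nhds (by simp)
  obtain ⟨L, hL, hsub⟩ := (krullTopology_mem_nhds_one_iff k (Kb) _).1 hn
  exact ⟨L, hL, fun σ hσ x hx => Set.mem_iInter₂.1 (hsub hσ) x hx⟩

/-- Every value at Frobenius is taken by a continuous cocycle. -/
theorem exists_cocycle_at_frob (hcont : ∀ a : A, IsOpen {σ : Kb ≃ₐ[k] Kb | σ • a = a})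
    (hfin : ∀ a : A, ∃ H : Subgroup A, (H : Set A).Finite ∧ a ∈ H ∧
      ∀ (σ : Kb ≃ₐ[k] Kb) (x : A), x ∈ H → σ • x ∈ H) (a : A) :
    ∃ z : GpH1.OneCocycleLC (Kb ≃ₐ[k] Kb) A, z.1 π = a := by
  classical
  obtain ⟨H, hHf, haH, hst⟩ := hfin a
  obtain ⟨L, hL, hfix⟩ := exists_level_fixing π hπ hcont hHf
  obtain ⟨d, hd, hdL⟩ := exists_level π hπ L
  have hd' : ∀ m, d ∣ m → ∀ x ∈ H, (π ^ m) • x = x := fun m hm x hx =>
    hfix _ ((IntermediateField.mem_fixingSubgroup_iff L _).2 fun y hy => hdL m hm y hy) x hx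
  have hN : ∀ n, partNorm π a n ∈ H := fun n => by
    induction n with
    | zero => exact H.one_mem
    | succ n ih => exact H.mul_mem ih (hst _ _ haH)
  have hNd : ∀ i, partNorm π a (d * i) = partNorm π a d ^ i := fun i => by
    induction i with
    | zero => simp [partNorm]
    | succ i ih => rw [Nat.mul_succ, partNorm_add, ih, hd' _ (dvd_mul_right d i) _ (hN d), pow_succ]
  have : Finite H := hHf.to_subtype
  let M := d * Nat.card H
  have hM : 0 < M := Nat.mul_pos hd Nat.card_pos
  have hNM : ∀ t, partNorm π a (M * t) = 1 := fun t => by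
    have h1 : partNorm π a d ^ Nat.card H = 1 :=
      congrArg Subtype.val (pow_card_eq_one' (x := (⟨_, hN d⟩ : H)))
    rw [show M * t = d * (Nat.card H * t) from Nat.mul_assoc _ _ _, hNd, pow_mul, h1, one_pow]
  have hper : ∀ {n n' : ℕ}, (∀ x : Kb, x ^ (Nat.card k ^ M) = x → (π ^ n) x = (π ^ n') x) →
      partNorm π a n = partNorm π a n' := fun {n n'} h => by
    rcases le_total n n' with hle | hle
    · obtain ⟨t, ht⟩ := modEq_of_agree π hπ hM hle h
      rw [← Nat.add_sub_cancel' hle, ht, partNorm_add, hNM, smul_one, mul_one]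
    · obtain ⟨t, ht⟩ := modEq_of_agree π hπ hM hle fun x hx => (h x hx).symm
      rw [← Nat.add_sub_cancel' hle, ht, partNorm_add, hNM, smul_one, mul_one]
  choose e he using exists_pow_agree π hπ hM
  have hLM : ∀ x ∈ L, x ^ (Nat.card k ^ M) = x := fun x hx => by
    rw [← frob_pow_apply π hπ]
    exact hdL M (dvd_mul_right _ _) x hx
  have hact : ∀ σ : Kb ≃ₐ[k] Kb, ∀ x ∈ H, σ • x = (π ^ e σ) • x := fun σ x hx => by
    have hm : (π ^ e σ)⁻¹ * σ ∈ L.fixingSubgroup := (IntermediateField.mem_fixingSubgroup_iff L _).2 fun y hy => by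
      rw [AlgEquiv.mul_apply, he σ y (hLM y hy)]
      exact (π ^ e σ).symm_apply_apply y
    rw [← inv_smul_eq_iff, ← mul_smul]
    exact hfix _ hm x hx
  let z : (Kb ≃ₐ[k] Kb) → A := fun σ => partNorm π a (e σ)
  have hco : GpH1.IsOneCocycle z := fun σ τ => by
    change partNorm π a (e (σ * τ)) = partNorm π a (e σ) * σ • partNorm π a (e τ)
    rw [hact σ _ (hN _), ← partNorm_add]
    refine hper fun x hx => ?_
    rw [← he (σ * τ) x hx, AlgEquiv.mul_apply, he τ x hx, he σ _ ?_, ← AlgEquiv.mul_apply, ← pow_add]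
    rw [← map_pow, hx]
  have hlc : IsLocallyConstant z := by
    refine (IsLocallyConstant.iff_exists_open z).2 fun σ => ?_
    obtain ⟨d', hd'', hd'L⟩ : ∃ E : IntermediateField k (Kb), FiniteDimensional k E ∧
        ∀ x : Kb, x ^ (Nat.card k ^ M) = x → x ∈ E := by
      let T : Set (Kb) := {x | x ^ (Nat.card k ^ M) = x}
      have hT : T.Finite := by
        let p : Polynomial (Kb) := Polynomial.X ^ (Nat.card k ^ M) - Polynomial.X
        have hp : p ≠ 0 := FiniteField.X_pow_card_sub_X_ne_zero _ (one_lt_pow₀ Finite.one_lt_card hM.ne')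
        refine p.roots.toFinset.finite_toSet.subset fun x hx => ?_
        simp only [Finset.mem_coe, Multiset.mem_toFinset, Polynomial.mem_roots hp]
        simp [p, show x ^ (Nat.card k ^ M) = x from hx]
      have := hT.to_subtype
      exact ⟨IntermediateField.adjoin k T, IntermediateField.finiteDimensional_adjoin
        (fun x _ => Algebra.IsIntegral.isIntegral x), fun x hx => IntermediateField.subset_adjoin k T hx⟩
    refine ⟨_, isOpen_agree σ d', by simp only [Set.mem_ofPred_eq, inv_mul_cancel]; exact one_mem _, fun τ hτ => hper fun x hx => ?_⟩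
    have h1 := (IntermediateField.mem_fixingSubgroup_iff d' _).1 hτ x (hd'L x hx)
    rw [← he τ x hx, ← he σ x hx]
    have h2 := congrArg σ h1
    rw [AlgEquiv.mul_apply] at h2
    exact (σ.apply_symm_apply (τ x)).symm.trans h2
  refine ⟨⟨⟨z, hco⟩, hlc⟩, ?_⟩
  change partNorm π a (e π) = a
  rw [hper (n := e π) (n' := 1) (fun x hx => by rw [← he π x hx, pow_one])]
  simp [partNorm]

/-- The classification of continuous cocycles by the value at Frobenius. -/
theorem frobeniusValue (hcont : ∀ a : A, IsOpen {σ : Kb ≃ₐ[k] Kb | σ • a = a})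
    (hfin : ∀ a : A, ∃ H : Subgroup A, (H : Set A).Finite ∧ a ∈ H ∧
      ∀ (σ : Kb ≃ₐ[k] Kb) (x : A), x ∈ H → σ • x ∈ H) :
    Function.Bijective
        (fun z : GpH1.OneCocycleLC (Kb ≃ₐ[k] Kb) A => z.1 π) ∧
      ∀ z z' : GpH1.OneCocycleLC (Kb ≃ₐ[k] Kb) A,
        z.cl = z'.cl ↔ ∃ g : A, z'.1 π = g * z.1 π * (π • g)⁻¹ := by
  refine ⟨⟨fun z z' h => Subtype.ext (GpH1.OneCocycle.ext (congrFun (eq_of_eq_pow π hπ z.2 z'.2 fun n => ?_))),
    exists_cocycle_at_frob π hπ hcont hfin⟩, fun z z' => ?_⟩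
  · rw [cocycle_pow π z.1, cocycle_pow π z'.1]
    exact congrArg (fun a => partNorm π a n) h
  rw [GpH1.OneCocycleLC.cl_eq_cl_iff]
  constructor
  · rintro ⟨c, hc⟩
    exact ⟨c, by rw [hc π]; group⟩
  · rintro ⟨g, hg⟩
    refine ⟨g, fun σ => ?_⟩
    let w : GpH1.OneCocycle (Kb ≃ₐ[k] Kb) A :=
      ⟨fun σ => g⁻¹ * z'.1 σ * σ • g, fun σ τ => by
        simp only [z'.1.2 σ τ, smul_mul', smul_inv', mul_smul]
        group⟩
    have hlc : IsLocallyConstant (w : (Kb ≃ₐ[k] Kb) → A) := by
      have hs : IsLocallyConstant fun σ : Kb ≃ₐ[k] Kb => σ • g := by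
        refine (IsLocallyConstant.iff_exists_open _).2 fun σ => ?_
        refine ⟨{τ | (σ⁻¹ * τ) • g = g}, (hcont g).preimage (continuous_const_mul σ⁻¹), by simp, fun τ hτ => ?_⟩
        have hτ' : (σ⁻¹ * τ) • g = g := hτ
        rw [mul_smul, inv_smul_eq_iff] at hτ'
        exact hτ'
      exact ((IsLocallyConstant.const g⁻¹).mul z'.2).mul hs
    refine congrFun (eq_of_eq_pow π hπ (f := fun σ => z.1 σ) (f' := fun σ => w σ) z.2 hlc fun n => ?_) σ
    rw [cocycle_pow π z.1, cocycle_pow π w]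
    congr 1
    change _ = g⁻¹ * z'.1 π * π • g
    rw [hg]
    group

end Groth.Agent.H14Count
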