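import Groth.Agent.H14Count.Desc
import Groth.Agent.H14Count.FrobCocycle
import Mathlib

/-!
# Geometric points fixed by a power of Frobenius
-/

set_option autoImplicit false
set_option linter.unusedVariables false
set_option linter.unusedSectionVars false
set_option backward.isDefEq.respectTransparency false
set_option backward.isDefEq.respectTransparency.types false

universe u

open CategoryTheory CategoryTheory.Limits AlgebraicGeometry

noncomputable section

namespace Groth.Agent.H14Count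

variable {k : Type u} [Field k] {k' : Type u} [Field k'] [Algebra k k'] [Finite k']
  {Kb : Type u} [Field Kb] [IsAlgClosed Kb] [Algebra k Kb] [Algebra k' Kb] [IsScalarTower k k' Kb]
  [Algebra.IsAlgebraic k' Kb]
  (π : Kb ≃ₐ[k'] Kb) (hπ : ∀ x : Kb, π x = x ^ Nat.card k')

instance isScalarTower_level (L : IntermediateField k' Kb) : IsScalarTower k L Kb :=
  IsScalarTower.of_algebraMap_eq fun x => rfl

/-- The fixed field of a power of an automorphism. -/
def fixedLevel (n : ℕ) : IntermediateField k' Kb := IntermediateField.fixedField (Subgroup.zpowers (π ^ n))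

lemma mem_fixedLevel {n : ℕ} {x : Kb} : x ∈ fixedLevel π n ↔ (π ^ n) x = x := by
  rw [fixedLevel, IntermediateField.mem_fixedField_iff]
  refine ⟨fun h => h _ (Subgroup.mem_zpowers _), fun h f hf => ?_⟩
  have : Subgroup.zpowers (π ^ n) ≤ MulAction.stabilizer (Kb ≃ₐ[k'] Kb) x :=
    Subgroup.zpowers_le.2 (by rw [MulAction.mem_stabilizer_iff, AlgEquiv.smul_def, h])
  exact this hf

include hπ in
lemma finite_fixedLevel {n : ℕ} (hn : 0 < n) : Finite (fixedLevel π n) := by
  classical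
  let p : Polynomial Kb := Polynomial.X ^ (Nat.card k' ^ n) - Polynomial.X
  have hp : p ≠ 0 := FiniteField.X_pow_card_sub_X_ne_zero _ (one_lt_pow₀ Finite.one_lt_card hn.ne')
  refine Set.Finite.to_subtype (p.roots.toFinset.finite_toSet.subset fun x hx => ?_)
  simp only [Finset.mem_coe, Multiset.mem_toFinset, Polynomial.mem_roots hp]
  have hx' : x ^ (Nat.card k' ^ n) = x := by
    rw [← frob_pow_apply π hπ]
    exact (mem_fixedLevel π).1 hx
  simp [p, hx']

lemma epi_toPt (L : Type u) [Field L] [Algebra k L] [Algebra L Kb] [IsScalarTower k L Kb] : Epi (toPt k L Kb) := by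
  have : Surjective (toPt k L Kb).left :=
    ⟨fun s => ⟨IsLocalRing.closedPoint Kb, Subsingleton.elim (α := PrimeSpectrum L) _ _⟩⟩
  have : Flat (toPt k L Kb).left :=
    Flat.SpecMap_iff.mpr (RingHom.flat_algebraMap_iff.mpr (inferInstance : Module.Flat L Kb))
  have : QuasiCompact (toPt k L Kb).left :=
    inferInstanceAs (QuasiCompact (Spec.map (CommRingCat.ofHom (algebraMap L Kb))))
  exact ⟨fun a b hab => Over.OverMorphism.ext ((cancel_epi (toPt k L Kb).left).1 (congrArg (fun m => m.left) hab))⟩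

lemma ptAut_pow_succ (n : ℕ) : ptAut k (π ^ (n + 1)) = ptAut k (π ^ n) ≫ ptAut k π := by
  rw [pow_succ, ptAut_mul]

lemma ptAut_pow_add (m n : ℕ) : ptAut k (π ^ (m + n)) = ptAut k (π ^ m) ≫ ptAut k (π ^ n) := by
  rw [pow_add, ptAut_mul]

/-- Points fixed by an automorphism are fixed by its powers. -/
lemma fixed_of_dvd {Y : Over (Spec (CommRingCat.of k))} {y : SGA7.pt (K := k) Kb ⟶ Y} {n m : ℕ}
    (h : ptAut k (π ^ n) ≫ y = y) (hdvd : n ∣ m) : ptAut k (π ^ m) ≫ y = y := by
  obtain ⟨t, rfl⟩ := hdvd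
  induction t with
  | zero => rw [Nat.mul_zero, pow_zero, ptAut_one, Category.id_comp]
  | succ t ih => rw [Nat.mul_succ, ptAut_pow_add, Category.assoc, h, ih]

variable (k) in
/-- A geometric point on an affine open is an evaluation of its coordinate ring. -/
lemma exists_eval {U : Scheme.{u}} [IsAffine U] (f : U ⟶ Spec (CommRingCat.of k)) [LocallyOfFiniteType f] :
    ∃ s : Finset Γ(U, ⊤), ∀ (a b : Spec (CommRingCat.of Kb) ⟶ U), a ≫ f = b ≫ f →
      (∀ x ∈ s, a.appTop x = b.appTop x) → a = b := by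
  classical
  have hft : f.appTop.hom.FiniteType :=
    (HasRingHomProperty.iff_of_isAffine (P := @LocallyOfFiniteType)).1 inferInstance
  let A₀ : Type u := Γ(Spec (CommRingCat.of k), ⊤)
  algebraize [f.appTop.hom]
  obtain ⟨s, hs⟩ := (Algebra.FiniteType.out : (⊤ : Subalgebra A₀ Γ(U, ⊤)).FG)
  refine ⟨s, fun a b hab h => ext_of_isAffine (CommRingCat.hom_ext ?_)⟩
  letI : Algebra A₀ Γ(Spec (CommRingCat.of Kb), ⊤) := (a ≫ f).appTop.hom.toAlgebra
  have hca : ∀ c : A₀, a.appTop.hom (f.appTop.hom c) = (a ≫ f).appTop.hom c := fun c => by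
    rw [Scheme.Hom.comp_appTop]
    rfl
  have hcb : ∀ c : A₀, b.appTop.hom (f.appTop.hom c) = (a ≫ f).appTop.hom c := fun c => by
    rw [hab, Scheme.Hom.comp_appTop]
    rfl
  let Aa : Γ(U, ⊤) →ₐ[A₀] Γ(Spec (CommRingCat.of Kb), ⊤) := { a.appTop.hom with commutes' := hca }
  let Ab : Γ(U, ⊤) →ₐ[A₀] Γ(Spec (CommRingCat.of Kb), ⊤) := { b.appTop.hom with commutes' := hcb }
  exact congrArg AlgHom.toRingHom (AlgHom.ext_of_adjoin_eq_top (φ₁ := Aa) (φ₂ := Ab) hs h)

/-- The value of a function at a geometric point, as an element of the field. -/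
abbrev evalAt {U : Scheme.{u}} (a : Spec (CommRingCat.of Kb) ⟶ U) (x : Γ(U, ⊤)) : Kb :=
  (Scheme.ΓSpecIso (CommRingCat.of Kb)).hom (a.appTop x)

lemma evalAt_ptAut {U : Scheme.{u}} (a : Spec (CommRingCat.of Kb) ⟶ U) (σ : Kb ≃ₐ[k'] Kb) (x : Γ(U, ⊤)) :
    evalAt ((ptAut k σ).left ≫ a) x = σ (evalAt a x) := by
  rw [evalAt, Scheme.Hom.comp_appTop]
  exact congrArg (fun g => g.hom (a.appTop x)) (Scheme.ΓSpecIso_naturality (CommRingCat.ofHom (σ : Kb →ₐ[k'] Kb).toRingHom))

lemma eq_of_evalAt {U : Scheme.{u}} {a b : Spec (CommRingCat.of Kb) ⟶ U} {x : Γ(U, ⊤)}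
    (h : evalAt a x = evalAt b x) : a.appTop x = b.appTop x :=
  (ConcreteCategory.bijective_of_isIso (Scheme.ΓSpecIso (CommRingCat.of Kb)).hom).1 h

lemma exists_affine_factor {Y : Over (Spec (CommRingCat.of k))} {U : Scheme.{u}} (e : U ⟶ Y.left) [IsOpenImmersion e]
    (y : SGA7.pt (K := k) Kb ⟶ Y) (hy : y.left (IsLocalRing.closedPoint Kb) ∈ Set.range e) :
    ∃ a : Spec (CommRingCat.of Kb) ⟶ U, a ≫ e = y.left := by
  have hr : Set.range y.left ⊆ Set.range e := by
    rintro _ ⟨s, rfl⟩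
    rwa [show s = IsLocalRing.closedPoint Kb from Subsingleton.elim (α := PrimeSpectrum Kb) _ _]
  exact ⟨IsOpenImmersion.lift e y.left hr, IsOpenImmersion.lift_fac _ _ hr⟩

include hπ in
/-- A geometric point of a scheme locally of finite type is fixed by a power of Frobenius. -/
theorem exists_period {Y : Over (Spec (CommRingCat.of k))} [LocallyOfFiniteType Y.hom]
    (y : SGA7.pt (K := k) Kb ⟶ Y) : ∃ n, 0 < n ∧ ptAut k (π ^ n) ≫ y = y := by
  classical
  obtain ⟨i, hi⟩ := Y.left.affineCover.exists_eq (y.left (IsLocalRing.closedPoint Kb))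
  let U := Y.left.affineCover.X i
  let e := Y.left.affineCover.f i
  obtain ⟨a, ha⟩ := exists_affine_factor e y hi
  obtain ⟨s, hs⟩ := exists_eval k (Kb := Kb) (e ≫ Y.hom)
  let L : IntermediateField k' Kb := IntermediateField.adjoin k' ((evalAt a) '' (s : Set Γ(U, ⊤)))
  have : FiniteDimensional k' L := by
    have := (s.finite_toSet.image (evalAt a)).to_subtype
    exact IntermediateField.finiteDimensional_adjoin fun x _ => Algebra.IsIntegral.isIntegral x
  obtain ⟨d, hd, hdL⟩ := exists_level π hπ L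
  refine ⟨d, hd, Over.OverMorphism.ext ?_⟩
  rw [Over.comp_left, ← ha, ← Category.assoc]
  congr 1
  refine hs _ _ ?_ fun x hx => eq_of_evalAt ?_
  · have h1 := Over.w (ptAut k (π ^ d) ≫ y)
    rw [Over.comp_left, ← ha] at h1
    have h2 := Over.w y
    rw [← ha] at h2
    simp only [Category.assoc] at h1 h2 ⊢
    exact h1.trans h2.symm
  · rw [evalAt_ptAut, hdL d dvd_rfl _ (IntermediateField.subset_adjoin k' _ ⟨x, hx, rfl⟩)]

include hπ in
/-- There are finitely many points fixed by a power of Frobenius. -/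
theorem finite_fixed (Y : Over (Spec (CommRingCat.of k))) [QuasiCompact Y.hom] [LocallyOfFiniteType Y.hom] {n : ℕ}
    (hn : 0 < n) : {y : SGA7.pt (K := k) Kb ⟶ Y | ptAut k (π ^ n) ≫ y = y}.Finite := by
  classical
  have : CompactSpace Y.left := QuasiCompact.compactSpace_of_compactSpace Y.hom
  let 𝒰 := Y.left.affineCover.finiteSubcover
  have : ∀ i, IsAffine (𝒰.X i) := fun i => inferInstanceAs (IsAffine (Y.left.affineCover.X _))
  choose s hs using fun i => exists_eval k (Kb := Kb) (𝒰.f i ≫ Y.hom)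
  have := finite_fixedLevel π hπ hn
  have hfac : ∀ y : {y : SGA7.pt (K := k) Kb ⟶ Y // ptAut k (π ^ n) ≫ y = y}, ∃ i a, a ≫ 𝒰.f i = y.1.left :=
    fun y => by
      obtain ⟨i, w, hw⟩ := 𝒰.exists_eq (y.1.left (IsLocalRing.closedPoint Kb))
      exact ⟨i, exists_affine_factor (𝒰.f i) y.1 ⟨w, hw⟩⟩
  choose i a ha using hfac
  have hmem : ∀ y (x : 𝒰.X (i y) |>.presheaf.obj (Opposite.op ⊤)), evalAt (a y) x ∈ fixedLevel π n := by
    intro y x
    rw [mem_fixedLevel, ← evalAt_ptAut (k := k)]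
    congr 1
    rw [← cancel_mono (𝒰.f (i y)), Category.assoc, ha y, ← Over.comp_left, y.2]
  let Φ : {y : SGA7.pt (K := k) Kb ⟶ Y // ptAut k (π ^ n) ≫ y = y} → Σ j, (↥(s j) → fixedLevel π n) :=
    fun y => ⟨i y, fun x => ⟨evalAt (a y) x.1, hmem y x.1⟩⟩
  refine Set.finite_coe_iff.1 (Finite.of_injective Φ fun y y' h => ?_)
  have key : ∀ (j j' : 𝒰.I₀) (b : Spec (CommRingCat.of Kb) ⟶ 𝒰.X j) (b' : Spec (CommRingCat.of Kb) ⟶ 𝒰.X j')
      (hb : ∀ x : ↥(s j), evalAt b x.1 ∈ fixedLevel π n) (hb' : ∀ x : ↥(s j'), evalAt b' x.1 ∈ fixedLevel π n),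
      (b ≫ 𝒰.f j) ≫ Y.hom = (b' ≫ 𝒰.f j') ≫ Y.hom →
      (⟨j, fun x => ⟨_, hb x⟩⟩ : Σ j, (↥(s j) → fixedLevel π n)) = ⟨j', fun x => ⟨_, hb' x⟩⟩ →
        b ≫ 𝒰.f j = b' ≫ 𝒰.f j' := by
    intro j j' b b' hb hb' hw he
    obtain rfl : j = j' := congrArg Sigma.fst he
    have he' := eq_of_heq (Sigma.mk.inj_iff.1 he).2
    refine congrArg (· ≫ 𝒰.f j) (hs j b b' ?_ fun x hx => eq_of_evalAt ?_)
    · simpa only [Category.assoc] using hw
    · exact congrArg Subtype.val (congrFun he' ⟨x, hx⟩)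
  refine Subtype.ext (Over.OverMorphism.ext ?_)
  rw [← ha y, ← ha y']
  refine key _ _ _ _ (fun x => hmem y x.1) (fun x => hmem y' x.1) ?_ h
  rw [ha y, ha y']
  exact (Over.w y.1).trans (Over.w y'.1).symm

include hπ in
/-- A point fixed by the `n`th power is defined over the fixed field of that power. -/
theorem exists_factor_fixed {Y : Over (Spec (CommRingCat.of k))} {n : ℕ} (hn : 0 < n)
    (y : SGA7.pt (K := k) Kb ⟶ Y) (hy : ptAut k (π ^ n) ≫ y = y) :
    ∃ y₀ : SGA7.pt (K := k) (fixedLevel π n) ⟶ Y, toPt k (fixedLevel π n) Kb ≫ y₀ = y := by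
  let L := fixedLevel π n
  obtain ⟨p, ι', hι'⟩ : ∃ (p : Y.left) (ι' : Y.left.residueField p ⟶ CommRingCat.of Kb),
      y.left = Spec.map ι' ≫ Y.left.fromSpecResidueField p :=
    ⟨_, _, ((Scheme.SpecToEquivOfField Kb Y.left).left_inv y.left).symm⟩
  have hfix : ι' ≫ CommRingCat.ofHom ((π ^ n : Kb ≃ₐ[k'] Kb) : Kb →ₐ[k'] Kb).toRingHom = ι' := by
    have h1 : (ptAut k (π ^ n)).left ≫ y.left = y.left := congrArg (fun m => m.left) hy
    rw [hι', ptAut_left, ← Category.assoc, ← Spec.map_comp] at h1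
    exact Spec.map_injective ((cancel_mono (Y.left.fromSpecResidueField p)).1 h1)
  let jh : Y.left.residueField p →+* L :=
    ι'.hom.codRestrict L.toSubfield fun a => (mem_fixedLevel π).2 (congrArg (fun g => g.hom a) hfix)
  have hι : ι' = CommRingCat.ofHom jh ≫ CommRingCat.ofHom (algebraMap L Kb) := by
    ext a
    rfl
  have hl : (toPt k L Kb).left ≫ Spec.map (CommRingCat.ofHom jh) ≫ Y.left.fromSpecResidueField p = y.left := by
    change Spec.map _ ≫ _ = _
    rw [← Category.assoc, ← Spec.map_comp, ← hι, hι']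
  have : Surjective (toPt k L Kb).left :=
    ⟨fun s => ⟨IsLocalRing.closedPoint Kb, Subsingleton.elim (α := PrimeSpectrum L) _ _⟩⟩
  have : Flat (toPt k L Kb).left :=
    Flat.SpecMap_iff.mpr (RingHom.flat_algebraMap_iff.mpr (inferInstance : Module.Flat L Kb))
  have : QuasiCompact (toPt k L Kb).left :=
    inferInstanceAs (QuasiCompact (Spec.map (CommRingCat.ofHom (algebraMap L Kb))))
  refine ⟨Over.homMk (Spec.map (CommRingCat.ofHom jh) ≫ Y.left.fromSpecResidueField p) ?_, Over.OverMorphism.ext hl⟩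
  refine (cancel_epi (toPt k L Kb).left).1 ?_
  rw [← Category.assoc, hl, Over.w y]
  exact (Over.w (toPt k L Kb)).symm

end Groth.Agent.H14Count
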