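import Groth.Agent.H14Count.LevelTorsor
import Groth.Agent.H14Count.GeomPoints
import Groth.Agent.H14Count.Fibre
import Mathlib

/-!
# Objects of a quotient stack over a finite field and their geometric points
-/

set_option autoImplicit false
set_option linter.unusedVariables false
set_option linter.unusedSectionVars false
set_option backward.isDefEq.respectTransparency false
set_option backward.isDefEq.respectTransparency.types false

universe u

open CategoryTheory CategoryTheory.Functor CategoryTheory.Limits MonoidalCategory CartesianMonoidalCategory MonObj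
open AlgebraicGeometry AlgSt

noncomputable section

namespace Groth.Agent.H14Count

attribute [local instance 2000] Hom.group Hom.monoid

variable {k : Type u} [Field k] {k' : Type u} [Field k'] [Algebra k k'] [Finite k']
  {Kb : Type u} [Field Kb] [IsAlgClosed Kb] [Algebra k Kb] [Algebra k' Kb] [IsScalarTower k k' Kb]
  [Algebra.IsAlgebraic k' Kb]
  (π : Kb ≃ₐ[k'] Kb) (hπ : ∀ x : Kb, π x = x ^ Nat.card k')
  {G X : Over (Spec (CommRingCat.of k))} [GrpObj G] {aX : AlgGrp.Action G X}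

/-- The partial twisted norms of a geometric point of the group. -/
def geoNorm (a : SGA7.pt (K := k) Kb ⟶ G) : ℕ → (SGA7.pt (K := k) Kb ⟶ G)
  | 0 => 1
  | n + 1 => a * (ptAut k π ≫ geoNorm a n)

lemma geoNorm_add (a : SGA7.pt (K := k) Kb ⟶ G) (m n : ℕ) :
    geoNorm π a (m + n) = geoNorm π a m * (ptAut k (π ^ m) ≫ geoNorm π a n) := by
  induction m with
  | zero => rw [Nat.zero_add, geoNorm, pow_zero, ptAut_one, Category.id_comp, _root_.one_mul]
  | succ m ih => rw [Nat.succ_add, geoNorm, ih, geoNorm, pow_succ', ptAut_mul, MonObj.comp_mul, Category.assoc,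
      _root_.mul_assoc]

lemma geoNorm_one (a : SGA7.pt (K := k) Kb ⟶ G) : geoNorm π a 1 = a := by
  rw [geoNorm, geoNorm, MonObj.comp_one, _root_.mul_one]

lemma geoNorm_fixed {a : SGA7.pt (K := k) Kb ⟶ G} {d : ℕ} (ha : ptAut k (π ^ d) ≫ a = a) (n : ℕ) :
    ptAut k (π ^ d) ≫ geoNorm π a n = geoNorm π a n := by
  induction n with
  | zero => rw [geoNorm, MonObj.comp_one]
  | succ n ih => rw [geoNorm, MonObj.comp_mul, ha, ← Category.assoc, ← ptAut_mul, ← pow_succ, pow_succ', ptAut_mul,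
      Category.assoc, ih]

include hπ in
/-- Some level fixes a point and kills its norm. -/
theorem exists_norm_level [LocallyOfFiniteType G.hom] [QuasiCompact G.hom] (a : SGA7.pt (K := k) Kb ⟶ G) :
    ∃ n, 0 < n ∧ ptAut k (π ^ n) ≫ a = a ∧ geoNorm π a n = 1 := by
  obtain ⟨d, hd, ha⟩ := exists_period π hπ a
  let H : Subgroup (SGA7.pt (K := k) Kb ⟶ G) :=
    { carrier := {y | ptAut k (π ^ d) ≫ y = y}
      mul_mem' := fun {x y} hx hy => by
        change ptAut k (π ^ d) ≫ (x * y) = x * y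
        rw [MonObj.comp_mul, hx, hy]
      one_mem' := MonObj.comp_one _
      inv_mem' := fun {x} hx => by
        change ptAut k (π ^ d) ≫ x⁻¹ = x⁻¹
        rw [GrpObj.comp_inv, hx] }
  have : Finite H := (finite_fixed π hπ G hd).to_subtype
  have hN : ∀ i, geoNorm π a (d * i) = geoNorm π a d ^ i := fun i => by
    induction i with
    | zero => rw [Nat.mul_zero, geoNorm, pow_zero]
    | succ i ih => rw [Nat.mul_succ, geoNorm_add, ih, fixed_of_dvd π (geoNorm_fixed π ha d) (dvd_mul_right d i), pow_succ]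
  refine ⟨d * Nat.card H, Nat.mul_pos hd Nat.card_pos, fixed_of_dvd π ha (dvd_mul_right _ _), ?_⟩
  rw [hN]
  exact congrArg Subtype.val (pow_card_eq_one' (x := (⟨_, geoNorm_fixed π ha d⟩ : H)))

/-- A Frobenius relation iterates. -/
lemma rel_norm {Y : Over (Spec (CommRingCat.of k))} {act : AlgGrp.Action G Y} {a : SGA7.pt (K := k) Kb ⟶ G}
    {y : SGA7.pt (K := k) Kb ⟶ Y} (h : lift a (ptAut k π ≫ y) ≫ act.act = y) (n : ℕ) :
    lift (geoNorm π a n) (ptAut k (π ^ n) ≫ y) ≫ act.act = y := by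
  induction n with
  | zero => rw [geoNorm, pow_zero, ptAut_one, Category.id_comp, AlgGrp.Action.lift_one_act]
  | succ n ih =>
    have e : lift (ptAut k π ≫ geoNorm π a n) (ptAut k (π ^ (n + 1)) ≫ y) ≫ act.act = ptAut k π ≫ y := by
      rw [pow_succ', ptAut_mul, Category.assoc, ← comp_lift, Category.assoc, ih]
    rw [geoNorm, AlgGrp.Action.lift_mul_act, e, h]

lemma fixed_of_norm {Y : Over (Spec (CommRingCat.of k))} {act : AlgGrp.Action G Y} {a : SGA7.pt (K := k) Kb ⟶ G}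
    {y : SGA7.pt (K := k) Kb ⟶ Y} (h : lift a (ptAut k π ≫ y) ≫ act.act = y) {n : ℕ} (hn : geoNorm π a n = 1) :
    ptAut k (π ^ n) ≫ y = y := by
  have := rel_norm π h n
  rwa [hn, AlgGrp.Action.lift_one_act] at this

lemma toPt_comp (L : IntermediateField k' Kb) : toPt k L Kb ≫ toPt k k' L = toPt k k' Kb := by
  ext : 1
  change Spec.map _ ≫ Spec.map _ = Spec.map _
  rw [← Spec.map_comp]
  rfl

lemma ptAut_toPt_level (L : IntermediateField k' Kb) (τ : L ≃ₐ[k'] L) (σ : Kb ≃ₐ[k'] Kb)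
    (h : ∀ x : L, ((τ x : L) : Kb) = σ x) : ptAut k σ ≫ toPt k L Kb = toPt k L Kb ≫ ptAut k τ := by
  ext : 1
  change Spec.map _ ≫ Spec.map _ = Spec.map _ ≫ Spec.map _
  rw [← Spec.map_comp, ← Spec.map_comp]
  congr 1
  ext x
  exact (h x).symm

variable {J : Precoverage Scheme.{u}}

include hπ in
/-- Every Frobenius relation of a point of `X` is realised by a point of an object over the base. -/
theorem exists_obj_of_frob [IsAffineHom G.hom] [LocallyOfFiniteType G.hom]
    (hJ : Scheme.etalePrecoverage ≤ J) (a : SGA7.pt (K := k) Kb ⟶ G) (x : SGA7.pt (K := k) Kb ⟶ X)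
    (hx : lift a (ptAut k π ≫ x) ≫ aX.act = x) :
    ∃ (A : (QuotObj.forget J G aX).Fiber (SGA7.pt (K := k) k')) (p : SGA7.pt (K := k) Kb ⟶ A.1.P),
      p ≫ A.1.π = toPt k k' Kb ≫ eqToHom A.2.symm ∧ p ≫ A.1.φ = x ∧
        lift a (ptAut k π ≫ p) ≫ A.1.act.act = p := by
  obtain ⟨M, hM, ha, hN⟩ := exists_norm_level π hπ a
  let L := fixedLevel π M
  have : Finite L := finite_fixedLevel π hπ hM
  have : IsGalois k' L := GaloisField.instIsGaloisOfFinite
  have hLM : ∀ x : Kb, x ^ (Nat.card k' ^ M) = x ↔ x ∈ L := fun x => by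
    rw [mem_fixedLevel, frob_pow_apply π hπ]
  have hper : ∀ {n n' : ℕ}, (∀ x : L, (π ^ n) (x : Kb) = (π ^ n') (x : Kb)) →
      geoNorm π a n = geoNorm π a n' := fun {n n'} h => by
    have hNM : ∀ t, geoNorm π a (M * t) = 1 := fun t => by
      induction t with
      | zero => rw [Nat.mul_zero, geoNorm]
      | succ t ih => rw [Nat.mul_succ, geoNorm_add, ih, hN, MonObj.comp_one, _root_.mul_one]
    have hag : ∀ x : Kb, x ^ (Nat.card k' ^ M) = x → (π ^ n) x = (π ^ n') x := fun x hx => h ⟨x, (hLM x).1 hx⟩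
    rcases le_total n n' with hle | hle
    · obtain ⟨t, ht⟩ := modEq_of_agree π hπ hM hle hag
      rw [← Nat.add_sub_cancel' hle, geoNorm_add, ht, hNM, MonObj.comp_one, _root_.mul_one]
    · obtain ⟨t, ht⟩ := modEq_of_agree π hπ hM hle fun x hx => (hag x hx).symm
      rw [← Nat.add_sub_cancel' hle, geoNorm_add, ht, hNM, MonObj.comp_one, _root_.mul_one]
  have hlift : ∀ τ : L ≃ₐ[k'] L, ∃ e : ℕ, ∀ x : L, ((τ x : L) : Kb) = (π ^ e) x := fun τ => by
    haveI : IsAlgClosure k' Kb := ⟨inferInstance, inferInstance⟩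
    haveI : Normal k' Kb := IsAlgClosure.normal k' Kb
    obtain ⟨e, he⟩ := exists_pow_agree π hπ hM (τ.liftNormal Kb)
    exact ⟨e, fun x => (AlgEquiv.liftNormal_commutes τ Kb x).symm.trans (he _ ((hLM _).2 x.2))⟩
  choose e he using hlift
  choose c hc using fun τ : L ≃ₐ[k'] L => exists_factor_fixed π hπ hM (geoNorm π a (e τ)) (geoNorm_fixed π ha _)
  obtain ⟨x₀, hx₀⟩ := exists_factor_fixed π hπ hM x (fixed_of_norm π hx hN)
  have hep : Epi (toPt k L Kb) := epi_toPt L
  have hcc : ∀ σ τ, c (σ * τ) = c σ * (ptAut k σ ≫ c τ) := fun σ τ => by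
    rw [← cancel_epi (toPt k L Kb), MonObj.comp_mul, hc, hc, ← Category.assoc,
      ← ptAut_toPt_level (k := k) L σ (π ^ e σ) (he σ), Category.assoc, hc, ← geoNorm_add]
    refine hper fun x => ?_
    rw [← he (σ * τ) x, AlgEquiv.mul_apply, he σ, he τ, pow_add, AlgEquiv.mul_apply]
  have hxx : ∀ σ, lift (c σ) (ptAut k σ ≫ x₀) ≫ aX.act = x₀ := fun σ => by
    rw [← cancel_epi (toPt k L Kb), ← Category.assoc, comp_lift, hc, ← Category.assoc,
      ← ptAut_toPt_level (k := k) L σ (π ^ e σ) (he σ), Category.assoc, hx₀]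
    exact rel_norm π hx (e σ)
  obtain ⟨A, p, hp, hφ, hrel⟩ := exists_obj_of_cocycle (G := G) hcc aX x₀ hxx
  obtain ⟨R, hR, hs⟩ := A.1.loc
  let A' : QuotObj J G aX := { A.1 with loc := ⟨R, hJ _ hR, hs⟩ }
  refine ⟨⟨A', A.2⟩, toPt k L Kb ≫ p, ?_, ?_, ?_⟩
  · change (toPt k L Kb ≫ p) ≫ A.1.π = _
    rw [Category.assoc, hp, ← Category.assoc, toPt_comp]
  · change (toPt k L Kb ≫ p) ≫ A.1.φ = _
    rw [Category.assoc, hφ, hx₀]
  · have hτ : ∀ x : L, π (x : Kb) ∈ L := fun x => by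
      rw [← hLM, ← map_pow, (hLM _).2 x.2]
    haveI : IsAlgClosure k' Kb := ⟨inferInstance, inferInstance⟩
    haveI : Normal k' Kb := IsAlgClosure.normal k' Kb
    let τ := π.restrictNormal L
    have hτ1 : ∀ x : L, ((τ x : L) : Kb) = π x := fun x => AlgEquiv.restrictNormal_commutes π L x
    have h1 : geoNorm π a (e τ) = a := by
      conv_rhs => rw [← geoNorm_one π a]
      exact hper fun x => by rw [pow_one, ← he τ x, hτ1]
    change lift a (ptAut k π ≫ toPt k L Kb ≫ p) ≫ A.1.act.act = toPt k L Kb ≫ p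
    rw [← Category.assoc, ptAut_toPt_level (k := k) L τ π hτ1, Category.assoc]
    conv_lhs => rw [← h1, ← hc, ← comp_lift, Category.assoc, hrel]

include hπ in
/-- Every object over the base has a geometric point. -/
theorem exists_geomPt (hJ : J ≤ Scheme.fppfPrecoverage) (A : (QuotObj.forget J G aX).Fiber (SGA7.pt (K := k) k')) :
    ∃ p : SGA7.pt (K := k) Kb ⟶ A.1.P, p ≫ A.1.π = toPt k k' Kb ≫ eqToHom A.2.symm := by
  obtain ⟨R, hR, hs⟩ := A.1.loc
  obtain ⟨κ, Z, g, rfl⟩ := Presieve.exists_eq_ofArrows R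
  obtain ⟨hsurj, hprop⟩ := (Scheme.ofArrows_mem_precoverage_iff (@Flat ⊓ @LocallyOfFinitePresentation)).1 (hJ _ hR)
  let w : SGA7.pt (K := k) Kb ⟶ A.1.base := toPt k k' Kb ≫ eqToHom A.2.symm
  obtain ⟨i, hi⟩ := hsurj (w.left (IsLocalRing.closedPoint Kb))
  have : LocallyOfFinitePresentation (g i) := (hprop i).2
  have : Surjective (g i) := ⟨fun s => by
    have : Subsingleton A.1.base.left := by
      rw [show A.1.base = SGA7.pt (K := k) k' from A.2]
      exact inferInstanceAs (Subsingleton (PrimeSpectrum k'))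
    obtain ⟨z, hz⟩ := hi
    exact ⟨z, Subsingleton.elim _ _⟩⟩
  obtain ⟨z, hz⟩ := exists_lift_point (g i) w.left
  obtain ⟨s, hsi⟩ := hs (g i) ⟨i⟩
  change s ≫ A.1.π.left = g i at hsi
  refine ⟨Over.homMk (z ≫ s) ?_, Over.OverMorphism.ext ?_⟩
  · rw [← Over.w A.1.π, ← Category.assoc, Category.assoc z, hsi, hz]
    exact Over.w w
  · change (z ≫ s) ≫ A.1.π.left = w.left
    rw [Category.assoc, hsi, hz]

/-- Two points over the same point of the base differ by a unique element. -/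
theorem exists_unique_elt (A : QuotObj J G aX) {Z : Over (Spec (CommRingCat.of k))} (y z : Z ⟶ A.P)
    (h : y ≫ A.π = z ≫ A.π) : ∃! g : Z ⟶ G, lift g y ≫ A.act.act = z := by
  let r := A.cart.lift z y h.symm
  have hr : lift (r ≫ fst G A.P) y = r := CartesianMonoidalCategory.hom_ext _ _ (lift_fst _ _)
    ((lift_snd _ _).trans (A.cart.lift_snd _ _ _).symm)
  refine ⟨r ≫ fst G A.P, ?_, fun g hg => ?_⟩
  · change lift (r ≫ fst G A.P) y ≫ A.act.act = z
    rw [hr]
    exact A.cart.lift_fst _ _ _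
  · have : lift g y = r := A.cart.hom_ext (hg.trans (A.cart.lift_fst _ _ _).symm)
      ((lift_snd _ _).trans (A.cart.lift_snd _ _ _).symm)
    rw [← this, lift_fst]

lemma geomPt_rel (A : (QuotObj.forget J G aX).Fiber (SGA7.pt (K := k) k')) {p : SGA7.pt (K := k) Kb ⟶ A.1.P}
    (hp : p ≫ A.1.π = toPt k k' Kb ≫ eqToHom A.2.symm) :
    ∃! a : SGA7.pt (K := k) Kb ⟶ G, lift a (ptAut k π ≫ p) ≫ A.1.act.act = p :=
  exists_unique_elt A.1 _ _ (by rw [Category.assoc, hp, ← Category.assoc, ptAut_toPt])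

section Hom

variable (A B : (QuotObj.forget J G aX).Fiber (SGA7.pt (K := k) k'))

lemma fib_base (f : A ⟶ B) : f.1.base = eqToHom A.2 ≫ eqToHom B.2.symm := by
  have := @IsHomLift.fac' _ _ _ _ (QuotObj.forget J G aX) _ _ _ _ (𝟙 (SGA7.pt (K := k) k')) f.1 f.2
  rw [Category.id_comp] at this
  exact this

lemma map_point (f : A ⟶ B) {p : SGA7.pt (K := k) Kb ⟶ A.1.P} (hp : p ≫ A.1.π = toPt k k' Kb ≫ eqToHom A.2.symm) :
    (p ≫ f.1.top) ≫ B.1.π = toPt k k' Kb ≫ eqToHom B.2.symm := by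
  rw [Category.assoc, f.1.cart.w, ← Category.assoc, hp, fib_base, Category.assoc, eqToHom_trans_assoc, eqToHom_refl,
    Category.id_comp]

lemma map_rel (f : A ⟶ B) {p : SGA7.pt (K := k) Kb ⟶ A.1.P} {a : SGA7.pt (K := k) Kb ⟶ G}
    (ha : lift a (ptAut k π ≫ p) ≫ A.1.act.act = p) :
    lift a (ptAut k π ≫ p ≫ f.1.top) ≫ B.1.act.act = p ≫ f.1.top := by
  conv_rhs => rw [← ha, Category.assoc, f.1.eqv, lift_whiskerLeft_assoc, Category.assoc]

include hπ in
/-- Points with the same relation and the same image in `X` give an isomorphism of objects. -/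
theorem exists_iso_of_points [LocallyOfFiniteType G.hom] [QuasiCompact G.hom] [J.IsStableUnderBaseChange]
    {p : SGA7.pt (K := k) Kb ⟶ A.1.P} (hp : p ≫ A.1.π = toPt k k' Kb ≫ eqToHom A.2.symm)
    {q : SGA7.pt (K := k) Kb ⟶ B.1.P} (hq : q ≫ B.1.π = toPt k k' Kb ≫ eqToHom B.2.symm)
    {a : SGA7.pt (K := k) Kb ⟶ G} (hpa : lift a (ptAut k π ≫ p) ≫ A.1.act.act = p)
    (hqa : lift a (ptAut k π ≫ q) ≫ B.1.act.act = q) (hφ : p ≫ A.1.φ = q ≫ B.1.φ) :
    ∃ f : A ≅ B, p ≫ f.hom.1.top = q := by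
  obtain ⟨M, hM, ha, hN⟩ := exists_norm_level π hπ a
  let L := fixedLevel π M
  have : Finite L := finite_fixedLevel π hπ hM
  have : IsGalois k' L := GaloisField.instIsGaloisOfFinite
  have hep : Epi (toPt k L Kb) := epi_toPt L
  obtain ⟨p₀, hp₀⟩ := exists_factor_fixed π hπ hM p (fixed_of_norm π hpa hN)
  obtain ⟨q₀, hq₀⟩ := exists_factor_fixed π hπ hM q (fixed_of_norm π hqa hN)
  have hp₀' : p₀ ≫ A.1.π = toPt k k' L ≫ eqToHom A.2.symm := by
    rw [← cancel_epi (toPt k L Kb), ← Category.assoc, hp₀, hp, ← Category.assoc, toPt_comp]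
  have hq₀' : q₀ ≫ B.1.π = toPt k k' L ≫ eqToHom B.2.symm := by
    rw [← cancel_epi (toPt k L Kb), ← Category.assoc, hq₀, hq, ← Category.assoc, toPt_comp]
  have hφ₀ : p₀ ≫ A.1.φ = q₀ ≫ B.1.φ := by
    rw [← cancel_epi (toPt k L Kb), ← Category.assoc, hp₀, ← Category.assoc, hq₀, hφ]
  have hc : ∀ τ : L ≃ₐ[k'] L, ∃ c : SGA7.pt (K := k) L ⟶ G,
      lift c (ptAut k τ ≫ p₀) ≫ A.1.act.act = p₀ ∧ lift c (ptAut k τ ≫ q₀) ≫ B.1.act.act = q₀ := fun τ => by
    haveI : IsAlgClosure k' Kb := ⟨inferInstance, inferInstance⟩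
    haveI : Normal k' Kb := IsAlgClosure.normal k' Kb
    obtain ⟨e, he⟩ := exists_pow_agree π hπ hM (τ.liftNormal Kb)
    have hτ : ∀ x : L, ((τ x : L) : Kb) = (π ^ e) x := fun x =>
      (AlgEquiv.liftNormal_commutes τ Kb x).symm.trans (he _ (by
        rw [← frob_pow_apply π hπ]
        exact (mem_fixedLevel π).1 x.2))
    obtain ⟨c, hc⟩ := exists_factor_fixed π hπ hM (geoNorm π a e) (geoNorm_fixed π ha _)
    refine ⟨c, ?_, ?_⟩
    · rw [← cancel_epi (toPt k L Kb), ← Category.assoc, comp_lift, hc, ← Category.assoc,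
        ← ptAut_toPt_level (k := k) L τ (π ^ e) hτ, Category.assoc, hp₀]
      exact rel_norm π hpa e
    · rw [← cancel_epi (toPt k L Kb), ← Category.assoc, comp_lift, hc, ← Category.assoc,
        ← ptAut_toPt_level (k := k) L τ (π ^ e) hτ, Category.assoc, hq₀]
      exact rel_norm π hqa e
  choose c hcA hcB using hc
  let TL := SGA7.pt (K := k) L
  let qA : G ⊗ TL ⟶ A.1.P := (G ◁ p₀) ≫ A.1.act.act
  let qB : G ⊗ TL ⟶ B.1.P := (G ◁ q₀) ≫ B.1.act.act
  have hA : IsPullback qA (snd G TL) (A.1.π ≫ eqToHom A.2) (toPt k k' L) := by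
    refine ((isPullback_whiskerLeft p₀).paste_horiz A.1.cart).of_iso (Iso.refl _) (Iso.refl _) (Iso.refl _)
      (eqToIso A.2) ?_ ?_ ?_ ?_
    · simp [qA]
    · simp [TL, L]
    · simp
    · rw [eqToIso.hom, hp₀', Category.assoc, eqToHom_trans, eqToHom_refl, Category.comp_id, Iso.refl_hom,
        Category.id_comp]
  have hd : ∀ {C : QuotObj J G aX} (w : TL ⟶ C.P), (∀ σ, lift (c σ) (ptAut k σ ≫ w) ≫ C.act.act = w) →
      ∀ σ, levelMap c σ ≫ (G ◁ w) ≫ C.act.act = (G ◁ w) ≫ C.act.act := fun {C} w hw σ => by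
    rw [levelMap, lift_whiskerLeft_assoc, Category.assoc, AlgGrp.Action.lift_mul_act,
      show lift (snd G TL ≫ c σ) (snd G TL ≫ ptAut k σ ≫ w) ≫ C.act.act = snd G TL ≫ w by
        rw [← comp_lift, Category.assoc, hw σ]]
    rw [show lift (fst G TL) (snd G TL ≫ w) = G ◁ w from by apply CartesianMonoidalCategory.hom_ext <;> simp]
  have hinvA : ∀ σ, levelMap c σ ≫ qA = qA := hd p₀ hcA
  obtain ⟨top, htop⟩ := exists_desc_of_isPullback hA (levelMap c) hinvA (fun σ => levelMap_snd σ) qB (hd q₀ hcB)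
  have : Epi qA := epi_of_isPullback hA
  have : Epi (G ◁ qA) := epi_of_isPullback (isPullback_whisker hA G)
  let bs : A.1.base ⟶ B.1.base := eqToHom A.2 ≫ eqToHom B.2.symm
  have hw : top ≫ B.1.π = A.1.π ≫ bs := by
    rw [← cancel_epi qA, reassoc_of% htop]
    simp only [qA, qB, bs, Category.assoc, reassoc_of% A.1.cart.w, B.1.cart.w, whiskerLeft_snd_assoc, hq₀',
      reassoc_of% hp₀', eqToHom_trans, eqToHom_trans_assoc, eqToHom_refl, Category.id_comp]
  have heqv : A.1.act.act ≫ top = (G ◁ top) ≫ B.1.act.act := by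
    rw [← cancel_epi (G ◁ qA), ← MonoidalCategory.whiskerLeft_comp_assoc, htop]
    have h1 := H14Quot.triv_eqv A.1.act p₀
    rw [← reassoc_of% h1]
    change (leftMul G TL).act ≫ qA ≫ top = _
    rw [htop]
    exact H14Quot.triv_eqv B.1.act q₀
  have hcart : IsPullback top A.1.π B.1.π bs := by
    refine IsPullback.of_isLimit' ⟨hw⟩ ?_
    have hdiv : ∀ {Z} (s₁ : Z ⟶ B.1.P) (s₂ : Z ⟶ A.1.base), s₁ ≫ B.1.π = s₂ ≫ bs →
        ∃! m : Z ⟶ A.1.P, m ≫ top = s₁ ∧ m ≫ A.1.π = s₂ := by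
      intro Z s₁ s₂ hs
      let Z' := pullback (s₂ ≫ eqToHom A.2) (toPt k k' L)
      have hZ : IsPullback (pullback.fst (s₂ ≫ eqToHom A.2) (toPt k k' L)) (pullback.snd _ _) _ _ :=
        IsPullback.of_hasPullback (s₂ ≫ eqToHom A.2) (toPt k k' L)
      have := epi_of_isPullback hZ
      let qZ := pullback.fst (s₂ ≫ eqToHom A.2) (toPt k k' L)
      let rZ := pullback.snd (s₂ ≫ eqToHom A.2) (toPt k k' L)
      have hs2 : qZ ≫ s₂ = rZ ≫ toPt k k' L ≫ eqToHom A.2.symm := by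
        calc qZ ≫ s₂ = (qZ ≫ s₂ ≫ eqToHom A.2) ≫ eqToHom A.2.symm := by simp
          _ = _ := by rw [show qZ ≫ s₂ ≫ eqToHom A.2 = rZ ≫ toPt k k' L from pullback.condition, Category.assoc]
      obtain ⟨g, hg, hguniq⟩ := exists_unique_elt B.1 (rZ ≫ q₀) (qZ ≫ s₁) (by
        rw [Category.assoc, hq₀', Category.assoc, hs]
        simp only [bs, reassoc_of% hs2, eqToHom_trans_assoc, eqToHom_refl, Category.id_comp])
      have hiff : ∀ m : pullback (s₂ ≫ eqToHom A.2) (toPt k k' L) ⟶ A.1.P,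
          (m ≫ top = qZ ≫ s₁ ∧ m ≫ A.1.π = qZ ≫ s₂) ↔ m = lift g rZ ≫ qA := fun m => by
        constructor
        · rintro ⟨h1, h2⟩
          obtain ⟨h, hh, -⟩ := exists_unique_elt A.1 (rZ ≫ p₀) m (by
            rw [Category.assoc, hp₀', h2, hs2])
          have hmm : lift h rZ ≫ qA = m := by rw [lift_whiskerLeft_assoc]; exact hh
          rw [← hmm, Category.assoc, htop, lift_whiskerLeft_assoc] at h1
          rw [← hmm, hguniq h h1]
        · rintro rfl
          rw [Category.assoc, htop, lift_whiskerLeft_assoc]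
          refine ⟨hg, ?_⟩
          simp only [qA, Category.assoc, A.1.cart.w, lift_whiskerLeft_assoc, lift_snd_assoc, hp₀', hs2]
      let dZ : (L ≃ₐ[k'] L) → (Z' ⟶ Z') := fun σ => pullback.lift qZ (rZ ≫ ptAut k σ)
        (by rw [Category.assoc rZ, ptAut_toPt]; exact pullback.condition)
      obtain ⟨m, hm⟩ := exists_desc_of_isPullback hZ dZ (fun σ => pullback.lift_fst _ _ _)
        (fun σ => pullback.lift_snd _ _ _) (lift g rZ ≫ qA) (fun σ => by
          refine (hiff _).1 ⟨?_, ?_⟩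
          · rw [Category.assoc, ((hiff _).2 rfl).1, ← Category.assoc]
            exact congrArg (· ≫ s₁) (pullback.lift_fst _ _ _)
          · rw [Category.assoc, ((hiff _).2 rfl).2, ← Category.assoc]
            exact congrArg (· ≫ s₂) (pullback.lift_fst _ _ _))
      refine ⟨m, ⟨?_, ?_⟩, fun m' hm' => ?_⟩
      · rw [← cancel_epi qZ, ← Category.assoc, hm, ((hiff _).2 rfl).1]
      · rw [← cancel_epi qZ, ← Category.assoc, hm, ((hiff _).2 rfl).2]
      · rw [← cancel_epi qZ, hm]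
        exact (hiff _).1 ⟨by rw [Category.assoc, hm'.1], by rw [Category.assoc, hm'.2]⟩
    exact PullbackCone.IsLimit.mk _ (fun s => (hdiv s.fst s.snd s.condition).exists.choose)
      (fun s => (hdiv s.fst s.snd s.condition).exists.choose_spec.1)
      (fun s => (hdiv s.fst s.snd s.condition).exists.choose_spec.2)
      fun s m h1 h2 => (hdiv s.fst s.snd s.condition).unique ⟨h1, h2⟩ (hdiv s.fst s.snd s.condition).exists.choose_spec
  let f : A.1 ⟶ B.1 :=
    { base := bs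
      top := top
      eqv := heqv
      cart := hcart
      wφ := by
        rw [← cancel_epi qA, reassoc_of% htop]
        simp only [qA, qB, Category.assoc, A.1.eqv, B.1.eqv]
        rw [← MonoidalCategory.whiskerLeft_comp_assoc, ← MonoidalCategory.whiskerLeft_comp_assoc, hφ₀] }
  have hl : (QuotObj.forget J G aX).IsHomLift (𝟙 (SGA7.pt (K := k) k')) f :=
    IsHomLift.of_fac' _ _ _ A.2 B.2 (by simp [f, bs, QuotObj.forget])
  have : IsIso f :=
    H14Fib.isIso_of_fibGrpd (H14Quot.quotSt_fibGrpd (K := J) (G := G) (aX := aX)) (𝟙 (SGA7.pt (K := k) k')) f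
  refine ⟨⟨@Functor.Fiber.homMk _ _ _ _ _ _ _ _ f hl,
    @Functor.Fiber.homMk _ _ _ _ _ _ _ _ (inv f) (IsHomLift.lift_id_inv_isIso (QuotObj.forget J G aX) _ f),
    Functor.Fiber.hom_ext (IsIso.hom_inv_id f), Functor.Fiber.hom_ext (IsIso.inv_hom_id f)⟩, ?_⟩
  change p ≫ top = q
  have h1 : lift 1 (𝟙 TL) ≫ qA = p₀ := by
    rw [lift_whiskerLeft_assoc, Category.id_comp, AlgGrp.Action.lift_one_act]
  rw [← hp₀, Category.assoc, ← h1, Category.assoc, htop, lift_whiskerLeft_assoc, Category.id_comp,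
    AlgGrp.Action.lift_one_act, hq₀]

include hπ in
/-- A morphism over the base is determined by the image of a geometric point. -/
theorem hom_ext_of_point (f f' : A ⟶ B) {p : SGA7.pt (K := k) Kb ⟶ A.1.P}
    (hp : p ≫ A.1.π = toPt k k' Kb ≫ eqToHom A.2.symm) (h : p ≫ f.1.top = p ≫ f'.1.top) : f = f' := by
  refine Functor.Fiber.hom_ext (QuotObj.hom_ext ((fib_base A B f).trans (fib_base A B f').symm) ?_)
  have hA : IsPullback ((G ◁ p) ≫ A.1.act.act) (snd G _) (A.1.π ≫ eqToHom A.2) (toPt k k' Kb) := by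
    refine ((isPullback_whiskerLeft p).paste_horiz A.1.cart).of_iso (Iso.refl _) (Iso.refl _) (Iso.refl _)
      (eqToIso A.2) ?_ ?_ ?_ ?_
    · simp
    · simp
    · simp
    · rw [eqToIso.hom, hp, Category.assoc, eqToHom_trans, eqToHom_refl, Category.comp_id, Iso.refl_hom,
        Category.id_comp]
  have := epi_of_isPullback hA
  rw [← cancel_epi ((G ◁ p) ≫ A.1.act.act), Category.assoc, Category.assoc]
  change (G ◁ p) ≫ A.1.act.act ≫ f.1.top = (G ◁ p) ≫ A.1.act.act ≫ f'.1.top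
  rw [f.1.eqv, f'.1.eqv, ← MonoidalCategory.whiskerLeft_comp_assoc, ← MonoidalCategory.whiskerLeft_comp_assoc, h]

end Hom

end Groth.Agent.H14Count
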