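import Groth.Prelude.Def_GalTw2
import Groth.Agent.H26Base.GalTwist
import Groth.Prelude.Def_ChGrp
import Mathlib

/-!
# Points of twists
-/

set_option autoImplicit false
set_option linter.unusedVariables false
set_option linter.unusedSectionVars false
set_option backward.isDefEq.respectTransparency false
set_option backward.isDefEq.respectTransparency.types false

universe u

open CategoryTheory CategoryTheory.Limits AlgebraicGeometry MonoidalCategory CartesianMonoidalCategory GalTw
open Groth.Agent.H26Base.GalTwist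
open scoped CategoryTheory.Obj

noncomputable section

namespace Groth.Agent.H14Count

attribute [local instance 2000] Hom.group Hom.monoid

variable {k : Type u} [Field k] {K : Type u} [Field K] [Algebra k K]
  {X Y : Over (Spec (CommRingCat.of k))}

/-- The point of a section of a base change. -/
def secPt (s : 𝟙_ (Over (Spec (CommRingCat.of K))) ⟶ bcK K X) : SGA7.Pts K X :=
  Over.homMk (s.left ≫ pullback.fst X.hom (SGA7.pt (K := k) K).hom) (by
    rw [Category.assoc, pullback.condition, ← Category.assoc]
    exact (congrArg (· ≫ (SGA7.pt (K := k) K).hom) (Over.w s)).trans (Category.id_comp _))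

lemma secPt_secOfPt (x : SGA7.Pts K X) : secPt (secOfPt K x) = x :=
  Over.OverMorphism.ext (pullback.lift_fst _ _ _)

lemma secOfPt_secPt (s : 𝟙_ (Over (Spec (CommRingCat.of K))) ⟶ bcK K X) : secOfPt K (secPt s) = s := by
  ext : 1
  apply pullback.hom_ext
  · rw [secOfPt_left, pullback.lift_fst]
    rfl
  · rw [secOfPt_left, pullback.lift_snd]
    exact (Over.w s).symm

lemma secPt_injective : Function.Injective (secPt : (𝟙_ (Over (Spec (CommRingCat.of K))) ⟶ bcK K X) → SGA7.Pts K X) :=
  fun s t h => by rw [← secOfPt_secPt s, h, secOfPt_secPt]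

lemma secPt_bcHom (s : 𝟙_ (Over (Spec (CommRingCat.of K))) ⟶ bcK K X) (f : X ⟶ Y) :
    secPt (s ≫ bcHom f) = secPt s ≫ f := by
  ext : 1
  change (s.left ≫ (bcHom (K := K) f).left) ≫ pullback.fst _ _ = (s.left ≫ pullback.fst _ _) ≫ f.left
  rw [Category.assoc, Category.assoc, bcHom_fst]

/-- The sections of the base change of a group form the group of points. -/
def secPtHom (G : Over (Spec (CommRingCat.of k))) [GrpObj G] :
    (𝟙_ (Over (Spec (CommRingCat.of K))) ⟶ bcK K G) →* SGA7.Pts K G :=
  MonoidHom.mk' secPt fun s t => by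
    let F := Over.pullback (SGA7.pt (K := k) K).hom
    let h : 𝟙_ _ ⟶ bcK K (G ⊗ G) := lift s t ≫ Functor.LaxMonoidal.μ F G G
    have h1 : h ≫ bcHom (fst G G) = s := by
      erw [Category.assoc, Functor.Monoidal.μ_fst, lift_fst]
    have h2 : h ≫ bcHom (snd G G) = t := by
      erw [Category.assoc, Functor.Monoidal.μ_snd, lift_snd]
    have e : h ≫ bcHom (fst G G * snd G G) = s * t := by
      conv_rhs => rw [← h1, ← h2, ← MonObj.comp_mul]
      exact congrArg (h ≫ ·) (F.map_mul _ _)
    rw [← e, secPt_bcHom, MonObj.comp_mul, ← secPt_bcHom, ← secPt_bcHom, h1, h2]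

@[simp] lemma secPtHom_apply {G : Over (Spec (CommRingCat.of k))} [GrpObj G]
    (s : 𝟙_ (Over (Spec (CommRingCat.of K))) ⟶ bcK K G) : secPtHom G s = secPt s := rfl

/-- Conjugation acts on sections by conjugating the point. -/
lemma secPt_innK {G : Over (Spec (CommRingCat.of k))} [GrpObj G] (g x : SGA7.Pts K G) :
    secPt (secOfPt K x ≫ innK K g) = g * x * g⁻¹ := by
  rw [innK, AGF.conjBy, MonObj.comp_mul, MonObj.comp_mul, GrpObj.comp_inv, Category.comp_id, ← Category.assoc,
    toUnit_unique (secOfPt K x ≫ toUnit (bcK K G)) (𝟙 _), Category.id_comp, ← secPtHom_apply, map_mul, map_mul,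
    _root_.map_inv, secPtHom_apply, secPtHom_apply, secPt_secOfPt, secPt_secOfPt]

/-- The action on sections. -/
lemma secPt_actK {G : Over (Spec (CommRingCat.of k))} [GrpObj G] (a : AlgGrp.Action G X) (g : SGA7.Pts K G)
    (x : SGA7.Pts K X) : secPt (secOfPt K x ≫ actK K a g) = lift g x ≫ a.act := by
  ext : 1
  have hfst : (secOfPt K x).left ≫ (fst X (SGA7.pt (K := k) K)).left = x.left := pullback.lift_fst _ _ _
  have hsnd : (secOfPt K x).left ≫ (snd X (SGA7.pt (K := k) K)).left = 𝟙 _ := pullback.lift_snd _ _ _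
  change ((secOfPt K x).left ≫ pullback.lift _ _ _) ≫ pullback.fst _ _ = (lift g x ≫ a.act).left
  rw [Category.assoc, pullback.lift_fst]
  let y : SGA7.pt (K := k) K ⟶ X ⊗ SGA7.pt (K := k) K := lift x (𝟙 _)
  have hy : y.left = (secOfPt K x).left := by
    refine pullback.hom_ext ?_ ?_
    · rw [secOfPt_left, pullback.lift_fst]
      exact congrArg (fun m => m.left) (lift_fst x (𝟙 (SGA7.pt (K := k) K)))
    · rw [secOfPt_left, pullback.lift_snd]
      exact congrArg (fun m => m.left) (lift_snd x (𝟙 (SGA7.pt (K := k) K)))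
  rw [← hy]
  exact congrArg (fun m => m.left) (show y ≫ lift (snd X (SGA7.pt (K := k) K) ≫ g) (fst X (SGA7.pt (K := k) K)) ≫ a.act
    = lift g x ≫ a.act by rw [← Category.assoc, comp_lift, lift_snd_assoc, lift_fst, Category.id_comp])

/-- The section of a conjugate point. -/
lemma secOfPt_smul (σ : K ≃ₐ[k] K) (x : SGA7.Pts K X) :
    (secOfPt K (σ • x)).left = specMap K σ ≫ (secOfPt K x).left ≫ galMap K σ⁻¹ X := by
  apply pullback.hom_ext
  · rw [secOfPt_left, pullback.lift_fst, secOfPt_left, Category.assoc, Category.assoc, galMap_fst, pullback.lift_fst]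
    rfl
  · rw [secOfPt_left, pullback.lift_snd, secOfPt_left, Category.assoc, Category.assoc, galMap_snd,
      pullback.lift_snd_assoc]
    erw [Category.id_comp, ← specMap_mul]
    rw [mul_inv_cancel, specMap_one]
    rfl

/-- An isomorphism of base changes transports the points. -/
def twistPtEquiv (φ : bcK K Y ≅ bcK K X) : SGA7.Pts K Y ≃ SGA7.Pts K X where
  toFun y := secPt (secOfPt K y ≫ φ.hom)
  invFun x := secPt (secOfPt K x ≫ φ.inv)
  left_inv y := by dsimp only; rw [secOfPt_secPt, Category.assoc, φ.hom_inv_id, Category.comp_id, secPt_secOfPt]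
  right_inv x := by dsimp only; rw [secOfPt_secPt, Category.assoc, φ.inv_hom_id, Category.comp_id, secPt_secOfPt]

/-- Transported along a trivialisation the Galois action is the twisted one. -/
lemma twistPtEquiv_smul (φ : bcK K Y ≅ bcK K X) (σ : K ≃ₐ[k] K) (y : SGA7.Pts K Y) :
    twistPtEquiv φ (σ • y) = secPt (secOfPt K (σ • twistPtEquiv φ y) ≫ (cocycle φ σ).hom) := by
  refine congrArg secPt (Over.OverMorphism.ext ?_)
  rw [Over.comp_left, Over.comp_left, secOfPt_smul, secOfPt_smul, cocycle_apply_hom, Over.comp_left, twIso_inv,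
    twHom_left, twistPtEquiv, Equiv.coe_fn_mk, secOfPt_secPt, Over.comp_left]
  simp only [Category.assoc, galMap_mul_assoc, inv_mul_cancel, galMap_one, Category.id_comp,
    Over.hom_left_inv_left_assoc]

end Groth.Agent.H14Count
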