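import Groth.Agent.S3934
import Groth.Agent.H19Grp.FrobPow
import Groth.Agent.H14Count.GeomGalois
import Groth.Agent.H14Count.TwistPoints
import Groth.Agent.H14Count.ClassMass
import Groth.Prelude.Def_NonAbH2

/-!
# The theorem of Lang for twisted Frobenius endomorphisms of connected smooth groups
-/

set_option autoImplicit false
set_option maxHeartbeats 800000
set_option linter.unusedVariables false
set_option linter.unusedSectionVars false
set_option linter.style.haveILetI false
set_option backward.isDefEq.respectTransparency false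
set_option backward.isDefEq.respectTransparency.types false

universe u

open CategoryTheory CategoryTheory.Limits MonoidalCategory CartesianMonoidalCategory MonObj GrpObj
open AlgebraicGeometry GalTw FrobSch
open Groth.Agent.H19Grp.FrobPow Groth.Agent.H26Base.GalTwist
open scoped CategoryTheory.Obj

noncomputable section

namespace Groth.Agent.H14Count

attribute [local instance 2000] Hom.group Hom.monoid

/-- A morphism of schemes which separates square-zero deformations is formally unramified. -/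
theorem formallyUnramified_of_thickening' {X Y : Scheme.{u}} (f : X ⟶ Y)
    (h : ∀ {B : Type u} [CommRing B] (I : Ideal B), I ^ 2 = ⊥ → ∀ g g' : Spec (CommRingCat.of B) ⟶ X,
      Spec.map (CommRingCat.ofHom (Ideal.Quotient.mk I)) ≫ g = Spec.map (CommRingCat.ofHom (Ideal.Quotient.mk I)) ≫ g' →
      g ≫ f = g' ≫ f → g = g') : FormallyUnramified f := by
  rw [IsZariskiLocalAtTarget.iff_of_iSup_eq_top (P := @FormallyUnramified) _ (iSup_affineOpens_eq_top Y)]
  intro V
  haveI : IsAffine (V.1 : Scheme) := V.2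
  rw [IsZariskiLocalAtSource.iff_of_openCover (P := @FormallyUnramified) (f ⁻¹ᵁ V.1).toScheme.affineCover]
  intro i
  haveI : IsAffine ((f ⁻¹ᵁ V.1).toScheme.affineCover.X i) := inferInstance
  refine Groth.Agent.S3934.formallyUnramified_of_thickening _ fun {B} _ I hI g g' hI' hg => ?_
  let j := (f ⁻¹ᵁ V.1).toScheme.affineCover.f i ≫ (f ⁻¹ᵁ V.1).ι
  haveI : Mono j := mono_comp _ _
  rw [← cancel_mono j]
  refine h I hI _ _ (by simp only [← Category.assoc, hI']) ?_
  have := congrArg (· ≫ V.1.ι) hg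
  simp only [Category.assoc, morphismRestrict_ι] at this
  simpa only [j, Category.assoc] using this

/-- For an endomorphism with vanishing differential of a smooth connected group over an algebraically closed field,
which is multiplicative on points, every point is a difference `x * Φ x⁻¹`. -/
theorem exists_lang_of_infinitesimal {K : Type u} [Field K] [IsAlgClosed K]
    (GK : Over (Spec (CommRingCat.of K))) [GrpObj GK] [Smooth GK.hom] [IrreducibleSpace GK.left] (Φ : GK ⟶ GK)
    (hΦ : ∀ x y : 𝟙_ (Over (Spec (CommRingCat.of K))) ⟶ GK, (x * y) ≫ Φ = (x ≫ Φ) * (y ≫ Φ))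
    (hinf : ∀ {B : Type u} [CommRing B] (I : Ideal B), I ^ 2 = ⊥ → ∀ g g' : Spec (CommRingCat.of B) ⟶ GK.left,
      g ≫ GK.hom = g' ≫ GK.hom →
      Spec.map (CommRingCat.ofHom (Ideal.Quotient.mk I)) ≫ g = Spec.map (CommRingCat.ofHom (Ideal.Quotient.mk I)) ≫ g' →
      g ≫ Φ.left = g' ≫ Φ.left)
    (a : 𝟙_ (Over (Spec (CommRingCat.of K))) ⟶ GK) :
    ∃ x : 𝟙_ (Over (Spec (CommRingCat.of K))) ⟶ GK, x * (x ≫ Φ)⁻¹ = a := by
  haveI : JacobsonSpace GK.left := LocallyOfFiniteType.jacobsonSpace GK.hom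
  let φ : (𝟙_ (Over (Spec (CommRingCat.of K))) ⟶ GK) → (GK ⟶ GK) := fun a => 𝟙 GK * (toUnit GK ≫ a) * Φ⁻¹
  have hφ : ∀ a, Etale (φ a).left := by
    intro a
    haveI : FormallyUnramified (φ a).left := formallyUnramified_of_thickening' _ fun {B} _ I hI g g' hI' hg => by
      have hs : g ≫ GK.hom = g' ≫ GK.hom := by rw [← Over.w (φ a), reassoc_of% hg]
      let T : Over (Spec (CommRingCat.of K)) := Over.mk (g ≫ GK.hom)
      let gO : T ⟶ GK := Over.homMk g rfl
      let gO' : T ⟶ GK := Over.homMk g' hs.symm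
      have hFeq : gO ≫ Φ = gO' ≫ Φ := Over.OverMorphism.ext (hinf I hI g g' hs hI')
      have := (Over.OverMorphism.ext hg : gO ≫ φ a = gO' ≫ φ a)
      simp only [φ, MonObj.comp_mul, GrpObj.comp_inv, hFeq, Category.comp_id, ← Category.assoc,
        toUnit_unique (gO ≫ toUnit GK) (gO' ≫ toUnit GK), mul_left_inj] at this
      exact congrArg (·.left) this
    exact Groth.Agent.H19Grp.etale_of_formallyUnramified_endo GK (φ a)
  have hop : ∀ a, IsOpen (Set.range (φ a).left) := fun a => by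
    haveI := hφ a
    exact (φ a).left.isOpenMap.isOpen_range
  have happ : ∀ (a x : 𝟙_ (Over (Spec (CommRingCat.of K))) ⟶ GK), x ≫ φ a = x * a * (x ≫ Φ)⁻¹ := fun a x => by
    simp only [φ, MonObj.comp_mul, GrpObj.comp_inv, Category.comp_id]
    rw [← Category.assoc x, toUnit_unique (x ≫ toUnit GK) (𝟙 _), Category.id_comp]
  let pt : ↥(Spec (CommRingCat.of K)) := IsLocalRing.closedPoint K
  have hlift : ∀ (a : 𝟙_ (Over (Spec (CommRingCat.of K))) ⟶ GK) (z : GK.left), IsClosed {z} →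
      z ∈ Set.range (φ a).left → ∃ x : 𝟙_ (Over (Spec (CommRingCat.of K))) ⟶ GK, (x ≫ φ a).left pt = z := by
    intro a z hz hzr
    obtain ⟨w, hw, hwc⟩ := nonempty_inter_closedPoints (Z := (φ a).left ⁻¹' {z}) hzr
      (hz.preimage (φ a).left.continuous).isLocallyClosed
    obtain ⟨p, hp⟩ := (pointEquivClosedPoint GK.hom).surjective ⟨w, hwc⟩
    exact ⟨Over.homMk p.1 p.2, (Scheme.Hom.comp_apply _ _ _).trans ((congrArg (φ a).left (congrArg Subtype.val hp)).trans hw)⟩
  haveI : Nonempty GK.left := ⟨a.left pt⟩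
  obtain ⟨v, hv⟩ := nonempty_preirreducible_inter (hop a) (hop 1) (Set.range_nonempty _) (Set.range_nonempty _)
  obtain ⟨v', hv', hvc⟩ := nonempty_inter_closedPoints ⟨v, hv⟩ ((hop a).inter (hop 1)).isLocallyClosed
  obtain ⟨x, hx⟩ := hlift a v' hvc hv'.1
  obtain ⟨y, hy⟩ := hlift 1 v' hvc hv'.2
  have hxy : x ≫ φ a = y ≫ φ 1 := by
    have := (pointEquivClosedPoint GK.hom).injective
      (a₁ := ⟨(x ≫ φ a).left, Over.w (x ≫ φ a)⟩) (a₂ := ⟨(y ≫ φ 1).left, Over.w (y ≫ φ 1)⟩)
      (Subtype.ext (hx.trans hy.symm))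
    exact Over.OverMorphism.ext (congrArg Subtype.val this)
  rw [happ, happ, _root_.mul_one] at hxy
  refine ⟨x⁻¹ * y, ?_⟩
  have hone : (1 : 𝟙_ (Over (Spec (CommRingCat.of K))) ⟶ GK) ≫ Φ = 1 := by
    have h := hΦ 1 1
    rw [_root_.one_mul] at h
    exact mul_eq_left.mp h.symm
  have hinv : x⁻¹ ≫ Φ = (x ≫ Φ)⁻¹ := eq_inv_of_mul_eq_one_left (by rw [← hΦ, inv_mul_cancel, hone])
  rw [hΦ, hinv, _root_.mul_inv_rev, _root_.inv_inv]
  have : a = x⁻¹ * (x * a * (x ≫ Φ)⁻¹) * (x ≫ Φ) := by group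
  rw [this, hxy]
  group

section Frobenius

variable (p : ℕ) [Fact p.Prime] (n : ℕ)

/-- The powers of Frobenius on an affine scheme are given by the power map of the ring. -/
theorem frobN_Spec_eq (B : Type u) [CommRing B] [IsCharP (Spec (CommRingCat.of B)) p] (hB : (p : B) = 0) :
    frobN p n (Spec (CommRingCat.of B)) = Spec.map (CommRingCat.ofHom (powN p B hB n)) := by
  apply ext_of_isAffine
  rw [← cancel_mono (Scheme.ΓSpecIso (CommRingCat.of B)).hom, Scheme.ΓSpecIso_naturality]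
  ext s
  show (Scheme.ΓSpecIso (CommRingCat.of B)).hom ((frobN p n _).app ⊤ s) = powN p B hB n _
  rw [frobN_app, map_pow, powN_apply]
  rfl

/-- Morphisms which agree modulo a square-zero ideal agree after a nontrivial power of Frobenius. -/
theorem frobN_comp_eq_of_thickening {X : Scheme.{u}} [IsCharP X p] (hn : n ≠ 0) {B : Type u} [CommRing B] (I : Ideal B)
    (hI : I ^ 2 = ⊥) (g g' : Spec (CommRingCat.of B) ⟶ X)
    (h : Spec.map (CommRingCat.ofHom (Ideal.Quotient.mk I)) ≫ g = Spec.map (CommRingCat.ofHom (Ideal.Quotient.mk I)) ≫ g') :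
    g ≫ frobN p n X = g' ≫ frobN p n X := by
  haveI : IsCharP (Spec (CommRingCat.of B)) p := IsCharP.of_hom g p
  have hB : (p : B) = 0 := by
    have := congrArg (Scheme.ΓSpecIso (CommRingCat.of B)).hom.hom
      (IsCharP.natCast_eq_zero (X := Spec (CommRingCat.of B)) (p := p))
    simpa using this
  have h0 : ∀ b ∈ I, powN p B hB n b = 0 := fun b hb => by
    rw [powN_apply]
    have h2 : 2 ≤ p ^ n := le_trans (Fact.out : p.Prime).two_le (Nat.le_self_pow hn p)
    have := Ideal.pow_le_pow_right (I := I) h2 (Ideal.pow_mem_pow hb _)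
    simpa [hI] using this
  have hfac : frobN p n (Spec (CommRingCat.of B)) = Spec.map (CommRingCat.ofHom (Ideal.Quotient.lift I (powN p B hB n) h0)) ≫
      Spec.map (CommRingCat.ofHom (Ideal.Quotient.mk I)) := by
    rw [← Spec.map_comp, frobN_Spec_eq p n B hB]
    congr 1
  rw [← frobN_comp, ← frobN_comp, hfac, Category.assoc, Category.assoc, h]

end Frobenius

section Twisted

variable {k : Type u} [Field k] [Finite k] {Kb : Type u} [Field Kb] [IsAlgClosed Kb] [Algebra k Kb]
  (π : Kb ≃ₐ[k] Kb) (hπ : ∀ x : Kb, π x = x ^ Nat.card k)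

include hπ in
/-- Lang for the Frobenius twisted by the action of a point. -/
theorem exists_lang_twist {A B : Over (Spec (CommRingCat.of k))} [GrpObj A] [GrpObj B] [Smooth A.hom]
    [ConnectedSpace A.left] (c : AlgGrp.Action B A) (b : SGA7.Pts Kb B)
    (hmul : ∀ x y : SGA7.Pts Kb A, lift b (x * y) ≫ c.act = (lift b x ≫ c.act) * (lift b y ≫ c.act))
    (a : SGA7.Pts Kb A) : ∃ y : SGA7.Pts Kb A, y * (lift b (π • y) ≫ c.act)⁻¹ = a := by
  obtain ⟨p, hchar⟩ := CharP.exists k
  haveI : Fact p.Prime := ⟨CharP.char_is_prime k p⟩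
  letI := Fintype.ofFinite k
  obtain ⟨⟨n, hn⟩, -, hq⟩ := FiniteField.card k p
  rw [Nat.card_eq_fintype_card, hq] at hπ
  haveI : IsCharP A.left p := IsCharP.of_hom A.hom p
  have hbase : frobN p n (Spec (CommRingCat.of k)) = 𝟙 _ := by
    rw [frobN_Spec_eq p n k (CharP.cast_eq_zero k p), ← Spec.map_id]
    congr 1
    ext s
    exact (powN_apply p n k _ s).trans (by rw [show p ^ n = Fintype.card k from hq.symm]; exact FiniteField.pow_card s)
  let F : A ⟶ A := Over.homMk (frobN p n A.left) (by rw [frobN_comp, hbase, Category.comp_id])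
  have hF : ∀ y : SGA7.Pts Kb A, y ≫ F = π • y := fun y => by
    haveI : IsCharP (Spec (CommRingCat.of Kb)) p := IsCharP.of_hom (SGA7.pt (K := k) Kb).hom p
    haveI : IsCharP (SGA7.pt (K := k) Kb).left p := this
    have hB : (p : Kb) = 0 := by
      rw [← map_natCast (algebraMap k Kb), CharP.cast_eq_zero, map_zero]
    refine Over.OverMorphism.ext ?_
    change y.left ≫ frobN p n A.left = (ptAut k π).left ≫ y.left
    rw [ptAut_left]
    refine (frobN_comp p n y.left).symm.trans (congrArg (· ≫ y.left) ?_)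
    refine (frobN_Spec_eq p n Kb hB).trans (congrArg Spec.map ?_)
    ext s
    exact (powN_apply p n Kb hB s).trans (hπ s).symm
  let GK := bcK Kb A
  haveI : Smooth GK.hom := MorphismProperty.pullback_snd _ _ inferInstance
  haveI : GeometricallyIrreducible A.hom := Groth.Agent.H19Grp.geometricallyIrreducible_of_connectedSpace_group A
  haveI : GeometricallyIrreducible GK.hom := MorphismProperty.pullback_snd _ _ inferInstance
  haveI : IrreducibleSpace GK.left := GeometricallyIrreducible.irreducibleSpace_of_subsingleton GK.hom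
  let Φ : GK ⟶ GK := bcHom F ≫ actK Kb c b
  have hsec : ∀ s, secPt (s ≫ Φ) = lift b (π • secPt s) ≫ c.act := fun s => by
    rw [← hF, ← secPt_bcHom, ← secPt_actK, secOfPt_secPt, Category.assoc]
  obtain ⟨x, hx⟩ := exists_lang_of_infinitesimal GK Φ (fun x y => secPt_injective (by
      rw [hsec, ← secPtHom_apply (x * y), map_mul, smul_mul', hmul, secPtHom_apply, secPtHom_apply, ← hsec, ← hsec,
        ← secPtHom_apply, ← secPtHom_apply, ← map_mul, secPtHom_apply]))
    (fun {B'} _ I hI g g' hs h => by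
      change g ≫ (bcHom F).left ≫ (actK Kb c b).left = g' ≫ (bcHom F).left ≫ (actK Kb c b).left
      rw [← Category.assoc g, ← Category.assoc g']
      refine congrArg (· ≫ (actK Kb c b).left) (pullback.hom_ext ?_ ?_)
      · rw [Category.assoc, Category.assoc, bcHom_fst, ← Category.assoc, ← Category.assoc]
        exact frobN_comp_eq_of_thickening p n hn.ne' I hI _ _ (by rw [reassoc_of% h])
      · rw [Category.assoc, Category.assoc]
        erw [Over.w (bcHom F)]
        exact hs)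
    (secOfPt Kb a)
  refine ⟨secPt x, ?_⟩
  rw [← hsec, ← secPtHom_apply, ← secPtHom_apply, ← _root_.map_inv, ← map_mul, hx, secPtHom_apply, secPt_secOfPt]

/-- A surjective group map whose fibres are governed by exactness: the count of twisted fixed points. -/
theorem card_fixGrp_eq [Algebra.IsAlgebraic k Kb] {A B C : Over (Spec (CommRingCat.of k))} [GrpObj A] [GrpObj B] [GrpObj C]
    [Smooth A.hom] [Smooth B.hom] [Smooth C.hom] [QuasiCompact A.hom] [QuasiCompact B.hom]
    [ConnectedSpace A.left] (hπ : ∀ x : Kb, π x = x ^ Nat.card k)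
    (i : A ⟶ B) (v : B ⟶ C) [IsMonHom i] [IsMonHom v] (hex : NonAbH1.IsExactSeq Scheme.fppfPrecoverage i v)
    (c : AlgGrp.Action B A) (hc : c.act ≫ i = fst B A * (snd B A ≫ i) * (fst B A)⁻¹) (b : SGA7.Pts Kb B) :
    Nat.card (fixGrp π b) = Nat.card (fixPts π c b) * Nat.card (fixGrp π (b ≫ v)) := by
  obtain ⟨-, -, hiv, hpb, R, hR, hsec⟩ := hex
  let P := SGA7.pt (K := k) Kb
  have hcomb : ∀ (x : P ⟶ B) (w : P ⟶ A), lift x w ≫ (B ◁ i) ≫ μ[B] = x * (w ≫ i) := fun x w => by
    rw [← Category.assoc, lift_whiskerLeft]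
    rfl
  have hinj : ∀ x y : P ⟶ A, x ≫ i = y ≫ i → x = y := fun x y h => by
    have := hpb.hom_ext (k := lift (1 : P ⟶ B) x) (l := lift (1 : P ⟶ B) y) (by rw [lift_fst, lift_fst])
      (by rw [hcomb, hcomb, h])
    simpa using congrArg (· ≫ snd B A) this
  have hker : ∀ g : P ⟶ B, g ≫ v = 1 → ∃ w : P ⟶ A, w ≫ i = g := fun g hg => by
    have h0 : (1 : P ⟶ B) ≫ v = g ≫ v := by rw [MonObj.one_comp, hg]
    obtain ⟨h1, h2⟩ : hpb.lift 1 g h0 ≫ fst B A = 1 ∧ hpb.lift 1 g h0 ≫ (B ◁ i) ≫ μ[B] = g :=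
      ⟨hpb.lift_fst _ _ _, hpb.lift_snd _ _ _⟩
    refine ⟨hpb.lift 1 g h0 ≫ snd B A, ?_⟩
    have e : hpb.lift 1 g h0 = lift 1 (hpb.lift 1 g h0 ≫ snd B A) := by
      apply CartesianMonoidalCategory.hom_ext
      · rw [lift_fst, h1]
      · rw [lift_snd]
    rw [e, hcomb, _root_.one_mul] at h2
    exact h2
  have hci : ∀ (b : P ⟶ B) (w : P ⟶ A), (lift b w ≫ c.act) ≫ i = b * (w ≫ i) * b⁻¹ := fun b w => by
    rw [Category.assoc, hc, MonObj.comp_mul, MonObj.comp_mul, GrpObj.comp_inv, lift_fst, lift_snd_assoc]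
  have hmul : ∀ x y : P ⟶ A, lift b (x * y) ≫ c.act = (lift b x ≫ c.act) * (lift b y ≫ c.act) := fun x y =>
    hinj _ _ (by rw [MonObj.mul_comp, hci, hci, hci, MonObj.mul_comp]; group)
  haveI : Surjective v.left := ⟨fun y => by
    obtain ⟨S', f, hf, z, hz⟩ := ((CategoryTheory.Presieve.mem_comap_jointlySurjectivePrecoverage_iff _).1 hR.1) y
    obtain ⟨t, ht⟩ := hsec f hf
    exact ⟨t z, (Scheme.Hom.comp_apply t _ z).symm.trans ((congrArg (fun m => m z) ht).trans hz)⟩⟩
  haveI : LocallyOfFiniteType (v.left ≫ C.hom) := by rw [Over.w v]; infer_instance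
  haveI : LocallyOfFiniteType v.left := locallyOfFiniteType_of_comp v.left C.hom
  let f : fixGrp π b →* fixGrp π (b ≫ v) :=
    MonoidHom.mk' (fun g => ⟨g.1 ≫ v, by
      change (g.1 ≫ v) * (b ≫ v) = (b ≫ v) * (ptAut k π ≫ g.1 ≫ v)
      rw [← MonObj.mul_comp, show g.1 * b = b * (ptAut k π ≫ g.1) from g.2, MonObj.mul_comp, Category.assoc]⟩)
      fun g g' => Subtype.ext (MonObj.mul_comp g.1 g'.1 v)
  have hsurj : Function.Surjective f := fun y => by
    obtain ⟨x₀, hx₀⟩ := exists_lift_point v.left y.1.left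
    let x : P ⟶ B := Over.homMk x₀ (by rw [← Over.w v, ← Category.assoc, hx₀]; exact Over.w y.1)
    have hxv : x ≫ v = y.1 := Over.OverMorphism.ext hx₀
    have hdef : (x * b * (ptAut k π ≫ x)⁻¹ * b⁻¹) ≫ v = 1 := by
      rw [MonObj.mul_comp, MonObj.mul_comp, MonObj.mul_comp, GrpObj.inv_comp, GrpObj.inv_comp, Category.assoc, hxv]
      rw [mul_inv_eq_iff_eq_mul.2 (show y.1 * (b ≫ v) = (b ≫ v) * (ptAut k π ≫ y.1) from y.2)]
      exact mul_inv_cancel _
    obtain ⟨a₀, ha₀⟩ := hker _ hdef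
    obtain ⟨w, hw⟩ := exists_lang_twist π hπ c b hmul a₀
    have hw' : (w ≫ i) * (b * (ptAut k π ≫ w ≫ i) * b⁻¹)⁻¹ = x * b * (ptAut k π ≫ x)⁻¹ * b⁻¹ := by
      rw [← ha₀, ← hw, MonObj.mul_comp, GrpObj.inv_comp, hci, smul_eq_ptAut, Category.assoc]
    refine ⟨⟨(w ≫ i)⁻¹ * x, ?_⟩, Subtype.ext ?_⟩
    · refine mem_fixGrp_of_twist π ?_
      rw [MonObj.comp_mul, GrpObj.comp_inv]
      have e : b = (w ≫ i)⁻¹ * (x * b * (ptAut k π ≫ x)⁻¹ * b⁻¹) * b * (ptAut k π ≫ w ≫ i) := by
        rw [← hw']; group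
      conv_rhs => rw [e]
      group
    · change ((w ≫ i)⁻¹ * x) ≫ v = y.1
      rw [MonObj.mul_comp, GrpObj.inv_comp, Category.assoc, hiv, MonObj.comp_one, inv_one, _root_.one_mul, hxv]
  have hk : Nat.card f.ker = Nat.card (fixPts π c b) := by
    refine (Nat.card_eq_of_bijective (fun a : fixPts π c b => (⟨⟨a.1 ≫ i, ?_⟩, ?_⟩ : f.ker)) ⟨fun a a' h => ?_, fun g => ?_⟩).symm
    · change (a.1 ≫ i) * b = b * (ptAut k π ≫ a.1 ≫ i)
      have this : (lift b (ptAut k π ≫ a.1) ≫ c.act) ≫ i = a.1 ≫ i := congrArg (fun m => m ≫ i) a.2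
      rw [hci, Category.assoc] at this
      conv_lhs => rw [← this]
      group
    · refine Subtype.ext ?_
      change (a.1 ≫ i) ≫ v = 1
      rw [Category.assoc, hiv, MonObj.comp_one]
    · exact Subtype.ext (hinj _ _ (congrArg (fun g : f.ker => g.1.1) h))
    · obtain ⟨w, hw⟩ := hker g.1.1 (congrArg Subtype.val g.2)
      refine ⟨⟨w, hinj _ _ ?_⟩, Subtype.ext (Subtype.ext hw)⟩
      rw [hci, Category.assoc, hw, ← show g.1.1 * b = b * (ptAut k π ≫ g.1.1) from g.1.2]
      group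
  rw [Subgroup.card_eq_card_quotient_mul_card_subgroup f.ker, hk,
    Nat.card_congr (QuotientGroup.quotientKerEquivOfSurjective f hsurj).toEquiv, mul_comm]

end Twisted

end Groth.Agent.H14Count
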