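import Mathlib

/-!
# Rationality of an exponential forces a Laurent polynomial
-/

set_option autoImplicit false
set_option linter.unusedVariables false

open Polynomial

noncomputable section

namespace Groth.Agent.H14Count.Laurent

local notation "D" => fun f : PowerSeries ℂ => PowerSeries.X * PowerSeries.derivative ℂ f

/-- The logarithmic derivative of `X - r`. -/
def single (r : ℂ) : PowerSeries ℂ :=
  PowerSeries.mk fun v => if v = 0 then (if r = 0 then 1 else 0) else -(r⁻¹) ^ v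

lemma single_spec (r : ℂ) :
    PowerSeries.X * PowerSeries.derivative ℂ ((PowerSeries.X : PowerSeries ℂ) - PowerSeries.C r) =
      single r * (PowerSeries.X - PowerSeries.C r) := by
  rw [map_sub, PowerSeries.derivative_C, PowerSeries.derivative_X, sub_zero, mul_one, mul_sub]
  ext n
  rw [map_sub, PowerSeries.coeff_mul_C]
  rcases n with _ | n
  · simp [single]
  rw [PowerSeries.coeff_succ_mul_X, PowerSeries.coeff_X]
  simp only [single, PowerSeries.coeff_mk, Nat.succ_ne_zero, if_false]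
  rcases eq_or_ne r 0 with rfl | hr
  · rcases n with _ | n <;> simp
  rcases n with _ | n
  · simp [hr]
  · simp only [Nat.succ_ne_zero, if_false, Nat.add_eq_right, pow_succ (r⁻¹) (n + 1)]
    field_simp
    ring

lemma single_prod (m : Multiset ℂ) :
    let f : PowerSeries ℂ := (((m.map fun r => Polynomial.X - Polynomial.C r).prod : ℂ[X]) : PowerSeries ℂ)
    PowerSeries.X * PowerSeries.derivative ℂ f = (m.map single).sum * f := by
  induction m using Multiset.induction with
  | empty => simp [PowerSeries.derivative_one]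
  | cons r m ih =>
    simp only [Multiset.map_cons, Multiset.prod_cons, Multiset.sum_cons, Polynomial.coe_mul] at ih ⊢
    rw [Derivation.leibniz, smul_eq_mul, smul_eq_mul, mul_add,
      show ((Polynomial.X - Polynomial.C r : ℂ[X]) : PowerSeries ℂ) = PowerSeries.X - PowerSeries.C r by simp,
      mul_left_comm, ih, mul_left_comm PowerSeries.X, single_spec]
    ring

lemma exists_logDeriv (P : ℂ[X]) : ∃ s : PowerSeries ℂ,
    PowerSeries.X * PowerSeries.derivative ℂ (P : PowerSeries ℂ) = s * (P : PowerSeries ℂ) ∧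
      ∀ v, 1 ≤ v → PowerSeries.coeff v s = -(P.roots.map fun r => (r⁻¹) ^ v).sum := by
  refine ⟨(P.roots.map single).sum, ?_, fun v hv => ?_⟩
  · have hP := (IsAlgClosed.splits P).eq_prod_roots
    have key := single_prod P.roots
    simp only at key
    conv_lhs => rw [hP]
    conv_rhs => arg 2; rw [hP]
    rw [Polynomial.coe_mul, Polynomial.coe_C, Derivation.leibniz, PowerSeries.derivative_C, smul_eq_mul,
      smul_zero, add_zero, mul_left_comm, key]
    ring
  · rw [map_multiset_sum, Multiset.map_map]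
    induction P.roots using Multiset.induction with
    | empty => simp
    | cons r m ih =>
      simp only [Function.comp_apply, Multiset.map_cons, Multiset.sum_cons] at ih ⊢
      rw [ih, single, PowerSeries.coeff_mk, if_neg (by omega)]
      ring

/-- Exponential sums vanishing at all positive integers vanish frequency by frequency. -/
lemma sum_exp_eq_zero {ι : Type*} (s : Finset ι) (c b : ι → ℂ) (h : ∀ v, 1 ≤ v → ∑ i ∈ s, c i * b i ^ v = 0)
    (β : ℂ) (hβ : β ≠ 0) : ∑ i ∈ s, (if b i = β then c i else 0) = 0 := by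
  classical
  let G : ℂ[X] := ∏ γ ∈ (s.image b).erase β, (X - C γ)
  have hG : ∑ i ∈ s, c i * (b i * G.eval (b i)) = 0 := by
    calc ∑ i ∈ s, c i * (b i * G.eval (b i))
        = ∑ n ∈ Finset.range (G.natDegree + 1), G.coeff n * ∑ i ∈ s, c i * b i ^ (n + 1) := by
          simp_rw [Finset.mul_sum]
          rw [Finset.sum_comm]
          refine Finset.sum_congr rfl fun i _ => ?_
          rw [Polynomial.eval_eq_sum_range, Finset.mul_sum, Finset.mul_sum]
          refine Finset.sum_congr rfl fun n _ => ?_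
          ring
      _ = 0 := Finset.sum_eq_zero fun n _ => by rw [h _ (Nat.le_add_left 1 n), mul_zero]
  have hGβ : G.eval β ≠ 0 := by
    rw [Polynomial.eval_prod, Finset.prod_ne_zero_iff]
    intro γ hγ
    simpa [sub_eq_zero] using (Finset.ne_of_mem_erase hγ).symm
  have e : ∑ i ∈ s, c i * (b i * G.eval (b i)) = (β * G.eval β) * ∑ i ∈ s, (if b i = β then c i else 0) := by
    rw [Finset.mul_sum]
    refine Finset.sum_congr rfl fun i hi => ?_
    split_ifs with hb
    · rw [hb]; ring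
    · have : G.eval (b i) = 0 := by
        rw [Polynomial.eval_prod]
        exact Finset.prod_eq_zero (Finset.mem_erase.2 ⟨hb, Finset.mem_image_of_mem b hi⟩) (by simp)
      rw [this]; ring
  rw [e] at hG
  exact (mul_eq_zero.1 hG).resolve_left (mul_ne_zero hβ hGβ)

/-- Frequencies of an exponential sum equal to a rational function of `q ^ v` are powers of `q`. -/
lemma exists_zpow (q : ℤ) (hq : 1 < q) (E P : ℂ[X]) (hE : E ≠ 0) (s : Finset ℂ) (n : ℂ → ℤ)
    (hn : ∀ a ∈ s, n a ≠ 0) (hs : ∀ a ∈ s, a ≠ 0)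
    (h : ∀ v, 1 ≤ v → (∑ a ∈ s, (n a : ℂ) * a ^ v) * E.eval ((q : ℂ) ^ v) = P.eval ((q : ℂ) ^ v)) :
    ∀ a ∈ s, ∃ m : ℤ, a = (q : ℂ) ^ m := by
  classical
  by_contra hne
  push Not at hne
  let bad := s.filter fun a => ∀ m : ℤ, a ≠ (q : ℂ) ^ m
  have hbad : bad.Nonempty := by
    obtain ⟨a, ha, ha'⟩ := hne
    exact ⟨a, Finset.mem_filter.2 ⟨ha, ha'⟩⟩
  obtain ⟨α, hα, hmax⟩ := bad.exists_max_image (fun a => ‖a‖) hbad
  obtain ⟨hαs, hαb⟩ := Finset.mem_filter.1 hα
  have hq0 : (q : ℂ) ≠ 0 := by exact_mod_cast (ne_of_gt (lt_trans zero_lt_one hq))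
  let N := E.natDegree
  let J : Finset ((ℂ × ℕ) ⊕ ℕ) := (s ×ˢ Finset.range (N + 1)).disjSum (Finset.range (P.natDegree + 1))
  let c : (ℂ × ℕ) ⊕ ℕ → ℂ := Sum.elim (fun x => (n x.1 : ℂ) * E.coeff x.2) (fun j => -P.coeff j)
  let b : (ℂ × ℕ) ⊕ ℕ → ℂ := Sum.elim (fun x => x.1 * (q : ℂ) ^ x.2) (fun j => (q : ℂ) ^ j)
  have hsum : ∀ v, 1 ≤ v → ∑ i ∈ J, c i * b i ^ v = 0 := by
    intro v hv
    rw [Finset.sum_disjSum]
    simp only [c, b, Sum.elim_inl, Sum.elim_inr, neg_mul, Finset.sum_neg_distrib]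
    rw [← sub_eq_add_neg, sub_eq_zero, Finset.sum_product]
    calc ∑ a ∈ s, ∑ j ∈ Finset.range (N + 1), (n a : ℂ) * E.coeff j * (a * (q : ℂ) ^ j) ^ v
        = (∑ a ∈ s, (n a : ℂ) * a ^ v) * E.eval ((q : ℂ) ^ v) := by
          rw [Finset.sum_mul]
          refine Finset.sum_congr rfl fun a _ => ?_
          rw [Polynomial.eval_eq_sum_range, Finset.mul_sum]
          refine Finset.sum_congr rfl fun j _ => ?_
          rw [mul_pow, ← pow_mul, ← pow_mul, mul_comm j v]
          ring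
      _ = P.eval ((q : ℂ) ^ v) := h v hv
      _ = ∑ j ∈ Finset.range (P.natDegree + 1), P.coeff j * ((q : ℂ) ^ j) ^ v := by
          rw [Polynomial.eval_eq_sum_range]
          refine Finset.sum_congr rfl fun j _ => ?_
          rw [← pow_mul, ← pow_mul, mul_comm j v]
  have hz := sum_exp_eq_zero J c b hsum (α * (q : ℂ) ^ N) (mul_ne_zero (hs α hαs) (pow_ne_zero _ hq0))
  have hmem : Sum.inl (α, N) ∈ J := Finset.inl_mem_disjSum.2 (Finset.mem_product.2 ⟨hαs, Finset.self_mem_range_succ N⟩)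
  rw [Finset.sum_eq_single_of_mem _ hmem ?_, if_pos (show b (Sum.inl (α, N)) = α * (q : ℂ) ^ N from rfl)] at hz
  · refine mul_ne_zero ?_ (leadingCoeff_ne_zero.2 hE) hz
    exact_mod_cast hn α hαs
  rintro (⟨a, j⟩ | j) hi hne'
  · refine if_neg fun e => hne' ?_
    change a * (q : ℂ) ^ j = α * (q : ℂ) ^ N at e
    obtain ⟨ha, hj⟩ := Finset.mem_product.1 (Finset.inl_mem_disjSum.1 hi)
    have hjN : j ≤ N := Nat.le_of_lt_succ (Finset.mem_range.1 hj)
    obtain ⟨i, hi'⟩ := Nat.exists_eq_add_of_le hjN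
    rw [hi', pow_add, ← mul_assoc, mul_right_comm] at e
    have ea : a = α * (q : ℂ) ^ i := mul_right_cancel₀ (pow_ne_zero j hq0) e
    have hab : a ∈ bad := Finset.mem_filter.2 ⟨ha, fun m hm => hαb (m - i) (by
      rw [zpow_sub₀ hq0, zpow_natCast, ← hm, ea, mul_div_cancel_right₀ _ (pow_ne_zero _ hq0)])⟩
    have hle := hmax a hab
    rw [ea, norm_mul, norm_pow] at hle
    have hqn : (1 : ℝ) < ‖(q : ℂ)‖ := by
      rw [Complex.norm_intCast, abs_of_pos (by exact_mod_cast lt_trans zero_lt_one hq)]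
      exact_mod_cast hq
    have hα0 : 0 < ‖α‖ := norm_pos_iff.2 (hs α hαs)
    have hi0 : i = 0 := by
      by_contra h0
      exact absurd hle (not_le.2 (lt_mul_of_one_lt_right hα0 (one_lt_pow₀ hqn h0)))
    subst hi0
    rw [pow_zero, mul_one] at ea
    rw [ea, hi', Nat.add_zero]
  · refine if_neg fun e => ?_
    change (q : ℂ) ^ j = α * (q : ℂ) ^ N at e
    refine hαb ((j : ℤ) - N) ?_
    rw [zpow_sub₀ hq0, zpow_natCast, zpow_natCast, e, mul_div_cancel_right₀ _ (pow_ne_zero _ hq0)]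

/-- The main statement. -/
theorem isLaurent (q : ℤ) (hq : 1 < q) (F : RatFunc ℚ)
    (hF : F ∈ Subring.closure
      (({RatFunc.X, (RatFunc.X : RatFunc ℚ)⁻¹} : Set (RatFunc ℚ)) ∪
        Set.range fun n : ℕ => ((RatFunc.X : RatFunc ℚ) ^ (n + 1) - 1)⁻¹))
    (hrat : ∃ P Q : Polynomial ℚ, Q ≠ 0 ∧
      (PowerSeries.exp ℚ).subst
          (PowerSeries.mk fun v : ℕ => if v = 0 then (0 : ℚ)
            else F.eval (RingHom.id ℚ) ((q : ℚ) ^ v) / (v : ℚ))
        * (Q : PowerSeries ℚ) = (P : PowerSeries ℚ)) :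
    ∃ (P : Polynomial ℤ) (a : ℕ),
      F * RatFunc.X ^ a = algebraMap (Polynomial ℚ) (RatFunc ℚ) (P.map (Int.castRingHom ℚ)) := by
  classical
  have hden : ∃ E P : ℚ[X], E ≠ 0 ∧ (∀ y : ℚ, 1 < y → E.eval y ≠ 0) ∧
      F * algebraMap _ (RatFunc ℚ) E = algebraMap _ _ P := by
    clear hrat
    induction hF using Subring.closure_induction with
    | mem x hx =>
      rcases hx with (rfl | rfl) | ⟨n, rfl⟩
      · exact ⟨1, X, one_ne_zero, fun y _ => by simp, by simp⟩
      · refine ⟨X, 1, X_ne_zero, fun y hy => by simp; linarith, ?_⟩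
        rw [RatFunc.algebraMap_X, inv_mul_cancel₀ RatFunc.X_ne_zero, map_one]
      · refine ⟨X ^ (n + 1) - 1, 1, X_pow_sub_C_ne_zero (Nat.succ_pos n) 1, fun y hy => ?_, ?_⟩
        · simp only [eval_sub, eval_pow, eval_X, eval_one]
          exact sub_ne_zero.2 (one_lt_pow₀ hy n.succ_ne_zero).ne'
        · rw [map_one]
          simp only [map_sub, map_pow, RatFunc.algebraMap_X, map_one]
          refine inv_mul_cancel₀ fun h0 => X_pow_sub_C_ne_zero (R := ℚ) (Nat.succ_pos n) 1 ?_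
          refine (RatFunc.algebraMap_injective (K := ℚ)) ?_
          simpa using h0
    | zero => exact ⟨1, 0, one_ne_zero, fun y _ => by simp, by simp⟩
    | one => exact ⟨1, 1, one_ne_zero, fun y _ => by simp, by simp⟩
    | add x y _ _ hx hy =>
      obtain ⟨E, P, hE, hEe, hP⟩ := hx
      obtain ⟨E', P', hE', hEe', hP'⟩ := hy
      exact ⟨E * E', P * E' + P' * E, mul_ne_zero hE hE', fun t ht => by simp [hEe t ht, hEe' t ht],
        by rw [map_mul, map_add, map_mul, map_mul, ← hP, ← hP']; ring⟩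
    | neg x _ hx =>
      obtain ⟨E, P, hE, hEe, hP⟩ := hx
      exact ⟨E, -P, hE, hEe, by rw [neg_mul, hP, map_neg]⟩
    | mul x y _ _ hx hy =>
      obtain ⟨E, P, hE, hEe, hP⟩ := hx
      obtain ⟨E', P', hE', hEe', hP'⟩ := hy
      exact ⟨E * E', P * P', mul_ne_zero hE hE', fun t ht => by simp [hEe t ht, hEe' t ht],
        by rw [map_mul, map_mul, ← hP, ← hP']; ring⟩
  obtain ⟨E, P, hE, hEe, hP⟩ := hden
  have hqv : ∀ v, 1 ≤ v → (1 : ℚ) < (q : ℚ) ^ v := fun v hv =>
    one_lt_pow₀ (by exact_mod_cast hq) (by omega)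
  let f : ℕ → ℚ := fun v => F.eval (RingHom.id ℚ) ((q : ℚ) ^ v)
  have hev : ∀ v, 1 ≤ v → f v * E.eval ((q : ℚ) ^ v) = P.eval ((q : ℚ) ^ v) := fun v hv => by
    have hd : F.denom ∣ E := (RatFunc.denom_dvd hE).2 ⟨P, by
      rw [← hP, mul_div_cancel_right₀ _ (RatFunc.algebraMap_ne_zero hE)]⟩
    have h1 : F.denom.eval₂ (RingHom.id ℚ) ((q : ℚ) ^ v) ≠ 0 := fun h0 => by
      obtain ⟨w, hw⟩ := hd
      exact hEe _ (hqv v hv) (by rw [hw, eval_mul, ← Polynomial.eval₂_id, h0, zero_mul])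
    have h2 := RatFunc.eval_mul (f := RingHom.id ℚ) (a := (q : ℚ) ^ v) (x := F)
      (y := algebraMap _ (RatFunc ℚ) E) h1 (by simp)
    rw [hP] at h2
    simp only [RatFunc.eval_algebraMap, Algebra.algebraMap_self, RingHom.id_apply, Polynomial.eval₂_id] at h2
    exact h2.symm
  obtain ⟨P₀, Q₀, hQ₀, hPQ⟩ := hrat
  let g : PowerSeries ℚ := PowerSeries.mk fun v : ℕ => if v = 0 then (0 : ℚ) else f v / (v : ℚ)
  let R : PowerSeries ℚ := (PowerSeries.exp ℚ).subst g
  have hg : PowerSeries.HasSubst g := PowerSeries.HasSubst.of_constantCoeff_zero' (by simp [g])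
  let Gs : PowerSeries ℚ := PowerSeries.mk fun v => if v = 0 then 0 else f v
  have hDR : PowerSeries.X * PowerSeries.derivative ℚ R = Gs * R := by
    have e : PowerSeries.X * PowerSeries.derivative ℚ g = Gs := by
      ext v
      rcases v with _ | v
      · simp [Gs]
      · rw [PowerSeries.coeff_succ_X_mul, PowerSeries.coeff_derivative]
        simp [g, Gs]
        field_simp
    rw [PowerSeries.derivative_subst hg, PowerSeries.derivative_exp, ← e]
    ring
  have hR0 : R ≠ 0 := fun h0 => by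
    have : PowerSeries.constantCoeff R = 1 := by
      change PowerSeries.constantCoeff ((PowerSeries.exp ℚ).subst g) = 1
      rw [← PowerSeries.coeff_zero_eq_constantCoeff_apply, PowerSeries.coeff_subst' hg,
        finsum_eq_single _ 0]
      · simp
      · intro d hd
        simp [PowerSeries.coeff_zero_eq_constantCoeff_apply, g, zero_pow hd]
    simp [h0] at this
  have hP₀ : (P₀ : PowerSeries ℚ) ≠ 0 := by
    rw [← hPQ]
    exact mul_ne_zero hR0 (by simpa using hQ₀)
  -- the logarithmic derivatives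
  let φ := PowerSeries.map (algebraMap ℚ ℂ)
  have hφd : ∀ x : PowerSeries ℚ, φ (PowerSeries.X * PowerSeries.derivative ℚ x) =
      PowerSeries.X * PowerSeries.derivative ℂ (φ x) := fun x => by
    rw [map_mul, PowerSeries.map_X]
    congr 1
    ext n
    simp [φ, PowerSeries.coeff_derivative]
  have hφc : ∀ p : ℚ[X], φ (p : PowerSeries ℚ) = ((p.map (algebraMap ℚ ℂ) : ℂ[X]) : PowerSeries ℂ) := fun p => by
    ext n
    simp [φ]
  obtain ⟨sP, hsP, hsP'⟩ := exists_logDeriv (P₀.map (algebraMap ℚ ℂ))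
  obtain ⟨sQ, hsQ, hsQ'⟩ := exists_logDeriv (Q₀.map (algebraMap ℚ ℂ))
  have hkey : φ Gs + sQ = sP := by
    have h1 := congrArg (fun x => φ (PowerSeries.X * PowerSeries.derivative ℚ x)) hPQ
    change φ (PowerSeries.X * PowerSeries.derivative ℚ (R * (Q₀ : PowerSeries ℚ))) =
      φ (PowerSeries.X * PowerSeries.derivative ℚ (P₀ : PowerSeries ℚ)) at h1
    rw [Derivation.leibniz, smul_eq_mul, smul_eq_mul, mul_add, map_add, mul_left_comm, map_mul φ R, hφd,
      mul_left_comm PowerSeries.X, map_mul φ (Q₀ : PowerSeries ℚ), hDR, map_mul, hφc, hsQ, hφd, hφc, hsP] at h1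
    have h2 : φ R * φ (Q₀ : PowerSeries ℚ) = φ (P₀ : PowerSeries ℚ) := by rw [← map_mul]; exact congrArg φ hPQ
    rw [hφc, hφc] at h2
    have hne : ((P₀.map (algebraMap ℚ ℂ) : ℂ[X]) : PowerSeries ℂ) ≠ 0 := by
      rw [← hφc]
      exact fun h0 => hP₀ (PowerSeries.map_injective _ (algebraMap ℚ ℂ).injective (h0.trans (map_zero _).symm))
    refine mul_right_cancel₀ hne ?_
    rw [← h1, ← h2]
    ring
  let rP := (P₀.map (algebraMap ℚ ℂ)).roots.map fun r => r⁻¹
  let rQ := (Q₀.map (algebraMap ℚ ℂ)).roots.map fun r => r⁻¹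
  let n : ℂ → ℤ := fun a => (rQ.count a : ℤ) - (rP.count a : ℤ)
  let s : Finset ℂ := (rQ.toFinset ∪ rP.toFinset).filter fun a => a ≠ 0 ∧ n a ≠ 0
  have hsum : ∀ v, 1 ≤ v → (f v : ℂ) = ∑ a ∈ s, (n a : ℂ) * a ^ v := fun v hv => by
    have h1 := congrArg (PowerSeries.coeff v) hkey
    rw [map_add, hsP' v hv, hsQ' v hv] at h1
    simp only [φ, PowerSeries.coeff_map, Gs, PowerSeries.coeff_mk, if_neg (show v ≠ 0 by omega),
      eq_ratCast] at h1
    have h2 : ∀ m : Multiset ℂ, m.toFinset ⊆ rQ.toFinset ∪ rP.toFinset →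
        (m.map fun r => r ^ v).sum = ∑ a ∈ rQ.toFinset ∪ rP.toFinset, (m.count a : ℂ) * a ^ v := fun m hm => by
      rw [Finset.sum_multiset_map_count]
      simp only [nsmul_eq_mul]
      exact Finset.sum_subset hm fun a _ ha => by
        rw [Multiset.count_eq_zero.2 (fun h => ha (Multiset.mem_toFinset.2 h)), Nat.cast_zero, zero_mul]
    have h3 : ∑ a ∈ s, (n a : ℂ) * a ^ v = ∑ a ∈ rQ.toFinset ∪ rP.toFinset, (n a : ℂ) * a ^ v :=
      Finset.sum_filter_of_ne fun a _ hne => ⟨fun h0 => hne (by rw [h0, zero_pow (by omega), mul_zero]),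
        fun h0 => hne (by rw [h0, Int.cast_zero, zero_mul])⟩
    rw [h3]
    simp only [n, Int.cast_sub, Int.cast_natCast, sub_mul, Finset.sum_sub_distrib]
    rw [← h2 rQ Finset.subset_union_left, ← h2 rP Finset.subset_union_right]
    simp only [rP, rQ, Multiset.map_map, Function.comp_def]
    linear_combination h1
  have hcomp : ∀ v, 1 ≤ v →
      (∑ a ∈ s, (n a : ℂ) * a ^ v) * (E.map (algebraMap ℚ ℂ)).eval ((q : ℂ) ^ v) =
        (P.map (algebraMap ℚ ℂ)).eval ((q : ℂ) ^ v) := fun v hv => by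
    have hc : ((q : ℂ) ^ v) = algebraMap ℚ ℂ ((q : ℚ) ^ v) := by simp
    rw [← hsum v hv, hc, Polynomial.eval_map_apply, Polynomial.eval_map_apply, ← hev v hv, map_mul]
    simp
  have hexp : ∀ a ∈ s, ∃ m : ℤ, a = (q : ℂ) ^ m :=
    exists_zpow q hq _ _ ((Polynomial.map_ne_zero_iff (algebraMap ℚ ℂ).injective).2 hE) s n
      (fun a ha => (Finset.mem_filter.1 ha).2.2) (fun a ha => (Finset.mem_filter.1 ha).2.1) hcomp
  choose m hm using hexp
  let A : ℕ := ∑ a ∈ s.attach, (m a.1 a.2).natAbs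
  have hA : ∀ a : {a // a ∈ s}, ∃ e : ℕ, (e : ℤ) = m a.1 a.2 + A := fun a => by
    refine ⟨(m a.1 a.2 + A).toNat, Int.toNat_of_nonneg ?_⟩
    have h1 : (m a.1 a.2).natAbs ≤ A :=
      Finset.single_le_sum (f := fun a : {a // a ∈ s} => (m a.1 a.2).natAbs) (fun _ _ => Nat.zero_le _)
        (Finset.mem_attach _ a)
    have h2 : -(m a.1 a.2) ≤ ((m a.1 a.2).natAbs : ℤ) := by omega
    omega
  choose e he using hA
  let Pz : ℤ[X] := ∑ a ∈ s.attach, C (n a.1) * X ^ e a
  refine ⟨Pz, A, ?_⟩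
  have hzero : Pz.map (Int.castRingHom ℚ) * E = P * X ^ A := by
    refine Polynomial.eq_of_infinite_eval_eq _ _ ?_
    refine Set.Infinite.mono ?_ (Set.infinite_range_of_injective (f := fun v : ℕ => (q : ℚ) ^ (v + 1)) ?_)
    · rintro _ ⟨v, rfl⟩
      change (Pz.map (Int.castRingHom ℚ) * E).eval _ = (P * X ^ A).eval _
      rw [eval_mul, eval_mul, eval_pow, eval_X, ← hev (v + 1) (Nat.le_add_left 1 v), mul_right_comm]
      congr 1
      refine (algebraMap ℚ ℂ).injective ?_
      rw [map_mul, map_pow, ← Polynomial.eval_map_apply, Polynomial.map_map]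
      simp only [Pz, Polynomial.map_sum, Polynomial.map_mul, Polynomial.map_pow, Polynomial.map_C, Polynomial.map_X,
        eval_finsetSum, eval_mul, eval_pow, eval_C, eval_X, map_pow, map_intCast, eq_ratCast, hsum (v + 1)
        (Nat.le_add_left 1 v)]
      rw [Finset.sum_mul, ← Finset.sum_attach s]
      refine Finset.sum_congr rfl fun a _ => ?_
      have hq0 : (q : ℂ) ≠ 0 := by exact_mod_cast (ne_of_gt (lt_trans zero_lt_one hq))
      generalize n a.1 = na
      conv_rhs => rw [hm a.1 a.2]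
      push_cast
      rw [← pow_mul, ← pow_mul, ← zpow_natCast (q : ℂ), ← zpow_natCast ((q : ℂ) ^ m a.1 a.2), ← zpow_natCast (q : ℂ) ((v + 1) * A),
        ← zpow_mul, mul_assoc, ← zpow_add₀ hq0]
      congr 2
      push_cast
      rw [he a]
      ring
    · intro v w hvw
      have := pow_right_injective₀ (by exact_mod_cast lt_trans zero_lt_one hq : (0 : ℚ) < q)
        (by exact_mod_cast hq.ne' : (q : ℚ) ≠ 1) hvw
      omega
  refine mul_right_cancel₀ (RatFunc.algebraMap_ne_zero hE) ?_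
  rw [mul_right_comm, hP, ← RatFunc.algebraMap_X, ← map_pow, ← map_mul, ← map_mul, hzero]

end Groth.Agent.H14Count.Laurent
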