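import Groth.Prelude.Def_AlgSt5
import Groth.Prelude.Def_ChGrp
import Groth.Agent.H14Count.Desc
import Groth.Agent.H14Count.AffineForm
import Groth.Agent.H14Quot.Basic
import Mathlib

/-!
# Torsors over a field from cocycles at a finite Galois level
-/

set_option autoImplicit false
set_option linter.unusedVariables false
set_option linter.unusedSectionVars false
set_option backward.isDefEq.respectTransparency false
set_option backward.isDefEq.respectTransparency.types false

universe u

open CategoryTheory CategoryTheory.Limits MonoidalCategory CartesianMonoidalCategory MonObj AlgebraicGeometry AlgSt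
open scoped CategoryTheory.Obj

noncomputable section

namespace Groth.Agent.H14Count

attribute [local instance 2000] Hom.group Hom.monoid

variable {k : Type u} [Field k] {k' : Type u} [Field k'] [Algebra k k'] {K : Type u} [Field K]
  [Algebra k K] [Algebra k' K] [IsScalarTower k k' K]
  {G : Over (Spec (CommRingCat.of k))} [GrpObj G]

/-- The semilinear automorphisms of the trivial torsor given by a cocycle. -/
def levelMap (c : (K ≃ₐ[k'] K) → (SGA7.pt (K := k) K ⟶ G)) (σ : K ≃ₐ[k'] K) :
    G ⊗ SGA7.pt (K := k) K ⟶ G ⊗ SGA7.pt (K := k) K :=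
  lift (fst G _ * (snd G _ ≫ c σ)) (snd G _ ≫ ptAut k σ)

variable {c : (K ≃ₐ[k'] K) → (SGA7.pt (K := k) K ⟶ G)}

@[reassoc]
lemma levelMap_fst (σ : K ≃ₐ[k'] K) : levelMap c σ ≫ fst G _ = fst G _ * (snd G _ ≫ c σ) := lift_fst _ _

@[reassoc]
lemma levelMap_snd (σ : K ≃ₐ[k'] K) : levelMap c σ ≫ snd G _ = snd G _ ≫ ptAut k σ := lift_snd _ _

lemma levelMap_mul (hc : ∀ σ τ, c (σ * τ) = c σ * (ptAut k σ ≫ c τ)) (σ τ : K ≃ₐ[k'] K) :
    levelMap c (σ * τ) = levelMap c σ ≫ levelMap c τ := by
  apply CartesianMonoidalCategory.hom_ext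
  · rw [levelMap_fst, hc, Category.assoc, levelMap_fst, MonObj.comp_mul, MonObj.comp_mul,
      levelMap_fst, levelMap_snd_assoc, _root_.mul_assoc]
  · rw [levelMap_snd, ptAut_mul, Category.assoc, levelMap_snd, levelMap_snd_assoc]

lemma levelMap_one (hc : ∀ σ τ, c (σ * τ) = c σ * (ptAut k σ ≫ c τ)) : levelMap c 1 = 𝟙 _ := by
  have h := hc 1 1
  rw [ptAut_one, Category.id_comp, _root_.one_mul] at h
  have h1 : c 1 = 1 := left_eq_mul.1 h
  rw [levelMap, h1, ptAut_one, Category.comp_id, MonObj.comp_one, _root_.mul_one, lift_fst_snd]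

lemma leftMul_fst (T : Over (Spec (CommRingCat.of k))) :
    (leftMul G T).act ≫ fst G T = fst G (G ⊗ T) * (snd G (G ⊗ T) ≫ fst G T) := lift_fst _ _

@[reassoc]
lemma leftMul_snd (T : Over (Spec (CommRingCat.of k))) :
    (leftMul G T).act ≫ snd G T = snd G (G ⊗ T) ≫ snd G T := lift_snd _ _

lemma lift_leftMul_fst {Z T : Over (Spec (CommRingCat.of k))} (g : Z ⟶ G) (y : Z ⟶ G ⊗ T) :
    (lift g y ≫ (leftMul G T).act) ≫ fst G T = g * (y ≫ fst G T) := by
  rw [Category.assoc, leftMul_fst, MonObj.comp_mul, lift_fst, lift_snd_assoc]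

lemma lift_leftMul_snd {Z T : Over (Spec (CommRingCat.of k))} (g : Z ⟶ G) (y : Z ⟶ G ⊗ T) :
    (lift g y ≫ (leftMul G T).act) ≫ snd G T = y ≫ snd G T := by
  rw [Category.assoc, leftMul_snd, lift_snd_assoc]

lemma levelMap_act (σ : K ≃ₐ[k'] K) :
    (G ◁ levelMap c σ) ≫ (leftMul G (SGA7.pt (K := k) K)).act = (leftMul G (SGA7.pt (K := k) K)).act ≫ levelMap c σ := by
  apply CartesianMonoidalCategory.hom_ext
  · rw [Category.assoc, leftMul_fst, MonObj.comp_mul, whiskerLeft_fst, whiskerLeft_snd_assoc, levelMap_fst,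
      MonObj.comp_mul, Category.assoc, levelMap_fst, MonObj.comp_mul, leftMul_fst, leftMul_snd_assoc, _root_.mul_assoc]
  · rw [Category.assoc, leftMul_snd, whiskerLeft_snd_assoc, levelMap_snd, Category.assoc, levelMap_snd, leftMul_snd_assoc]

/-- Multiplying a base change by a fixed scheme. -/
lemma isPullback_whisker {P : Over (Spec (CommRingCat.of k))} {π : P ⟶ SGA7.pt (K := k) k'}
    {W : Over (Spec (CommRingCat.of k))} {q : W ⟶ P} {r : W ⟶ SGA7.pt (K := k) K}
    (h : IsPullback q r π (toPt k k' K)) (Y : Over (Spec (CommRingCat.of k))) :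
    IsPullback (Y ◁ q) (snd Y W ≫ r) (snd Y P ≫ π) (toPt k k' K) :=
  (isPullback_whiskerLeft (G := Y) q).paste_vert h

variable [FiniteDimensional k' K] [IsGalois k' K]

/-- The scheme of the torsor of a cocycle. -/
theorem exists_levelQuot [IsAffineHom G.hom] (hc : ∀ σ τ, c (σ * τ) = c σ * (ptAut k σ ≫ c τ)) :
    ∃ (P : Over (Spec (CommRingCat.of k))) (π : P ⟶ SGA7.pt (K := k) k') (q : G ⊗ SGA7.pt (K := k) K ⟶ P),
      IsPullback q (snd G _) π (toPt k k' K) ∧ ∀ σ, levelMap c σ ≫ q = q := by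
  let W := G ⊗ SGA7.pt (K := k) K
  let XK : Over (Spec (CommRingCat.of K)) := Over.mk (snd G (SGA7.pt (K := k) K)).left
  have : IsAffine G.left := isAffine_of_isAffineHom G.hom
  have : IsAffine (SGA7.pt (K := k) K).left := inferInstanceAs (IsAffine (Spec _))
  have : IsAffine XK.left := inferInstanceAs (IsAffine (pullback G.hom (SGA7.pt (K := k) K).hom))
  obtain ⟨Y, e, -, he⟩ := exists_form (k := k') (K := K) XK (fun σ => (levelMap c σ).left)
    (by rw [levelMap_one hc]; rfl) (fun σ τ => by rw [levelMap_mul hc]; rfl)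
    (fun σ => congrArg (fun m => m.left) (levelMap_snd (c := c) σ))
  let P : Over (Spec (CommRingCat.of k)) := Over.mk (Y.hom ≫ (SGA7.pt (K := k) k').hom)
  let π : P ⟶ SGA7.pt (K := k) k' := Over.homMk Y.hom rfl
  let f1 : W.left ⟶ Y.left := e.inv.left ≫ pullback.fst Y.hom (SGA7.pt (K := k') K).hom
  have hcomm : f1 ≫ Y.hom = (snd G (SGA7.pt (K := k) K)).left ≫ (toPt k k' K).left := by
    rw [Category.assoc, pullback.condition, ← Category.assoc]
    exact congrArg (· ≫ (toPt k k' K).left) (Over.w e.inv)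
  let q : W ⟶ P := Over.homMk f1 (by
    change f1 ≫ Y.hom ≫ (SGA7.pt (K := k) k').hom = W.hom
    rw [reassoc_of% hcomm, Over.w (toPt k k' K)]
    exact Over.w (snd G (SGA7.pt (K := k) K)))
  refine ⟨P, π, q, ?_, fun σ => ?_⟩
  · refine IsPullback.of_map (Over.forget _) (Over.OverMorphism.ext hcomm) ?_
    refine (IsPullback.of_hasPullback Y.hom (SGA7.pt (K := k') K).hom).of_iso ((Over.forget _).mapIso e) (Iso.refl _)
      (Iso.refl _) (Iso.refl _) ?_ ?_ ?_ ?_
    · change _ ≫ 𝟙 _ = e.hom.left ≫ f1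
      rw [Category.comp_id, Over.hom_left_inv_left_assoc]
    · change _ ≫ 𝟙 _ = e.hom.left ≫ XK.hom
      rw [Category.comp_id]
      exact (Over.w e.hom).symm
    · exact (Category.comp_id _).trans (Category.id_comp _).symm
    · exact (Category.comp_id _).trans (Category.id_comp _).symm
  · ext : 1
    change (levelMap c σ).left ≫ f1 = f1
    have h : (levelMap c σ).left ≫ e.inv.left = e.inv.left ≫ GalTw.galMap K σ Y := by
      rw [← cancel_mono e.hom.left, Category.assoc, Category.assoc, he, Over.inv_left_hom_left,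
        Over.inv_left_hom_left_assoc]
      exact Category.comp_id _
    rw [reassoc_of% h, GalTw.galMap_fst]

section Quot

variable {P : Over (Spec (CommRingCat.of k))} {π : P ⟶ SGA7.pt (K := k) k'} {q : G ⊗ SGA7.pt (K := k) K ⟶ P}
  (hq : IsPullback q (snd G _) π (toPt k k' K)) (hinv : ∀ σ, levelMap c σ ≫ q = q)

include hq hinv in
/-- Left multiplication descends. -/
theorem exists_levelAct : ∃ a : AlgGrp.Action G P,
    (G ◁ q) ≫ a.act = (leftMul G (SGA7.pt (K := k) K)).act ≫ q ∧ a.act ≫ π = snd G P ≫ π := by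
  let LM := leftMul G (SGA7.pt (K := k) K)
  have hW := isPullback_whisker hq G
  have : Epi (G ◁ q) := epi_of_isPullback hW
  obtain ⟨act, hact⟩ := exists_desc_of_isPullback hW (fun σ => G ◁ levelMap c σ)
    (fun σ => by rw [← MonoidalCategory.whiskerLeft_comp, hinv σ])
    (fun σ => by rw [whiskerLeft_snd_assoc, levelMap_snd, Category.assoc])
    (LM.act ≫ q) (fun σ => by rw [reassoc_of% levelMap_act (c := c) σ, hinv σ])
  refine ⟨{ act := act, one_act := ?_, mul_act := ?_ }, hact, ?_⟩
  · have : Epi (𝟙_ _ ◁ q) := epi_of_isPullback (isPullback_whisker hq (𝟙_ _))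
    rw [← cancel_epi (𝟙_ _ ◁ q), whisker_exchange_assoc, hact, reassoc_of% LM.one_act, leftUnitor_naturality]
  · have : Epi ((G ⊗ G) ◁ q) := epi_of_isPullback (isPullback_whisker hq (G ⊗ G))
    rw [← cancel_epi ((G ⊗ G) ◁ q), whisker_exchange_assoc, hact, reassoc_of% LM.mul_act,
      associator_naturality_right_assoc, ← MonoidalCategory.whiskerLeft_comp_assoc, hact,
      MonoidalCategory.whiskerLeft_comp, Category.assoc, hact]
  · rw [← cancel_epi (G ◁ q), reassoc_of% hact, hq.w, whiskerLeft_snd_assoc, hq.w]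
    exact leftMul_snd_assoc _ _

include hq hinv in
/-- The descended action is simply transitive on the fibres. -/
theorem exists_unique_div (a : AlgGrp.Action G P) (hact : (G ◁ q) ≫ a.act = (leftMul G (SGA7.pt (K := k) K)).act ≫ q)
    {Z : Over (Spec (CommRingCat.of k))} (y z : Z ⟶ P) (hyz : y ≫ π = z ≫ π) : ∃! g : Z ⟶ G, lift g y ≫ a.act = z := by
  let TK := SGA7.pt (K := k) K
  let qZ := pullback.fst (y ≫ π) (toPt k k' K)
  let rZ := pullback.snd (y ≫ π) (toPt k k' K)
  have hZ : IsPullback qZ rZ (y ≫ π) (toPt k k' K) := IsPullback.of_hasPullback _ _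
  have : Epi qZ := epi_of_isPullback hZ
  let dZ : (K ≃ₐ[k'] K) → (_ ⟶ _) := fun σ =>
    pullback.lift (f := y ≫ π) (g := toPt k k' K) qZ (rZ ≫ ptAut k σ)
      (by rw [Category.assoc rZ, ptAut_toPt]; exact pullback.condition)
  let y' := hq.lift (qZ ≫ y) rZ (by rw [Category.assoc]; exact pullback.condition)
  let z' := hq.lift (qZ ≫ z) rZ (by rw [Category.assoc, ← hyz]; exact pullback.condition)
  have heq : ∀ g : pullback (y ≫ π) (toPt k k' K) ⟶ G,
      lift g (qZ ≫ y) ≫ a.act = qZ ≫ z ↔ g = (z' ≫ fst G TK) * (y' ≫ fst G TK)⁻¹ := by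
    intro g
    have e1 : lift g (qZ ≫ y) ≫ a.act = (lift g y' ≫ (leftMul G TK).act) ≫ q := by
      rw [Category.assoc, ← hact, lift_whiskerLeft_assoc, hq.lift_fst]
    have e2 : lift g y' ≫ (leftMul G TK).act = z' ↔ g = (z' ≫ fst G TK) * (y' ≫ fst G TK)⁻¹ := by
      constructor
      · intro h
        rw [← h, lift_leftMul_fst, mul_inv_cancel_right]
      · intro h
        apply CartesianMonoidalCategory.hom_ext
        · rw [lift_leftMul_fst, h, inv_mul_cancel_right]
        · rw [lift_leftMul_snd, hq.lift_snd, hq.lift_snd]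
    rw [e1, ← e2]
    constructor
    · intro h
      apply hq.hom_ext
      · rw [h]
        exact (hq.lift_fst _ _ _).symm
      · rw [lift_leftMul_snd, hq.lift_snd, hq.lift_snd]
    · intro h
      rw [h]
      exact hq.lift_fst _ _ _
  have hd : ∀ σ (w : Z ⟶ P) (hw : (qZ ≫ w) ≫ π = rZ ≫ toPt k k' K),
      dZ σ ≫ hq.lift (qZ ≫ w) rZ hw = hq.lift (qZ ≫ w) rZ hw ≫ levelMap c σ := fun σ w hw => by
    apply hq.hom_ext
    · rw [Category.assoc, hq.lift_fst, pullback.lift_fst_assoc, Category.assoc, hinv σ, hq.lift_fst]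
    · rw [Category.assoc, hq.lift_snd, pullback.lift_snd, Category.assoc, levelMap_snd, hq.lift_snd_assoc]
  obtain ⟨g, hg⟩ := exists_desc_of_isPullback hZ dZ (fun σ => pullback.lift_fst _ _ _)
    (fun σ => pullback.lift_snd _ _ _) ((z' ≫ fst G TK) * (y' ≫ fst G TK)⁻¹) (fun σ => by
      rw [MonObj.comp_mul, GrpObj.comp_inv, ← Category.assoc, ← Category.assoc, hd σ, hd σ]
      change ((z' ≫ levelMap c σ) ≫ fst G TK) * ((y' ≫ levelMap c σ) ≫ fst G TK)⁻¹ = _
      rw [Category.assoc z', Category.assoc y', levelMap_fst, MonObj.comp_mul, MonObj.comp_mul, hq.lift_snd_assoc,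
        hq.lift_snd_assoc]
      group
      rfl)
  refine ⟨g, ?_, fun g₂ hg₂ => ?_⟩
  · change lift g y ≫ a.act = z
    rw [← cancel_epi qZ, ← Category.assoc, comp_lift, heq]
    exact hg
  · rw [← cancel_epi qZ, hg]
    refine (heq _).1 ?_
    rw [← comp_lift, Category.assoc, hg₂]

end Quot

/-- A cocycle at a finite level is the cocycle of a point of a torsor, with the map to `X` prescribed. -/
theorem exists_obj_of_cocycle [IsAffineHom G.hom] (hc : ∀ σ τ, c (σ * τ) = c σ * (ptAut k σ ≫ c τ))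
    {X : Over (Spec (CommRingCat.of k))} (aX : AlgGrp.Action G X) (x : SGA7.pt (K := k) K ⟶ X)
    (hx : ∀ σ, lift (c σ) (ptAut k σ ≫ x) ≫ aX.act = x) :
    ∃ (A : (QuotObj.forget Scheme.etalePrecoverage G aX).Fiber (SGA7.pt (K := k) k'))
      (p : SGA7.pt (K := k) K ⟶ A.1.P), p ≫ A.1.π = toPt k k' K ≫ eqToHom A.2.symm ∧ p ≫ A.1.φ = x ∧
        ∀ σ, lift (c σ) (ptAut k σ ≫ p) ≫ A.1.act.act = p := by
  obtain ⟨P, π, q, hq, hinv⟩ := exists_levelQuot (G := G) hc
  obtain ⟨a, hact, hπinv⟩ := exists_levelAct hq hinv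
  have hdiv := @exists_unique_div _ _ _ _ _ _ _ _ _ _ _ _ c _ _ P π q hq hinv a hact
  let TK := SGA7.pt (K := k) K
  have : Epi (G ◁ q) := epi_of_isPullback (isPullback_whisker hq G)
  obtain ⟨φ, hφ⟩ := exists_desc_of_isPullback hq (levelMap c) hinv (fun σ => levelMap_snd σ) ((G ◁ x) ≫ aX.act) (fun σ => by
    rw [levelMap, lift_whiskerLeft_assoc, Category.assoc, AlgGrp.Action.lift_mul_act,
      show lift (snd G TK ≫ c σ) (snd G TK ≫ ptAut k σ ≫ x) ≫ aX.act = snd G TK ≫ x by
        rw [← comp_lift, Category.assoc, hx σ]]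
    change lift (fst G TK) (snd G TK ≫ x) ≫ aX.act = _
    rw [show lift (fst G TK) (snd G TK ≫ x) = G ◁ x from by apply CartesianMonoidalCategory.hom_ext <;> simp [TK]])
  let A : QuotObj Scheme.etalePrecoverage G aX :=
    { base := SGA7.pt (K := k) k'
      P := P
      act := a
      π := π
      cart := by
        refine IsPullback.of_isLimit' ⟨hπinv⟩ (PullbackCone.IsLimit.mk _
          (fun s => lift (hdiv s.snd s.fst s.condition.symm).exists.choose s.snd)
          (fun s => (hdiv s.snd s.fst s.condition.symm).exists.choose_spec) (fun s => lift_snd _ _) fun s m h1 h2 => ?_)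
        apply CartesianMonoidalCategory.hom_ext
        · rw [lift_fst]
          refine (hdiv s.snd s.fst s.condition.symm).unique ?_ (hdiv s.snd s.fst s.condition.symm).exists.choose_spec
          change lift (m ≫ fst G P) s.snd ≫ a.act = s.fst
          have h2' : m ≫ snd G P = s.snd := h2
          rw [← h2', ← comp_lift, lift_fst_snd, Category.comp_id]
          exact h1
        · rw [lift_snd]
          exact h2
      loc := by
        refine ⟨Presieve.singleton (toPt k k' K).left, ?_, ?_⟩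
        · change Presieve.singleton (toPt k k' K).left ∈ Scheme.precoverage (@Etale : MorphismProperty Scheme.{u}) _
          rw [Scheme.singleton_mem_precoverage_iff]
          refine ⟨fun s => ⟨IsLocalRing.closedPoint K, Subsingleton.elim (α := PrimeSpectrum k') _ _⟩, ?_⟩
          have : Algebra.IsSeparable k' K := IsGalois.to_isSeparable
          have hfp : Algebra.FinitePresentation k' K := Algebra.FinitePresentation.of_finiteType.1 inferInstance
          have hfe : Algebra.FormallyEtale k' K := Algebra.FormallyEtale.of_isSeparable k' K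
          have : Algebra.Etale k' K := ⟨hfe, hfp⟩
          exact (HasRingHomProperty.Spec_iff (P := @Etale) (φ := CommRingCat.ofHom (algebraMap k' K))).2
            (RingHom.etale_algebraMap.2 this)
        · rintro S' f ⟨⟩
          exact ⟨(lift 1 (𝟙 TK) ≫ q).left, by
            change (lift 1 (𝟙 TK) ≫ q).left ≫ π.left = _
            rw [← Over.comp_left, Category.assoc, hq.w, lift_snd_assoc, Category.id_comp]⟩
      φ := φ
      eqv := by
        rw [← cancel_epi (G ◁ q), reassoc_of% hact, hφ, ← Category.assoc (G ◁ q),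
          ← MonoidalCategory.whiskerLeft_comp, hφ]
        exact H14Quot.triv_eqv aX x }
  refine ⟨⟨A, rfl⟩, lift 1 (𝟙 TK) ≫ q, ?_, ?_, fun σ => ?_⟩
  · change (lift 1 (𝟙 TK) ≫ q) ≫ π = toPt k k' K ≫ 𝟙 _
    rw [Category.assoc, hq.w, lift_snd_assoc, Category.id_comp, Category.comp_id]
  · change (lift 1 (𝟙 TK) ≫ q) ≫ φ = x
    rw [Category.assoc, hφ, lift_whiskerLeft_assoc, Category.id_comp, AlgGrp.Action.lift_one_act]
  · change lift (c σ) (ptAut k σ ≫ lift 1 (𝟙 TK) ≫ q) ≫ a.act = lift 1 (𝟙 TK) ≫ q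
    rw [← Category.assoc (ptAut k σ), ← lift_whiskerLeft_assoc, hact, ← Category.assoc]
    conv_rhs => rw [← hinv σ, ← Category.assoc]
    congr 1
    apply CartesianMonoidalCategory.hom_ext
    · rw [lift_leftMul_fst, Category.assoc, Category.assoc, levelMap_fst, lift_fst, MonObj.comp_one, MonObj.comp_mul,
        lift_fst, lift_snd_assoc, Category.id_comp, _root_.mul_one, _root_.one_mul]
    · rw [lift_leftMul_snd, Category.assoc, Category.assoc, levelMap_snd, lift_snd, lift_snd_assoc, Category.comp_id,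
        Category.id_comp]

end Groth.Agent.H14Count
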