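import Groth.Agent.H14Count.Lang
import Groth.Agent.H14Quot.InducedQuot
import Mathlib.GroupTheory.GroupAction.Quotient
import Mathlib.AlgebraicGeometry.Morphisms.FiniteType

/-!
# The mass of a quotient stack over a finite field
-/

set_option autoImplicit false
set_option linter.unusedVariables false
set_option backward.isDefEq.respectTransparency false
set_option backward.isDefEq.respectTransparency.types false

universe u

open CategoryTheory CategoryTheory.Functor CategoryTheory.Limits MonoidalCategory CartesianMonoidalCategory MonObj GrpObj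
open AlgebraicGeometry

noncomputable section

namespace Groth.Agent.H14Count

open H14Quot AlgSt

local notation "K₀" => Scheme.fppfPrecoverage

variable {F : Type u} [Field F] [Finite F]

/-- An affine scheme of finite type over a finite field has finitely many rational points. -/
theorem finite_affine_points {U : Scheme.{u}} [IsAffine U] (f : U ⟶ Spec (CommRingCat.of F)) [LocallyOfFiniteType f] :
    Finite {q : Spec (CommRingCat.of F) ⟶ U // q ≫ f = 𝟙 _} := by
  classical
  have hft : f.appTop.hom.FiniteType :=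
    (HasRingHomProperty.iff_of_isAffine (P := @LocallyOfFiniteType)).1 inferInstance
  let A₀ : Type u := Γ(Spec (CommRingCat.of F), ⊤)
  algebraize [f.appTop.hom]
  obtain ⟨s, hs⟩ := (Algebra.FiniteType.out : (⊤ : Subalgebra A₀ Γ(U, ⊤)).FG)
  have : Finite A₀ :=
    Finite.of_equiv F (Scheme.ΓSpecIso (CommRingCat.of F)).symm.commRingCatIsoToRingEquiv.toEquiv
  have : Finite (↥s → A₀) := Pi.finite
  have key : ∀ (q q' : Γ(U, ⊤) →+* A₀), q.comp f.appTop.hom = RingHom.id _ → q'.comp f.appTop.hom = RingHom.id _ →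
      (∀ a ∈ s, q a = q' a) → q = q' := fun q q' e e' h => by
    let Af : ∀ q : Γ(U, ⊤) →+* A₀, q.comp f.appTop.hom = RingHom.id _ → (Γ(U, ⊤) →ₐ[A₀] A₀) := fun q e =>
      { q with commutes' := fun c => RingHom.congr_fun e c }
    exact congrArg AlgHom.toRingHom (AlgHom.ext_of_adjoin_eq_top (φ₁ := Af q e) (φ₂ := Af q' e') hs h)
  have hid : ∀ q : {q : Spec (CommRingCat.of F) ⟶ U // q ≫ f = 𝟙 _},
      q.1.appTop.hom.comp f.appTop.hom = RingHom.id _ := fun q => by
    rw [← CommRingCat.hom_comp, ← Scheme.Hom.comp_appTop, q.2]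
    rfl
  refine Finite.of_injective (fun q => fun a : ↥s => (q.1.appTop.hom a.1 : A₀)) fun q q' h => ?_
  exact Subtype.ext (ext_of_isAffine (CommRingCat.hom_ext
    (key _ _ (hid q) (hid q') fun a ha => congrFun h ⟨a, ha⟩)))

/-- Finitely many affine opens of finite type contain only finitely many rational points. -/
theorem finite_points_of_cover (Y : Over (Spec (CommRingCat.of F))) [LocallyOfFiniteType Y.hom] {κ : Type u} [Finite κ]
    (U : κ → Scheme.{u}) [∀ i, IsAffine (U i)] (e : ∀ i, U i ⟶ Y.left) [∀ i, IsOpenImmersion (e i)]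
    (hcov : ∀ y : Y.left, ∃ i, y ∈ Set.range (e i)) : Finite (basePt (F := F) ⟶ Y) := by
  have : ∀ i, Finite {q : Spec (CommRingCat.of F) ⟶ U i // q ≫ e i ≫ Y.hom = 𝟙 _} := fun i =>
    finite_affine_points (e i ≫ Y.hom)
  let Φ : (Σ i, {q : Spec (CommRingCat.of F) ⟶ U i // q ≫ e i ≫ Y.hom = 𝟙 _}) → (basePt (F := F) ⟶ Y) :=
    fun z => Over.homMk (z.2.1 ≫ e z.1) ((Category.assoc _ _ _).trans z.2.2)
  refine Finite.of_surjective Φ fun p => ?_
  obtain ⟨i, hi⟩ := hcov (p.left (IsLocalRing.closedPoint F))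
  have hr : Set.range p.left ⊆ Set.range (e i) := by
    rintro _ ⟨s, rfl⟩
    rwa [show s = IsLocalRing.closedPoint F from Subsingleton.elim (α := PrimeSpectrum F) _ _]
  refine ⟨⟨i, IsOpenImmersion.lift (e i) p.left hr, ?_⟩, Over.OverMorphism.ext (IsOpenImmersion.lift_fac _ _ hr)⟩
  rw [← Category.assoc, IsOpenImmersion.lift_fac]
  exact Over.w p

/-- A quasi-compact scheme locally of finite type over a finite field has finitely many rational points. -/
theorem finite_points (Y : Over (Spec (CommRingCat.of F))) [QuasiCompact Y.hom] [LocallyOfFiniteType Y.hom] :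
    Finite (basePt (F := F) ⟶ Y) := by
  have : CompactSpace Y.left := QuasiCompact.compactSpace_of_compactSpace Y.hom
  let 𝒰 := Y.left.affineCover.finiteSubcover
  have : ∀ i, IsAffine (𝒰.X i) := fun i => inferInstanceAs (IsAffine (Y.left.affineCover.X _))
  exact finite_points_of_cover Y 𝒰.X 𝒰.f fun y => (by
    obtain ⟨i, w, hw⟩ := 𝒰.exists_eq y
    exact ⟨i, w, hw⟩)

attribute [local instance 2000] Hom.group Hom.monoid

variable {X G : Over (Spec (CommRingCat.of F))} [GrpObj G] {aX : AlgGrp.Action G X}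

/-- Over a finite field every torsor under a smooth affine connected group is trivial. -/
theorem exists_torsor_point [IsAffineHom G.hom] [Smooth G.hom] [ConnectedSpace G.left] (A : QuotObj K₀ G aX)
    (hb : A.base = basePt (F := F)) : ∃ σ : A.base ⟶ A.P, σ ≫ A.π = 𝟙 _ := by
  have hterm : ∀ {W : Over (Spec (CommRingCat.of F))} (a b : W ⟶ A.base), a = b := by
    rw [hb]
    intro W a b
    exact toUnit_unique (a : W ⟶ 𝟙_ _) b
  obtain ⟨R, hR, hs⟩ := A.loc
  obtain ⟨κ, Z, g, rfl⟩ := Presieve.exists_eq_ofArrows R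
  obtain ⟨hsurj, hprop⟩ := (Scheme.ofArrows_mem_precoverage_iff (@Flat ⊓ @LocallyOfFinitePresentation)).1 hR
  let w : geomPt F ⟶ A.base := (Over.homMk (Spec.map (CommRingCat.ofHom
    (algebraMap F (AlgebraicClosure F)))) (by simp) : geomPt F ⟶ basePt (F := F)) ≫ eqToHom hb.symm
  obtain ⟨i, hi⟩ := hsurj (w.left (IsLocalRing.closedPoint (AlgebraicClosure F)))
  have : LocallyOfFinitePresentation (g i) := (hprop i).2
  have : Surjective (g i) := ⟨fun s => by
    have : Subsingleton A.base.left := by rw [hb]; exact inferInstanceAs (Subsingleton (PrimeSpectrum F))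
    obtain ⟨z, hz⟩ := hi
    exact ⟨z, Subsingleton.elim _ _⟩⟩
  obtain ⟨z, hz⟩ := exists_lift_point (g i) w.left
  obtain ⟨s, hsi⟩ := hs (g i) ⟨i⟩
  change s ≫ A.π.left = g i at hsi
  let x : geomPt F ⟶ A.P := Over.homMk (z ≫ s) (by
    rw [← Over.w A.π, ← Category.assoc, Category.assoc z, hsi, hz]
    exact Over.w w)
  let ψ := geomFrob F
  let k := A.cart.lift (ψ ≫ x) x (hterm _ _)
  let g₀ : geomPt F ⟶ G := k ≫ fst G A.P
  have hg : lift g₀ x ≫ A.act.act = ψ ≫ x := by
    have : lift g₀ x = k := CartesianMonoidalCategory.hom_ext _ _ (lift_fst _ _)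
      ((lift_snd _ _).trans (IsPullback.lift_snd _ _ _ _).symm)
    rw [this]
    exact IsPullback.lift_fst _ _ _ _
  obtain ⟨h', hh'⟩ := exists_lang g₀⁻¹
  have hfix : ψ ≫ (lift h'⁻¹ x ≫ A.act.act) = lift h'⁻¹ x ≫ A.act.act := by
    rw [← Category.assoc, comp_lift, ← hg, ← AlgGrp.Action.lift_mul_act, GrpObj.comp_inv]
    congr 2
    have e : g₀ = (h' * (ψ ≫ h')⁻¹)⁻¹ := by rw [hh', _root_.inv_inv]
    rw [e, _root_.mul_inv_rev, _root_.inv_inv, inv_mul_cancel_left]
  obtain ⟨p⟩ := exists_of_fixed _ hfix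
  exact ⟨eqToHom hb ≫ p, hterm _ _⟩

variable (aX) in
/-- The action on rational points. -/
@[reducible] def ptAction : MulAction (basePt (F := F) ⟶ G) (basePt (F := F) ⟶ X) where
  smul g x := lift g x ≫ aX.act
  one_smul x := AlgGrp.Action.lift_one_act aX x
  mul_smul g g' x := AlgGrp.Action.lift_mul_act aX g g' x

variable (aX) in
/-- The fibre over the base. -/
abbrev Fib := (AlgSt.QuotSt K₀ G aX).p.Fiber (basePt (F := F))

/-- The trivial torsor in the fibre. -/
def fibTriv (x : basePt (F := F) ⟶ X) : Fib aX := ⟨triv K₀ G aX x, rfl⟩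

lemma exists_iso_triv [IsAffineHom G.hom] [Smooth G.hom] [ConnectedSpace G.left] (ξ : Fib aX) :
    ∃ x, Nonempty (fibTriv x ≅ ξ) := by
  obtain ⟨A, hA⟩ := ξ
  obtain ⟨σ, hσ⟩ := exists_torsor_point A hA
  let σ' : basePt (F := F) ⟶ A.P := eqToHom hA.symm ≫ σ
  refine ⟨σ' ≫ A.φ, ?_⟩
  let φ : triv K₀ G aX (σ' ≫ A.φ) ⟶ A := homOfSec σ' rfl
  have hl : (AlgSt.QuotSt K₀ G aX).p.IsHomLift (𝟙 (basePt (F := F))) φ :=
    IsHomLift.of_fac' _ _ _ rfl hA (by
      change σ' ≫ A.π = _
      change (eqToHom hA.symm ≫ σ) ≫ A.π = 𝟙 _ ≫ 𝟙 _ ≫ eqToHom hA.symm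
      rw [Category.id_comp, Category.id_comp]
      exact (Category.assoc _ _ _).trans ((congrArg (eqToHom hA.symm ≫ ·) hσ).trans (Category.comp_id _)))
  have : IsIso φ := H14Fib.isIso_of_fibGrpd quotSt_fibGrpd (𝟙 (basePt (F := F))) φ
  have hl' : (AlgSt.QuotSt K₀ G aX).p.IsHomLift (𝟙 (basePt (F := F))) (inv φ) :=
    IsHomLift.lift_id_inv_isIso (AlgSt.QuotSt K₀ G aX).p _ φ
  exact ⟨⟨@Functor.Fiber.homMk _ _ _ _ _ _ _ _ φ hl, @Functor.Fiber.homMk _ _ _ _ _ _ _ _ (inv φ) hl',
    Functor.Fiber.hom_ext (IsIso.hom_inv_id φ), Functor.Fiber.hom_ext (IsIso.inv_hom_id φ)⟩⟩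

lemma rel_id (x y : basePt (F := F) ⟶ X) (g : {g : basePt (F := F) ⟶ G // lift g y ≫ aX.act = x}) :
    lift g.1 (𝟙 _ ≫ y) ≫ aX.act = x := by rw [Category.id_comp]; exact g.2

/-- Morphisms of trivial torsors in the fibre are group elements moving one point to the other. -/
def homEquiv (x y : basePt (F := F) ⟶ X) :
    (fibTriv (aX := aX) x ⟶ fibTriv y) ≃ {g : basePt (F := F) ⟶ G // lift g y ≫ aX.act = x} where
  toFun φ := ⟨quotElt (aX := aX) (x' := x) (x := y) φ.1, by
    have h := quot_rel (aX := aX) (x' := x) (x := y) φ.1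
    rw [show quotBase (aX := aX) (x' := x) (x := y) φ.1 = 𝟙 _ from toUnit_unique _ _, Category.id_comp] at h
    exact h⟩
  invFun g := ⟨quotHom (aX := aX) g.1 (𝟙 _) (rel_id x y g),
    lift_triv_hom _ _ (quotBase_quotHom g.1 (𝟙 _) (rel_id x y g))⟩
  left_inv φ := Functor.Fiber.hom_ext (quot_ext (aX := aX) (x' := x) (x := y) (toUnit_unique _ _)
    ((quotElt_quotHom (aX := aX) (x' := x) (x := y) _ _ (rel_id x y _)).trans rfl))
  right_inv g := Subtype.ext (quotElt_quotHom (aX := aX) (x' := x) (x := y) g.1 (𝟙 _) (rel_id x y g))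

/-- The automorphisms of a trivial torsor are the stabiliser. -/
theorem card_aut (x : basePt (F := F) ⟶ X) :
    Nat.card (Aut (fibTriv (aX := aX) x)) = (letI := ptAction aX
      Nat.card (MulAction.stabilizer (basePt (F := F) ⟶ G) x)) := by
  letI := ptAction aX
  have e1 : Aut (fibTriv (aX := aX) x) ≃ (fibTriv (aX := aX) x ⟶ fibTriv x) :=
    Equiv.ofBijective (fun α => α.hom) ⟨fun α β h => Iso.ext h, fun φ => by
      have hl : (AlgSt.QuotSt K₀ G aX).p.IsHomLift (𝟙 (basePt (F := F))) φ.1 := φ.2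
      have : IsIso φ.1 := H14Fib.isIso_of_fibGrpd quotSt_fibGrpd (𝟙 (basePt (F := F))) φ.1
      exact ⟨⟨φ, ⟨inv φ.1, IsHomLift.lift_id_inv_isIso (AlgSt.QuotSt K₀ G aX).p _ φ.1⟩,
        Functor.Fiber.hom_ext (IsIso.hom_inv_id φ.1), Functor.Fiber.hom_ext (IsIso.inv_hom_id φ.1)⟩, rfl⟩⟩
  exact Nat.card_congr (e1.trans (homEquiv x x))

/-- The mass formula. -/
theorem mass [Smooth X.hom] [QuasiCompact X.hom] [IsAffineHom G.hom] [Smooth G.hom] [ConnectedSpace G.left] :
    Finite (Quotient (isIsomorphicSetoid (Fib aX))) ∧ (∀ ξ : Fib aX, Finite (Aut ξ)) ∧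
      ∑ᶠ c : Quotient (isIsomorphicSetoid (Fib aX)), ((Nat.card (Aut c.out) : ℚ))⁻¹ =
        (Nat.card (basePt (F := F) ⟶ X) : ℚ) / (Nat.card (basePt (F := F) ⟶ G) : ℚ) := by
  classical
  letI := ptAction aX
  let GF := basePt (F := F) ⟶ G
  let XF := basePt (F := F) ⟶ X
  have : Finite GF := finite_points G
  have : Finite XF := finite_points X
  letI := Fintype.ofFinite XF
  letI := Fintype.ofFinite GF
  have hauto : ∀ {ξ ξ' : Fib aX}, (ξ ≅ ξ') → Nat.card (Aut ξ) = Nat.card (Aut ξ') := fun e =>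
    Nat.card_congr e.conjAut.toEquiv
  let Ω := MulAction.orbitRel.Quotient GF XF
  let Φ : Ω → Quotient (isIsomorphicSetoid (Fib aX)) := Quotient.map' fibTriv fun x y hxy => by
    obtain ⟨g, hg⟩ := MulAction.mem_orbit_iff.1 hxy
    let φ : fibTriv (aX := aX) x ⟶ fibTriv y := (homEquiv x y).symm ⟨g, hg⟩
    let ψ : fibTriv (aX := aX) y ⟶ fibTriv x := (homEquiv y x).symm ⟨g⁻¹, by
      change g⁻¹ • x = y
      rw [← hg, inv_smul_smul]⟩
    have hl : (AlgSt.QuotSt K₀ G aX).p.IsHomLift (𝟙 (basePt (F := F))) φ.1 := φ.2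
    have : IsIso φ.1 := H14Fib.isIso_of_fibGrpd quotSt_fibGrpd (𝟙 (basePt (F := F))) φ.1
    exact ⟨⟨φ, ⟨inv φ.1, IsHomLift.lift_id_inv_isIso (AlgSt.QuotSt K₀ G aX).p _ φ.1⟩,
        Functor.Fiber.hom_ext (IsIso.hom_inv_id φ.1), Functor.Fiber.hom_ext (IsIso.inv_hom_id φ.1)⟩⟩
  have hΦ : Function.Bijective Φ := by
    refine ⟨fun o o' e => ?_, fun c => ?_⟩
    · induction o using Quotient.inductionOn' with
      | h x =>
        induction o' using Quotient.inductionOn' with
        | h y =>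
          obtain ⟨i⟩ := Quotient.eq''.1 e
          exact Quotient.eq''.2 (MulAction.mem_orbit_iff.2 ⟨(homEquiv x y i.hom).1, (homEquiv x y i.hom).2⟩)
    · induction c using Quotient.inductionOn' with
      | h ξ =>
        obtain ⟨x, hx⟩ := exists_iso_triv ξ
        exact ⟨Quotient.mk'' x, Quotient.eq''.2 hx⟩
  refine ⟨Finite.of_surjective Φ hΦ.2, fun ξ => ?_, ?_⟩
  · obtain ⟨x, ⟨i⟩⟩ := exists_iso_triv ξ
    refine Nat.finite_of_card_ne_zero ?_
    rw [← hauto i, card_aut]
    exact (Nat.card_pos).ne'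
  have hterm : ∀ o : Ω, ((Nat.card (Aut (Φ o).out) : ℚ))⁻¹ =
      (Nat.card (MulAction.orbit GF o.out) : ℚ) / (Nat.card GF : ℚ) := fun o => by
    have hout : Nonempty ((Φ o).out ≅ fibTriv (aX := aX) o.out) := by
      have e1 : Φ o = Quotient.mk'' (fibTriv (aX := aX) o.out) := by
        conv_lhs => rw [← Quotient.out_eq' o]
        rfl
      exact Quotient.eq''.1 ((Quotient.out_eq' (Φ o)).trans e1)
    obtain ⟨i⟩ := hout
    rw [hauto i, card_aut]
    have hos := MulAction.card_orbit_mul_card_stabilizer_eq_card_group GF o.out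
    rw [← Nat.card_eq_fintype_card, ← Nat.card_eq_fintype_card, ← Nat.card_eq_fintype_card] at hos
    rw [← hos, Nat.cast_mul]
    have : Nonempty (MulAction.orbit GF o.out) := ⟨⟨o.out, MulAction.mem_orbit_self _⟩⟩
    have h0 : (Nat.card (MulAction.orbit GF o.out) : ℚ) ≠ 0 := by exact_mod_cast (Nat.card_pos).ne'
    field_simp
    rfl
  rw [← finsum_comp (g := fun c => ((Nat.card (Aut c.out) : ℚ))⁻¹) Φ hΦ]
  simp only [hterm]
  rw [finsum_eq_sum_of_fintype, ← Finset.sum_div, ← Nat.cast_sum, ← Nat.card_sigma]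
  congr 2
  exact Nat.card_congr (MulAction.selfEquivSigmaOrbits GF XF).symm

end Groth.Agent.H14Count
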