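import Groth.Agent.H14Count.FiniteGroupMass

/-!
# Twisted classes of a group with a normal subgroup of finite index on which the theorem of Lang holds
-/

set_option autoImplicit false
set_option linter.unusedVariables false
set_option linter.unusedSectionVars false
set_option linter.style.haveILetI false

universe u

noncomputable section

namespace Groth.Agent.H14Count

/-- The mass of the twisted classes: `1 / m` if the twisted fixed points of the subgroup always number `m`. -/
theorem exists_classes_of_normal {T : Type u} [Group T] (Φ : T →* T) (N : Subgroup T) [N.Normal] [Finite (T ⧸ N)]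
    (hΦ : ∀ n ∈ N, Φ n ∈ N) (hL : ∀ t, ∀ n ∈ N, ∃ y ∈ N, y * (t * Φ y * t⁻¹)⁻¹ = n)
    (m : ℕ) (hcard : ∀ t, Nat.card {y : N // t * Φ y * t⁻¹ = (y : T)} = m) :
    ∃ (C : Type u) (_ : Fintype C) (s : C → T), (∀ t, ∃ c g, s c = g * t * (Φ g)⁻¹) ∧
      (∀ c c' g, s c' = g * s c * (Φ g)⁻¹ → c = c') ∧
      ∑ c, (1 : ℚ) / (Nat.card {g : T // g * s c = s c * Φ g} : ℚ) = 1 / (m : ℚ) := by
  classical
  let ΦQ : T ⧸ N →* T ⧸ N := QuotientGroup.map N N Φ hΦ
  obtain ⟨C, _, a, hs, hi, hsum⟩ := exists_twisted_classes ΦQ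
  have hmk : ∀ c, (QuotientGroup.mk (a c).out : T ⧸ N) = a c := fun c => QuotientGroup.out_eq' _
  -- moving inside a coset
  have hmove : ∀ t t' : T, (QuotientGroup.mk t : T ⧸ N) = QuotientGroup.mk t' → ∃ y ∈ N, t = y * t' * (Φ y)⁻¹ := by
    intro t t' h
    have hn : t * t'⁻¹ ∈ N := by
      rw [← QuotientGroup.eq_one_iff (N := N), QuotientGroup.mk_mul, QuotientGroup.mk_inv, h, mul_inv_cancel]
    obtain ⟨y, hy, hy'⟩ := hL t' _ hn
    refine ⟨y, hy, ?_⟩
    rw [eq_mul_inv_iff_mul_eq] at hy'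
    rw [← hy']
    group
  refine ⟨C, inferInstance, fun c => (a c).out, fun t => ?_, fun c c' g hg => ?_, ?_⟩
  · obtain ⟨c, g, hg⟩ := hs (QuotientGroup.mk t)
    obtain ⟨g, rfl⟩ := QuotientGroup.mk_surjective g
    obtain ⟨y, -, hy⟩ := hmove (a c).out (g * t * (Φ g)⁻¹) (by
      rw [hmk, hg, QuotientGroup.map_mk]
      rfl)
    refine ⟨c, y * g, hy.trans ?_⟩
    rw [map_mul]
    group
  · refine hi c c' (QuotientGroup.mk g) ?_
    replace hg : (a c').out = g * (a c).out * (Φ g)⁻¹ := hg
    have h := congrArg (QuotientGroup.mk : T → T ⧸ N) hg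
    rw [QuotientGroup.mk_mul, QuotientGroup.mk_mul, QuotientGroup.mk_inv, hmk, hmk] at h
    rwa [QuotientGroup.map_mk]
  have hkey : ∀ c, Nat.card {g : T // g * (a c).out = (a c).out * Φ g} =
      Nat.card {g : T ⧸ N // g * a c = a c * ΦQ g} * m := fun c => by
    let s := (a c).out
    let St : Subgroup T :=
      { carrier := {g | g * s = s * Φ g}
        one_mem' := by simp
        mul_mem' := fun {g h} (hg : _ = _) (hh : _ = _) => by
          change g * h * s = s * Φ (g * h)
          rw [map_mul, mul_assoc, hh, ← mul_assoc, hg, mul_assoc]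
        inv_mem' := fun {g} (hg : _ = _) => by
          change g⁻¹ * s = s * Φ g⁻¹
          rw [map_inv, eq_mul_inv_iff_mul_eq, mul_assoc, ← hg, inv_mul_cancel_left] }
    let SQ : Subgroup (T ⧸ N) :=
      { carrier := {g | g * a c = a c * ΦQ g}
        one_mem' := by simp
        mul_mem' := fun {g h} (hg : _ = _) (hh : _ = _) => by
          change g * h * a c = a c * ΦQ (g * h)
          rw [map_mul, mul_assoc, hh, ← mul_assoc, hg, mul_assoc]
        inv_mem' := fun {g} (hg : _ = _) => by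
          change g⁻¹ * a c = a c * ΦQ g⁻¹
          rw [map_inv, eq_mul_inv_iff_mul_eq, mul_assoc, ← hg, inv_mul_cancel_left] }
    let pr : St →* SQ := ((QuotientGroup.mk' N).comp St.subtype).codRestrict SQ fun g => by
      change (QuotientGroup.mk g.1 : T ⧸ N) * a c = a c * ΦQ (QuotientGroup.mk g.1)
      rw [← hmk c, QuotientGroup.map_mk, ← QuotientGroup.mk_mul, ← QuotientGroup.mk_mul, g.2]
    have hpr : Function.Surjective pr := fun z => by
      obtain ⟨g, hg⟩ := QuotientGroup.mk_surjective z.1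
      obtain ⟨y, hy, hys⟩ := hmove s (g * s * (Φ g)⁻¹) (by
        have hz : z.1 * a c = a c * ΦQ z.1 := z.2
        rw [← hg, QuotientGroup.map_mk] at hz
        rw [QuotientGroup.mk_mul, QuotientGroup.mk_mul, QuotientGroup.mk_inv, hmk, hz, mul_inv_cancel_right])
      refine ⟨⟨y * g, ?_⟩, Subtype.ext ?_⟩
      · change y * g * s = s * Φ (y * g)
        rw [map_mul]
        conv_rhs => rw [hys]
        group
      · change (QuotientGroup.mk (y * g) : T ⧸ N) = z.1
        rw [QuotientGroup.mk_mul, (QuotientGroup.eq_one_iff y).2 hy, one_mul, hg]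
    have h1 := Subgroup.card_eq_card_quotient_mul_card_subgroup pr.ker
    rw [Nat.card_congr (QuotientGroup.quotientKerEquivOfSurjective pr hpr).toEquiv] at h1
    refine h1.trans (congrArg (_ * ·) ((Nat.card_congr ?_).trans (hcard s)))
    exact
      { toFun := fun x => ⟨⟨x.1.1, (QuotientGroup.eq_one_iff _).1 (congrArg Subtype.val x.2)⟩, by
          change s * Φ x.1.1 * s⁻¹ = x.1.1
          rw [← x.1.2, mul_inv_cancel_right]⟩
        invFun := fun y => ⟨⟨y.1.1, (mul_inv_eq_iff_eq_mul.1 y.2).symm⟩,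
          Subtype.ext ((QuotientGroup.eq_one_iff _).2 y.1.2)⟩
        left_inv := fun x => rfl
        right_inv := fun y => rfl }
  simp only [hkey, Nat.cast_mul]
  rw [show (∑ c, (1 : ℚ) / ((Nat.card {g : T ⧸ N // g * a c = a c * ΦQ g} : ℚ) * (m : ℚ))) =
    (∑ c, (1 : ℚ) / (Nat.card {g : T ⧸ N // g * a c = a c * ΦQ g} : ℚ)) * (1 / (m : ℚ)) by
      rw [Finset.sum_mul]
      exact Finset.sum_congr rfl fun c _ => by rw [div_mul_div_comm, one_mul]]
  rw [hsum, one_mul]

end Groth.Agent.H14Count
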