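import Groth.Agent.H14Count.Unip.Scheme
import Groth.Agent.H14Count.ClassMass
import Groth.Agent.H14Quot.Etale

/-!
# Frobenius classes of a semidirect product with a connected unipotent group
-/

set_option autoImplicit false
set_option maxHeartbeats 800000
set_option linter.unusedVariables false
set_option linter.unusedSectionVars false
set_option linter.style.haveILetI false
set_option backward.isDefEq.respectTransparency false
set_option backward.isDefEq.respectTransparency.types false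

universe u

open CategoryTheory CategoryTheory.Limits MonoidalCategory CartesianMonoidalCategory MonObj GrpObj
open AlgebraicGeometry GalTw

noncomputable section

namespace Groth.Agent.H14Count

attribute [local instance 2000] Hom.group Hom.monoid

variable {k : Type u} [Field k]

/-- Conjugation of a normal subgroup. -/
theorem exists_conjAction {U G : Over (Spec (CommRingCat.of k))} [GrpObj U] [GrpObj G] (i : U ⟶ G) [IsMonHom i] [Mono i]
    (hn : AlgGrp.IsNormalHom i) :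
    ∃ c : AlgGrp.Action G U, ∀ (T : Over (Spec (CommRingCat.of k))) (g : T ⟶ G) (n : T ⟶ U),
      (lift g n ≫ c.act) ≫ i = g * (n ≫ i) * g⁻¹ := by
  obtain ⟨act, hact⟩ := hn (G ⊗ U) (fst G U) (snd G U)
  have key : ∀ (T : Over (Spec (CommRingCat.of k))) (g : T ⟶ G) (n : T ⟶ U),
      (lift g n ≫ act) ≫ i = g * (n ≫ i) * g⁻¹ := fun T g n => by
    rw [Category.assoc, ← hact, MonObj.comp_mul, MonObj.comp_mul, GrpObj.comp_inv, lift_fst, lift_snd_assoc]
  refine ⟨⟨act, ?_, ?_⟩, key⟩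
  · rw [← cancel_mono i]
    have e : η[G] ▷ U = lift (1 : 𝟙_ _ ⊗ U ⟶ G) (snd _ U) := by
      apply CartesianMonoidalCategory.hom_ext
      · rw [whiskerRight_fst, lift_fst, Hom.one_def, toUnit_unique (fst _ U) (toUnit _)]
      · rw [whiskerRight_snd, lift_snd]
    rw [e, key, _root_.one_mul, inv_one, _root_.mul_one, leftUnitor_hom]
  · rw [← cancel_mono i]
    have e1 : μ[G] ▷ U = lift ((fst (G ⊗ G) U ≫ fst G G) * (fst (G ⊗ G) U ≫ snd G G)) (snd (G ⊗ G) U) := by
      apply CartesianMonoidalCategory.hom_ext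
      · rw [whiskerRight_fst, lift_fst, Hom.mul_def, ← comp_lift, lift_fst_snd, Category.comp_id]
      · rw [whiskerRight_snd, lift_snd]
    have e2 : (α_ G G U).hom ≫ (G ◁ act) =
        lift (fst (G ⊗ G) U ≫ fst G G) (lift (fst (G ⊗ G) U ≫ snd G G) (snd (G ⊗ G) U) ≫ act) := by
      apply CartesianMonoidalCategory.hom_ext
      · rw [Category.assoc, whiskerLeft_fst, associator_hom_fst, lift_fst]
      · rw [Category.assoc, whiskerLeft_snd, lift_snd, ← Category.assoc]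
        congr 1
        apply CartesianMonoidalCategory.hom_ext
        · rw [Category.assoc, associator_hom_snd_fst, lift_fst]
        · rw [Category.assoc, associator_hom_snd_snd, lift_snd]
    rw [← Category.assoc (α_ G G U).hom, e1, e2, key, key, key]
    group

variable [Finite k] {Kb : Type u} [Field Kb] [IsAlgClosed Kb] [Algebra k Kb] [Algebra.IsAlgebraic k Kb]

/-- The point count of a quotient by a semidirect product with a connected unipotent group. -/
theorem ptCount_semidirect (π : Kb ≃ₐ[k] Kb) (hπ : ∀ x : Kb, π x = x ^ Nat.card k)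
    {G H U : Over (Spec (CommRingCat.of k))} [GrpObj G] [GrpObj H] [GrpObj U]
    [LocallyOfFiniteType G.hom] [IsAffineHom G.hom] [LocallyOfFiniteType H.hom] [IsAffineHom H.hom]
    [Smooth U.hom] [IsAffineHom U.hom] [ConnectedSpace U.left]
    (iH : H ⟶ G) (iU : U ⟶ G) [IsMonHom iH] [IsMonHom iU] [Mono iH] [Mono iU]
    (hUn : AlgGrp.IsNormalHom iU) (hsd : IsIso ((fst H U ≫ iH) * (snd H U ≫ iU)))
    (hUu : Red.HasNoSubtorus Kb (bcK Kb U)) (d : ℕ) (hd : topologicalKrullDim ↥U.left = (d : WithBot ℕ∞))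
    {X : Over (Spec (CommRingCat.of k))} [LocallyOfFiniteType X.hom] [QuasiCompact X.hom]
    (aG : AlgGrp.Action G X) (aH : AlgGrp.Action H X) (haH : aH.act = (iH ▷ X) ≫ aG.act)
    (hG : StkCnt.IsEssFinite (StkCnt.pts (AlgSt.QuotSt Scheme.etalePrecoverage G aG) k))
    (hH : StkCnt.IsEssFinite (StkCnt.pts (AlgSt.QuotSt Scheme.etalePrecoverage H aH) k)) :
    StkCnt.ptCount (AlgSt.QuotSt Scheme.etalePrecoverage G aG) k hG * (Nat.card k : ℚ) ^ d =
      StkCnt.ptCount (AlgSt.QuotSt Scheme.etalePrecoverage H aH) k hH := by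
  classical
  let P := SGA7.pt (K := k) Kb
  let m : H ⊗ U ⟶ G := (fst H U ≫ iH) * (snd H U ≫ iU)
  haveI : IsIso m := hsd
  have hdec : ∀ (g : P ⟶ G), ∃ h u, g = (h ≫ iH) * (u ≫ iU) := fun g => by
    refine ⟨g ≫ inv m ≫ fst H U, g ≫ inv m ≫ snd H U, ?_⟩
    rw [Category.assoc, Category.assoc, Category.assoc, Category.assoc, ← MonObj.comp_mul, ← MonObj.comp_mul]
    change g = g ≫ inv m ≫ m
    rw [IsIso.inv_hom_id, Category.comp_id]
  have hdec' : ∀ {h h' : P ⟶ H} {u u' : P ⟶ U}, (h ≫ iH) * (u ≫ iU) = (h' ≫ iH) * (u' ≫ iU) → h = h' ∧ u = u' :=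
    fun {h h' u u'} e => by
      have e1 : ∀ (h : P ⟶ H) (u : P ⟶ U), lift h u ≫ m = (h ≫ iH) * (u ≫ iU) := fun h u => by
        rw [MonObj.comp_mul, lift_fst_assoc, lift_snd_assoc]
      rw [← e1, ← e1, cancel_mono] at e
      exact ⟨by simpa using congrArg (· ≫ fst H U) e, by simpa using congrArg (· ≫ snd H U) e⟩
  obtain ⟨c, hc⟩ := exists_conjAction iU hUn
  have hci : ∀ (g : P ⟶ G) (n : P ⟶ U), (lift g n ≫ c.act) ≫ iU = g * (n ≫ iU) * g⁻¹ := fun g n => hc P g n
  have hmul : ∀ (g : P ⟶ G) (x y : P ⟶ U),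
      lift g (x * y) ≫ c.act = (lift g x ≫ c.act) * (lift g y ≫ c.act) := fun g x y => by
    rw [← cancel_mono iU, MonObj.mul_comp, hci, hci, hci, MonObj.mul_comp]
    group
  have hact : ∀ (h : P ⟶ H) (x : P ⟶ X), lift (h ≫ iH) x ≫ aG.act = lift h x ≫ aH.act := fun h x => by
    rw [haH, lift_whiskerRight_assoc]
  -- moving a class into the complement
  have hmove : ∀ g : P ⟶ G, ∃ (h : P ⟶ H) (w : P ⟶ G), h ≫ iH = w * g * (ptAut k π ≫ w)⁻¹ := fun g => by
    obtain ⟨h, u, rfl⟩ := hdec g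
    obtain ⟨y, hy⟩ := exists_lang_twist π hπ c (h ≫ iH) (hmul _) (lift (h ≫ iH) u ≫ c.act)
    have hy' := congrArg (· ≫ iU) hy
    simp only [MonObj.mul_comp, GrpObj.inv_comp, hci, smul_eq_ptAut, Category.assoc] at hy'
    refine ⟨h, (y ≫ iU)⁻¹, ?_⟩
    rw [GrpObj.comp_inv, _root_.inv_inv]
    have e : u ≫ iU = (h ≫ iH)⁻¹ * ((y ≫ iU) * ((h ≫ iH) * (ptAut k π ≫ y ≫ iU) * (h ≫ iH)⁻¹)⁻¹) * (h ≫ iH) := by
      rw [hy']
      group
    rw [e]
    group
  obtain ⟨C, _, a, hne, hsurj, hinj⟩ := exists_classes π hπ aH le_rfl hH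
  have hfix : ∀ h : P ⟶ H, Nat.card (fixPts π aG (h ≫ iH)) = Nat.card (fixPts π aH h) := fun h =>
    Nat.card_congr (Equiv.subtypeEquivRight fun x => by rw [hact])
  rw [ptCount_eq' π hπ aG le_rfl H14Quot.etale_le_fppf_pre (fun i => a i ≫ iH) (fun b hb => ?_) (fun i i' g hg => ?_) hG,
    ptCount_eq' π hπ aH le_rfl H14Quot.etale_le_fppf_pre a hsurj hinj hH, Finset.sum_mul]
  · refine Finset.sum_congr rfl fun i _ => ?_
    have hcard : Nat.card (fixGrp π (a i ≫ iH)) =
        Nat.card (fixGrp π (a i)) * Nat.card {u : SGA7.Pts Kb U // lift (a i ≫ iH) (π • u) ≫ c.act = u} := by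
      rw [← Nat.card_prod]
      have hiff : ∀ (h : P ⟶ H) (u : P ⟶ U), (h ≫ iH) * (u ≫ iU) ∈ fixGrp π (a i ≫ iH) ↔
          h ∈ fixGrp π (a i) ∧ lift (a i ≫ iH) (π • u) ≫ c.act = u := fun h u => by
        have e1 : (h ≫ iH) * (u ≫ iU) * (a i ≫ iH) =
            ((h * a i) ≫ iH) * ((lift (a i ≫ iH)⁻¹ u ≫ c.act) ≫ iU) := by
          rw [hci, MonObj.mul_comp]
          group
        have e2 : (a i ≫ iH) * (ptAut k π ≫ ((h ≫ iH) * (u ≫ iU))) =
            ((a i * (ptAut k π ≫ h)) ≫ iH) * ((π • u) ≫ iU) := by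
          rw [MonObj.comp_mul, MonObj.mul_comp, smul_eq_ptAut]
          simp only [Category.assoc, _root_.mul_assoc]
        change (h ≫ iH) * (u ≫ iU) * (a i ≫ iH) = (a i ≫ iH) * (ptAut k π ≫ ((h ≫ iH) * (u ≫ iU))) ↔ _
        rw [e1, e2]
        constructor
        · intro e
          obtain ⟨e3, e4⟩ := hdec' e
          refine ⟨e3, ?_⟩
          rw [← e4, ← AlgGrp.Action.lift_mul_act, mul_inv_cancel, AlgGrp.Action.lift_one_act]
        · rintro ⟨e3, e4⟩
          rw [show h * a i = a i * (ptAut k π ≫ h) from e3]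
          conv_lhs => rw [← e4, ← AlgGrp.Action.lift_mul_act, inv_mul_cancel, AlgGrp.Action.lift_one_act]
      refine (Nat.card_congr (Equiv.ofBijective (fun z : fixGrp π (a i) ×
        {u : SGA7.Pts Kb U // lift (a i ≫ iH) (π • u) ≫ c.act = u} =>
          (⟨(z.1.1 ≫ iH) * (z.2.1 ≫ iU), (hiff _ _).2 ⟨z.1.2, z.2.2⟩⟩ : fixGrp π (a i ≫ iH))) ⟨fun z z' e => ?_, fun g => ?_⟩)).symm
      · obtain ⟨e1, e2⟩ := hdec' (congrArg Subtype.val e)
        exact Prod.ext (Subtype.ext e1) (Subtype.ext e2)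
      · obtain ⟨h, u, hg⟩ := hdec g.1
        obtain ⟨h1, h2⟩ := (hiff h u).1 (hg ▸ g.2)
        exact ⟨(⟨h, h1⟩, ⟨u, h2⟩), Subtype.ext hg.symm⟩
    rw [hfix, hcard, Unip.card_fixed_action π hπ hUu d hd c (a i ≫ iH) hmul, Nat.cast_mul, Nat.cast_pow]
    have : (Nat.card k : ℚ) ≠ 0 := by exact_mod_cast (Nat.card_pos (α := k)).ne'
    field_simp
  · obtain ⟨h, w, hw⟩ := hmove b
    obtain ⟨x, hx⟩ := hb
    have hx' := smul_rel π aG (g := w) hx
    rw [← hw, hact] at hx'
    obtain ⟨i, g, hg⟩ := hsurj h ⟨⟨_, hx'⟩⟩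
    refine ⟨i, (g ≫ iH) * w, ?_⟩
    rw [hg, MonObj.mul_comp, MonObj.mul_comp, hw, GrpObj.inv_comp, MonObj.comp_mul, Category.assoc]
    group
  · obtain ⟨h, u, rfl⟩ := hdec g
    refine hinj i i' h ?_
    have e1 : (a i' ≫ iH) * (ptAut k π ≫ ((h ≫ iH) * (u ≫ iU))) =
        ((a i' * (ptAut k π ≫ h)) ≫ iH) * ((π • u) ≫ iU) := by
      rw [MonObj.comp_mul, MonObj.mul_comp, smul_eq_ptAut]
      simp only [Category.assoc, _root_.mul_assoc]
    have e2 : (h ≫ iH) * (u ≫ iU) * (a i ≫ iH) =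
        ((h * a i) ≫ iH) * ((lift (a i ≫ iH)⁻¹ u ≫ c.act) ≫ iU) := by
      rw [hci, MonObj.mul_comp]
      group
    have e := congrArg (· * (ptAut k π ≫ ((h ≫ iH) * (u ≫ iU)))) hg
    simp only [inv_mul_cancel_right] at e
    rw [e1, e2] at e
    rw [eq_mul_inv_iff_mul_eq]
    exact (hdec' e).1

end Groth.Agent.H14Count
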