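import Groth.Agent.H14Count.TwistPoints
import Groth.Agent.H19Grp.QuasiFiniteHom
import Groth.Prelude.Def_GalTw2

/-!
# The stabiliser of a geometric point
-/

set_option autoImplicit false
set_option maxHeartbeats 800000
set_option linter.unusedVariables false
set_option linter.unusedSectionVars false
set_option linter.style.haveILetI false
set_option backward.isDefEq.respectTransparency false
set_option backward.isDefEq.respectTransparency.types false

universe u

open CategoryTheory CategoryTheory.Limits MonoidalCategory CartesianMonoidalCategory MonObj GrpObj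
open AlgebraicGeometry GalTw

noncomputable section

namespace Groth.Agent.H14Count

attribute [local instance 2000] Hom.group Hom.monoid

variable {k : Type u} [Field k] {K : Type u} [Field K] [Algebra k K] {G X : Over (Spec (CommRingCat.of k))} [GrpObj G]
  (aX : AlgGrp.Action G X) (x : SGA7.Pts K X) {S : Over (Spec (CommRingCat.of K))} [GrpObj S] (s : S ⟶ bcK K G)

variable (k) in
/-- The structure map of an object over the extension, as a map to the point. -/
def ptMap (T : Over (Spec (CommRingCat.of K))) :
    (Over.map (SGA7.pt (K := k) K).hom).obj T ⟶ SGA7.pt (K := k) K :=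
  Over.homMk T.hom rfl

lemma map_ptMap {T T' : Over (Spec (CommRingCat.of K))} (t : T ⟶ T') :
    (Over.map (SGA7.pt (K := k) K).hom).map t ≫ ptMap k T' = ptMap k T :=
  Over.OverMorphism.ext (Over.w t)

/-- An element of the base change of a scheme as a point. -/
lemma homEquiv_T0 {Y : Over (Spec (CommRingCat.of k))} (y : SGA7.Pts K Y) :
    (Over.mapPullbackAdj (SGA7.pt (K := k) K).hom).homEquiv (𝟙_ (Over (Spec (CommRingCat.of K)))) Y
      (ptMap k (𝟙_ (Over (Spec (CommRingCat.of K)))) ≫ y) = secOfPt K y := by
  ext : 1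
  apply pullback.hom_ext
  · rw [secOfPt_left, pullback.lift_fst]
    simp [Over.mapPullbackAdj, ptMap]
  · rw [secOfPt_left, pullback.lift_snd]
    simp [Over.mapPullbackAdj, ptMap]

variable (hS : ∀ (T : Over (Spec (CommRingCat.of K))) (g : (Over.map (SGA7.pt (K := k) K).hom).obj T ⟶ G),
      (∃ g' : T ⟶ S, g' ≫ s = (Over.mapPullbackAdj (SGA7.pt (K := k) K).hom).homEquiv T G g) ↔
        lift g (ptMap k T ≫ x) ≫ aX.act = ptMap k T ≫ x)

include hS in
/-- The points of the stabiliser are the elements fixing the point. -/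
theorem stab_points (z : 𝟙_ (Over (Spec (CommRingCat.of K))) ⟶ bcK K G) :
    (∃ z', z' ≫ s = z) ↔ lift (secPt z) x ≫ aX.act = x := by
  haveI : IsIso (ptMap k (𝟙_ (Over (Spec (CommRingCat.of K))))) := by
    haveI : IsIso ((Over.forget _).map (ptMap k (𝟙_ (Over (Spec (CommRingCat.of K)))))) :=
      inferInstanceAs (IsIso (𝟙 (Spec (CommRingCat.of K))))
    exact isIso_of_reflects_iso _ (Over.forget _)
  have h := hS (𝟙_ (Over (Spec (CommRingCat.of K)))) (ptMap k (𝟙_ (Over (Spec (CommRingCat.of K)))) ≫ secPt z)
  rw [homEquiv_T0, secOfPt_secPt] at h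
  rw [h, ← comp_lift, Category.assoc, cancel_epi]

include hS in
/-- The stabiliser is a closed subgroup. -/
theorem stab_isClosedImmersion [IsMonHom s] [Mono s] [LocallyOfFiniteType G.hom] [LocallyOfFiniteType X.hom] :
    IsClosedImmersion s.left := by
  classical
  let F := Over.pullback (SGA7.pt (K := k) K).hom
  let adj := Over.mapPullbackAdj (SGA7.pt (K := k) K).hom
  let GK := bcK K G
  let g₀ : (Over.map (SGA7.pt (K := k) K).hom).obj GK ⟶ G := (adj.homEquiv GK G).symm (𝟙 GK)
  let ω : GK ⟶ bcK K X := adj.homEquiv GK X (lift g₀ (ptMap k GK ≫ x) ≫ aX.act)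
  let xK : 𝟙_ (Over (Spec (CommRingCat.of K))) ⟶ bcK K X :=
    adj.homEquiv (𝟙_ (Over (Spec (CommRingCat.of K)))) X (ptMap k (𝟙_ (Over (Spec (CommRingCat.of K)))) ≫ x)
  have hcrit : ∀ (T : Over (Spec (CommRingCat.of K))) (t : T ⟶ GK),
      (∃ g', g' ≫ s = t) ↔ t ≫ ω = toUnit T ≫ xK := fun T t => by
    obtain ⟨g, rfl⟩ := (adj.homEquiv T G).surjective t
    rw [hS T g]
    have h1 : adj.homEquiv T G g ≫ ω = adj.homEquiv T X (lift g (ptMap k T ≫ x) ≫ aX.act) := by
      refine (adj.homEquiv_naturality_left (adj.homEquiv T G g) _).symm.trans (congrArg _ ?_)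
      rw [← Category.assoc, comp_lift, ← Category.assoc _ (ptMap k GK), map_ptMap]
      congr 2
      rw [← adj.homEquiv_naturality_left_symm]
      erw [Category.comp_id]
      rw [Equiv.symm_apply_apply]
    have h2 : toUnit T ≫ xK = adj.homEquiv T X (ptMap k T ≫ x) := by
      refine (adj.homEquiv_naturality_left (toUnit T) _).symm.trans (congrArg _ ?_)
      rw [← Category.assoc, map_ptMap]
    rw [h1, h2, (adj.homEquiv T X).injective.eq_iff]
  have hpb : IsPullback s (toUnit S) ω xK := by
    refine ⟨⟨(hcrit S s).1 ⟨𝟙 S, Category.id_comp s⟩⟩, ⟨PullbackCone.IsLimit.mk _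
      (fun c => Classical.choose ((hcrit c.pt c.fst).2 (c.condition.trans (congrArg (· ≫ xK) (toUnit_unique _ _)))))
      (fun c => Classical.choose_spec
        ((hcrit c.pt c.fst).2 (c.condition.trans (congrArg (· ≫ xK) (toUnit_unique _ _)))))
      (fun c => toUnit_unique _ _) (fun c m hm _ => ?_)⟩⟩
    rw [← cancel_mono s]
    exact hm.trans (Classical.choose_spec
      ((hcrit c.pt c.fst).2 (c.condition.trans (congrArg (· ≫ xK) (toUnit_unique _ _))))).symm
  have hpb' := hpb.map (Over.forget _)
  haveI : QuasiCompact xK.left := by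
    haveI : Subsingleton ↥(𝟙_ (Over (Spec (CommRingCat.of K)))).left := inferInstanceAs (Subsingleton (PrimeSpectrum K))
    exact ⟨fun U hU hUc => (Set.subsingleton_of_subsingleton).finite.isCompact⟩
  haveI : LocallyOfFiniteType (bcK K X).hom := MorphismProperty.pullback_snd _ _ inferInstance
  haveI : LocallyOfFiniteType xK.left := by
    haveI : LocallyOfFiniteType (xK.left ≫ (bcK K X).hom) := by
      rw [Over.w xK]
      exact inferInstanceAs (LocallyOfFiniteType (𝟙 (Spec (CommRingCat.of K))))
    exact locallyOfFiniteType_of_comp xK.left (bcK K X).hom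
  haveI : QuasiCompact s.left := MorphismProperty.of_isPullback (P := @QuasiCompact) hpb'.flip ‹_›
  haveI : LocallyOfFiniteType s.left := MorphismProperty.of_isPullback (P := @LocallyOfFiniteType) hpb'.flip ‹_›
  haveI : LocallyOfFiniteType (bcK K G).hom := MorphismProperty.pullback_snd _ _ inferInstance
  haveI : LocallyOfFiniteType S.hom := by rw [← Over.w s]; infer_instance
  haveI : Mono s.left := (Over.forget _).map_mono s
  exact H19Grp.QuasiFiniteHom.isClosedImmersion_of_mono s

end Groth.Agent.H14Count
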