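import Groth.Agent.H14Count.Unip.Closed
import Groth.Agent.H14Count.Semidirect
import Groth.Agent.H14Count.Stabiliser
import Groth.Agent.H14Count.NormalClasses
import Groth.Agent.H19Grp.GroupCI
import Groth.Agent.H19Grp.SmoothLocus
import Groth.Agent.H19Grp.Dimension

/-!
# The mass of a stabiliser without subtorus
-/

set_option autoImplicit false
set_option maxHeartbeats 1600000
set_option linter.unusedVariables false
set_option linter.unusedSectionVars false
set_option linter.style.haveILetI false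
set_option backward.isDefEq.respectTransparency false
set_option backward.isDefEq.respectTransparency.types false

universe u

open CategoryTheory CategoryTheory.Limits MonoidalCategory CartesianMonoidalCategory MonObj GrpObj
open AlgebraicGeometry GalTw Groth.Agent.H27Witt

noncomputable section

namespace Groth.Agent.H14Count

attribute [local instance 2000] Hom.group Hom.monoid

/-- A subscheme with open range of a group over a field has the dimension of the group. -/
theorem dim_open_subgroup {K : Type u} [Field K] {R L : Over (Spec (CommRingCat.of K))} [GrpObj R]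
    [LocallyOfFiniteType R.hom] (j : L ⟶ R) (hj : Topology.IsEmbedding j.left) (hop : IsOpen (Set.range j.left))
    [Nonempty L.left] : topologicalKrullDim ↥L.left = topologicalKrullDim ↥R.left := by
  haveI : JacobsonSpace R.left := LocallyOfFiniteType.jacobsonSpace R.hom
  let O : R.left.Opens := ⟨Set.range j.left, hop⟩
  have hO : topologicalKrullDim (O : Set R.left) = topologicalKrullDim R.left := by
    apply le_antisymm (topologicalKrullDim_subspace_le _ _)
    obtain ⟨p, hpO, hp⟩ := nonempty_inter_closedPoints (Z := (O : Set R.left))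
      ⟨j.left (Classical.arbitrary L.left), _, rfl⟩ O.2.isLocallyClosed
    haveI : QuasiSober (O : Set R.left) := O.2.isOpenEmbedding_subtypeVal.quasiSober
    exact H19Grp.le_topologicalKrullDim_of_mem (H19Grp.grpToGrpd R) (Iso.refl _) _ p hp fun a ha =>
      O.2.stableUnderGeneralization ha hpO
  exact (hj.toHomeomorph.isHomeomorph.topologicalKrullDim_eq).trans hO

variable {k : Type u} [Field k] [Finite k] {Kb : Type u} [Field Kb] [IsAlgClosed Kb] [Algebra k Kb]
  [Algebra.IsAlgebraic k Kb]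

/-- The twisted classes of a stabiliser without subtorus of dimension `d` have mass `q ^ (-d)`. -/
theorem exists_stab_classes (π : Kb ≃ₐ[k] Kb) (hπ : ∀ x : Kb, π x = x ^ Nat.card k)
    {G X : Over (Spec (CommRingCat.of k))} [GrpObj G] [Smooth G.hom] [IsAffineHom G.hom] [LocallyOfFiniteType X.hom]
    (aX : AlgGrp.Action G X) (x : SGA7.Pts Kb X) (a : SGA7.Pts Kb G) (ha : lift a (π • x) ≫ aX.act = x)
    {S : Over (Spec (CommRingCat.of Kb))} [GrpObj S] (s : S ⟶ bcK Kb G) [IsMonHom s] [Mono s]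
    (hS : ∀ (T : Over (Spec (CommRingCat.of Kb))) (g : (Over.map (SGA7.pt (K := k) Kb).hom).obj T ⟶ G),
      (∃ g' : T ⟶ S, g' ≫ s = (Over.mapPullbackAdj (SGA7.pt (K := k) Kb).hom).homEquiv T G g) ↔
        lift g (ptMap k T ≫ x) ≫ aX.act = ptMap k T ≫ x)
    (hSu : Red.HasNoSubtorus Kb S) (d : ℕ) (hd : topologicalKrullDim ↥S.left = (d : WithBot ℕ∞)) :
    ∃ (C : Type u) (_ : Fintype C) (t : C → SGA7.Pts Kb G),
      (∀ c, lift (t c) x ≫ aX.act = x) ∧
      (∀ u : SGA7.Pts Kb G, lift u x ≫ aX.act = x → ∃ c g, lift g x ≫ aX.act = x ∧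
        t c = g * u * (a * (π • g) * a⁻¹)⁻¹) ∧
      (∀ c c' (g : SGA7.Pts Kb G), lift g x ≫ aX.act = x → t c' = g * t c * (a * (π • g) * a⁻¹)⁻¹ → c = c') ∧
      ∑ c, (1 : ℚ) / (Nat.card {g : SGA7.Pts Kb G //
          lift g x ≫ aX.act = x ∧ g * t c = t c * (a * (π • g) * a⁻¹)} : ℚ) = ((Nat.card k : ℚ) ^ d)⁻¹ := by
  classical
  obtain ⟨p, hchar⟩ := CharP.exists k
  haveI : Fact p.Prime := ⟨CharP.char_is_prime k p⟩
  haveI : CharP Kb p := charP_of_injective_algebraMap (algebraMap k Kb).injective p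
  letI := Fintype.ofFinite k
  obtain ⟨⟨r, hr⟩, -, hq⟩ := FiniteField.card k p
  have hqk : Nat.card k = p ^ r := by rw [Nat.card_eq_fintype_card]; exact hq
  have hq0 : 0 < Nat.card k := Nat.card_pos
  have hK := Unip.exists_pow_period π hπ
  -- the base change of the group
  let GK := bcK Kb G
  haveI : Smooth GK.hom := MorphismProperty.pullback_snd _ _ inferInstance
  haveI : IsAffine G.left := isAffine_of_isAffineHom G.hom
  haveI : IsAffine (SGA7.pt (K := k) Kb).left := inferInstanceAs (IsAffine (Spec (CommRingCat.of Kb)))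
  haveI : IsAffine GK.left := inferInstanceAs (IsAffine (pullback G.hom (SGA7.pt (K := k) Kb).hom))
  let e : (T0 Kb ⟶ GK) ≃* SGA7.Pts Kb G :=
    MulEquiv.ofBijective (secPtHom G) ⟨secPt_injective, fun y => ⟨secOfPt Kb y, secPt_secOfPt y⟩⟩
  have he : ∀ z, e z = secPt z := fun z => rfl
  -- conjugation
  obtain ⟨cj, hcj⟩ := exists_conjAction (𝟙 G) (fun T g n => ⟨_, (Category.comp_id _).symm⟩)
  have hcj' : ∀ (g n : SGA7.Pts Kb G), lift g n ≫ cj.act = g * n * g⁻¹ := fun g n => by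
    have := hcj _ g n
    rwa [Category.comp_id, Category.comp_id] at this
  have hmul : ∀ (b y z : SGA7.Pts Kb G), lift b (y * z) ≫ cj.act = (lift b y ≫ cj.act) * (lift b z ≫ cj.act) :=
    fun b y z => by rw [hcj', hcj', hcj']; group
  let ΦG : SGA7.Pts Kb G → (T0 Kb ⟶ GK) → (T0 Kb ⟶ GK) := fun b z => e.symm (b * (π • e z) * b⁻¹)
  have hFG : ∀ b, Unip.IsFrob (Nat.card k) GK (ΦG b) := fun b => by
    obtain ⟨D, ip, hpt, hΦ⟩ := Unip.exists_frobeniusData π hπ cj b (hmul)
    refine ⟨D, ip, hpt, fun y => e.injective ?_⟩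
    rw [he, hΦ, hcj']
    exact (e.apply_symm_apply (b * (π • e (ip y)) * b⁻¹)).symm
  -- the reduced stabiliser
  haveI := stab_isClosedImmersion aX x s hS
  haveI : LocallyOfFiniteType GK.hom := inferInstance
  haveI : LocallyOfFiniteType S.hom := by rw [← Over.w s]; infer_instance
  obtain ⟨gR, hRr⟩ := H19Grp.GroupCI.exists_grpObj_reduced S
  let R : Over (Spec (CommRingCat.of Kb)) := Over.mk (S.left.nilradical.subschemeι ≫ S.hom)
  let i : R ⟶ S := Over.homMk S.left.nilradical.subschemeι rfl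
  haveI : IsMonHom i := hRr
  haveI : IsClosedImmersion i.left := inferInstanceAs (IsClosedImmersion S.left.nilradical.subschemeι)
  haveI : IsReduced R.left := inferInstanceAs (IsReduced S.left.nilradical.subscheme)
  have hisurj : Set.range i.left = Set.univ := by
    change Set.range S.left.nilradical.subschemeι = _
    rw [Scheme.IdealSheafData.range_subschemeι, Scheme.support_nilradical]
    rfl
  haveI : LocallyOfFiniteType R.hom := by rw [← Over.w i]; infer_instance
  haveI : Smooth R.hom := H19Grp.smooth_of_isReduced_perfect R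
  let iR : R ⟶ GK := i ≫ s
  haveI : IsClosedImmersion iR.left := by rw [Over.comp_left]; infer_instance
  haveI : Mono iR := Over.mono_of_mono_left _
  haveI : IsMonHom iR := inferInstanceAs (IsMonHom (i ≫ s))
  haveI : IsAffine R.left := isAffine_of_isAffineHom iR.left
  haveI : Algebra.Smooth Kb (Fn R) := Fn.smooth R
  let fR : (T0 Kb ⟶ R) →* SGA7.Pts Kb G :=
    e.toMonoidHom.comp (MonoidHom.mk' (fun z => z ≫ iR) fun z w => MonObj.mul_comp z w iR)
  have hfR : Function.Injective fR := fun z w h => (cancel_mono iR).1 (e.injective h)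
  have hrangeR : ∀ g, (∃ z, fR z = g) ↔ lift g x ≫ aX.act = x := fun g => by
    obtain ⟨z, rfl⟩ := e.surjective g
    rw [he, ← stab_points aX x s hS]
    constructor
    · rintro ⟨w, hw⟩
      exact ⟨w ≫ i, (Category.assoc _ _ _).trans (e.injective hw)⟩
    · rintro ⟨w, rfl⟩
      haveI : IsReduced (𝟙_ (Over (Spec (CommRingCat.of Kb)))).left := inferInstanceAs (IsReduced (Spec (CommRingCat.of Kb)))
      obtain ⟨v, hv⟩ := H17.exists_lift_of_range_subset w.left i.left (fun z _ => by rw [hisurj]; trivial)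
      have hw : (Over.homMk v (by rw [← Over.w i, reassoc_of% hv]; exact Over.w w) : T0 Kb ⟶ R) ≫ i = w :=
        Over.OverMorphism.ext hv
      exact ⟨_, congrArg secPt ((Category.assoc _ _ _).symm.trans (congrArg (· ≫ s) hw))⟩
  -- twisting elements
  let B := {b : SGA7.Pts Kb G // lift b (π • x) ≫ aX.act = x}
  have hsmul : ∀ g : SGA7.Pts Kb G, lift (π • g) (π • x) ≫ aX.act = π • (lift g x ≫ aX.act) := fun g => by
    rw [smul_eq_ptAut, smul_eq_ptAut, smul_eq_ptAut, ← comp_lift, Category.assoc]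
  have hfixB : ∀ (b : B) (g : SGA7.Pts Kb G), lift g x ≫ aX.act = x ↔ lift (b.1 * (π • g) * b.1⁻¹) x ≫ aX.act = x := by
    intro b g
    have hb' : lift b.1⁻¹ x ≫ aX.act = π • x := by
      have h := congrArg (fun y => lift b.1⁻¹ y ≫ aX.act) b.2
      simp only [← AlgGrp.Action.lift_mul_act, inv_mul_cancel, AlgGrp.Action.lift_one_act] at h
      exact h.symm
    rw [AlgGrp.Action.lift_mul_act, AlgGrp.Action.lift_mul_act, hb', hsmul]
    constructor
    · intro hg
      rw [hg, b.2]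
    · intro hg
      have h1 := congrArg (fun y => lift b.1⁻¹ y ≫ aX.act) hg
      simp only [hb', ← AlgGrp.Action.lift_mul_act, inv_mul_cancel, AlgGrp.Action.lift_one_act] at h1
      exact (MulAction.injective π) h1
  -- the Frobenius on the reduced stabiliser
  have hexR : ∀ (b : B) (z : T0 Kb ⟶ R), ∃ z', fR z' = b.1 * (π • fR z) * b.1⁻¹ := fun b z =>
    (hrangeR _).2 ((hfixB b _).1 ((hrangeR _).1 ⟨z, rfl⟩))
  choose ΦR hΦR using hexR
  have hΦRs : ∀ b, Function.Surjective (ΦR b) := fun b z => by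
    obtain ⟨g, hg⟩ : ∃ g, b.1 * (π • g) * b.1⁻¹ = fR z := ⟨π⁻¹ • (b.1⁻¹ * fR z * b.1), by rw [smul_inv_smul]; group⟩
    obtain ⟨w, hw⟩ := (hrangeR g).2 ((hfixB b g).2 (hg ▸ (hrangeR _).1 ⟨z, rfl⟩))
    exact ⟨w, hfR (by rw [hΦR, hw, hg])⟩
  have hFR : ∀ b, Unip.IsFrob (Nat.card k) R (ΦR b) := fun b =>
    (hFG b.1).sub hq0 iR (fun z => e.injective (by
      change fR (ΦR b z) = e (e.symm _)
      rw [hΦR, MulEquiv.apply_symm_apply]
      rfl)) (hΦRs b)
  -- the component of the neutral element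
  haveI : QuasiCompact R.hom := inferInstance
  obtain ⟨L, gL, j, hj, hjc, hjo, hLc, hLs, -, -⟩ := H19Chev.exists_smooth_idComp R
  haveI := hj; haveI := hjc; haveI := hjo; haveI := hLc; haveI := hLs
  haveI : IsAffine L.left := isAffine_of_isAffineHom j.left
  haveI : Mono j := Over.mono_of_mono_left _
  haveI : IsDomain (Fn L) := Fn.isDomain L
  obtain ⟨ε, hε, hεW⟩ := Unip.exists_idempotent_of_isClopen (K := Kb) (Y := R) (W := Set.range j.left)
    ⟨j.left.isClosedEmbedding.isClosed_range, j.left.isOpenEmbedding.isOpen_range⟩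
  have hεL : ∀ z : T0 Kb ⟶ R, (∃ w, w ≫ j = z) ↔ Fn.ev z ε = 1 := fun z => by
    have h01 : Fn.ev z ε ≠ 0 ↔ Fn.ev z ε = 1 := by
      rcases IsIdempotentElem.iff_eq_zero_or_one.1 (hε.map (Fn.ev z)) with h | h <;> simp [h]
    rw [← h01, ← hεW]
    constructor
    · rintro ⟨w, rfl⟩
      exact ⟨w.left (IsLocalRing.closedPoint Kb), rfl⟩
    · intro h
      have hr : Set.range z.left ⊆ Set.range j.left := by
        rintro _ ⟨v, rfl⟩
        rwa [show v = IsLocalRing.closedPoint Kb from Subsingleton.elim (α := PrimeSpectrum Kb) _ _]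
      exact ⟨Over.homMk (IsOpenImmersion.lift j.left z.left hr)
        (by rw [← Over.w j, IsOpenImmersion.lift_fac_assoc, Over.w z]),
        Over.OverMorphism.ext (IsOpenImmersion.lift_fac _ _ _)⟩
  have hε0 : Fn.ev 1 ε = 1 := (hεL 1).1 ⟨1, MonObj.one_comp j⟩
  have hεmin : ∀ e', IsIdempotentElem e' → Fn.ev 1 e' = 1 → ε * e' = ε := fun e' he' h' => by
    refine Fn.ext_points fun z => ?_
    rw [map_mul]
    rcases IsIdempotentElem.iff_eq_zero_or_one.1 (hε.map (Fn.ev z)) with h | h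
    · rw [h, zero_mul]
    · obtain ⟨w, rfl⟩ := (hεL z).2 h
      rcases IsIdempotentElem.iff_eq_zero_or_one.1 (he'.map (Fn.pull j)) with h2 | h2
      · exfalso
        apply one_ne_zero (α := Kb)
        rw [← h', show (1 : T0 Kb ⟶ R) = (1 : T0 Kb ⟶ L) ≫ j from (MonObj.one_comp j).symm, ← Fn.ev_pull, h2, map_zero]
      · rw [← Fn.ev_pull w j e', h2, map_one, _root_.mul_one]
  let fL : (T0 Kb ⟶ L) →* SGA7.Pts Kb G :=
    fR.comp (MonoidHom.mk' (fun z => z ≫ j) fun z w => MonObj.mul_comp z w j)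
  have hfL : Function.Injective fL := fun z w h => (cancel_mono j).1 (hfR h)
  have hexL : ∀ (b : B) (w : T0 Kb ⟶ L), ∃ w', w' ≫ j = ΦR b (w ≫ j) := fun b w => (hεL _).2 (by
    rw [(hFR b).ev_idempotent hq0 hε hε0 hεmin]
    exact (hεL _).1 ⟨w, rfl⟩)
  choose ΦL hΦL using hexL
  have hΦLs : ∀ b, Function.Surjective (ΦL b) := fun b w => by
    obtain ⟨z, hz⟩ := hΦRs b (w ≫ j)
    obtain ⟨v, rfl⟩ := (hεL z).2 (by
      rw [← (hFR b).ev_idempotent hq0 hε hε0 hεmin, hz]
      exact (hεL _).1 ⟨w, rfl⟩)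
    exact ⟨v, (cancel_mono j).1 (by rw [hΦL, hz])⟩
  have hFL : ∀ b, Unip.IsFrob (Nat.card k) L (ΦL b) := fun b => (hFR b).sub hq0 j (hΦL b) (hΦLs b)
  have hfΦ : ∀ b w, fL (ΦL b w) = b.1 * (π • fL w) * b.1⁻¹ := fun b w => by
    change fR (ΦL b w ≫ j) = _
    rw [hΦL, hΦR]
    rfl
  -- no subtorus and the dimension
  have hLu : Red.HasNoSubtorus Kb L := fun T _ t _ _ hT => hSu T (t ≫ j ≫ i) hT
  have hLd : topologicalKrullDim ↥L.left = (d : WithBot ℕ∞) := by
    rw [dim_open_subgroup j j.left.isOpenEmbedding.isEmbedding j.left.isOpenEmbedding.isOpen_range, ← hd]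
    exact IsHomeomorph.topologicalKrullDim_eq _
      (isHomeomorph_iff_isEmbedding_surjective.2 ⟨i.left.isClosedEmbedding.isEmbedding, Set.range_eq_univ.1 hisurj⟩)
  -- the group of points fixing `x`
  let T : Subgroup (SGA7.Pts Kb G) :=
    { carrier := {g | lift g x ≫ aX.act = x}
      one_mem' := AlgGrp.Action.lift_one_act aX x
      mul_mem' := fun {g h} (hg : _ = _) (hh : _ = _) => by
        change lift (g * h) x ≫ aX.act = x
        rw [AlgGrp.Action.lift_mul_act, hh, hg]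
      inv_mem' := fun {g} (hg : _ = _) => by
        change lift g⁻¹ x ≫ aX.act = x
        conv_lhs => rw [← hg, ← AlgGrp.Action.lift_mul_act, inv_mul_cancel, AlgGrp.Action.lift_one_act] }
  let b₀ : B := ⟨a, ha⟩
  let Φ : T →* T := MonoidHom.mk' (fun g => ⟨a * (π • g.1) * a⁻¹, (hfixB b₀ _).1 g.2⟩) fun g h => Subtype.ext (by
    change a * (π • (g.1 * h.1)) * a⁻¹ = a * (π • g.1) * a⁻¹ * (a * (π • h.1) * a⁻¹)
    rw [smul_mul']
    group)
  let fT : (T0 Kb ⟶ L) →* T := fL.codRestrict T fun w => (hrangeR _).1 ⟨w ≫ j, rfl⟩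
  let N : Subgroup T := fT.range
  have hbT : ∀ t : T, lift (t.1 * a) (π • x) ≫ aX.act = x := fun t => by
    rw [AlgGrp.Action.lift_mul_act, ha]
    exact t.2
  let bT : T → B := fun t => ⟨t.1 * a, hbT t⟩
  have htw : ∀ (t : T) w, t * Φ (fT w) * t⁻¹ = fT (ΦL (bT t) w) := fun t w => Subtype.ext (by
    change t.1 * (a * (π • fL w) * a⁻¹) * t.1⁻¹ = fL (ΦL (bT t) w)
    rw [hfΦ]
    change _ = t.1 * a * (π • fL w) * (t.1 * a)⁻¹
    group)
  have hΦN : ∀ n ∈ N, Φ n ∈ N := by
    rintro _ ⟨w, rfl⟩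
    refine ⟨ΦL (bT 1) w, ?_⟩
    rw [← htw 1 w, _root_.one_mul, inv_one, _root_.mul_one]
  haveI hNn : N.Normal := ⟨by
    rintro _ ⟨w, rfl⟩ t
    obtain ⟨v, rfl⟩ := hΦLs (bT 1) w
    refine ⟨ΦL (bT t) v, ?_⟩
    rw [← htw, ← htw, _root_.one_mul, inv_one, _root_.mul_one]⟩
  -- finite index
  haveI : IsNoetherianRing (Fn R) := H27PGrp.isNoetherianRing_of_smooth Kb (Fn R)
  haveI : _root_.IsReduced (Fn R) := Fn.isReduced R
  haveI : Finite {e : Fn R // IsIdempotentElem e} := Unip.FData.finite_idempotents _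
  haveI : Finite (T ⧸ N) := by
    choose lf hlf using fun t : T => (hrangeR t.1).2 t.2
    refine Finite.of_injective (fun c : T ⧸ N => (⟨Fn.R (lf c.out) ε, hε.map _⟩ : {e : Fn R // IsIdempotentElem e}))
      fun c c' h => ?_
    rw [← QuotientGroup.out_eq' c, ← QuotientGroup.out_eq' c', QuotientGroup.eq]
    have h1 := congrArg (Fn.ev (lf c.out)⁻¹) (congrArg Subtype.val h)
    simp only [Fn.ev_R, inv_mul_cancel, hε0] at h1
    obtain ⟨w, hw⟩ := (hεL _).2 h1.symm
    refine ⟨w, Subtype.ext ?_⟩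
    change fR (w ≫ j) = c.out.1⁻¹ * c'.out.1
    rw [hw, map_mul, map_inv, hlf, hlf]
  have hL : ∀ t : T, ∀ n ∈ N, ∃ y ∈ N, y * (t * Φ y * t⁻¹)⁻¹ = n := by
    rintro t _ ⟨w, rfl⟩
    obtain ⟨y, hy⟩ := (hFL (bT t)).exists_lang p hqk hr w
    refine ⟨fT y, ⟨y, rfl⟩, ?_⟩
    rw [htw, ← map_inv, ← map_mul, hy]
  have hfT : Function.Injective fT := fun z w h => hfL (congrArg Subtype.val h)
  have hcard : ∀ t : T, Nat.card {y : N // t * Φ y * t⁻¹ = (y : T)} = Nat.card k ^ d := fun t => by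
    rw [← (hFL (bT t)).card_fixed p hqk hr hK hLu d hLd]
    refine (Nat.card_congr (Equiv.ofBijective (fun w : {w : T0 Kb ⟶ L // ΦL (bT t) w = w} =>
      (⟨⟨fT w.1, w.1, rfl⟩, by change t * Φ (fT w.1) * t⁻¹ = fT w.1; rw [htw, w.2]⟩ :
        {y : N // t * Φ y * t⁻¹ = (y : T)})) ⟨fun w v h => ?_, ?_⟩)).symm
    · exact Subtype.ext (hfT (congrArg (fun z => z.1.1) h))
    · rintro ⟨⟨_, w, rfl⟩, hw⟩
      exact ⟨⟨w, hfT (by rw [← htw]; exact hw)⟩, rfl⟩
  obtain ⟨C, _, c₀, h1, h2, h3⟩ := exists_classes_of_normal Φ N hΦN hL _ hcard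
  refine ⟨C, inferInstance, fun c => (c₀ c).1, fun c => (c₀ c).2, fun u hu => ?_, fun c c' g hg h => ?_, ?_⟩
  · obtain ⟨c, g, hc⟩ := h1 ⟨u, hu⟩
    exact ⟨c, g.1, g.2, congrArg Subtype.val hc⟩
  · exact h2 c c' ⟨g, hg⟩ (Subtype.ext h)
  refine Eq.trans ?_ (h3.trans (by rw [Nat.cast_pow, one_div]))
  refine Finset.sum_congr rfl fun c _ => ?_
  congr 2
  exact Nat.card_congr
    { toFun := fun g => ⟨⟨g.1, g.2.1⟩, Subtype.ext g.2.2⟩
      invFun := fun g => ⟨g.1.1, g.1.2, congrArg Subtype.val g.2⟩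
      left_inv := fun g => rfl
      right_inv := fun g => rfl }

end Groth.Agent.H14Count
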