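import Groth.Prelude.Def_NonAbH2
import Groth.Agent.H14Count.ClassMass
import Groth.Agent.H14Quot.Etale

/-!
# Torsors over a field as objects of the classifying stack
-/

set_option autoImplicit false
set_option linter.unusedVariables false
set_option linter.unusedSectionVars false
set_option backward.isDefEq.respectTransparency false
set_option backward.isDefEq.respectTransparency.types false

universe u

open CategoryTheory CategoryTheory.Functor CategoryTheory.Limits MonoidalCategory CartesianMonoidalCategory MonObj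
open AlgebraicGeometry AlgSt

noncomputable section

namespace Groth.Agent.H14Count

variable {k : Type u} [Field k] {G : Over (Spec (CommRingCat.of k))} [GrpObj G] {J : Precoverage Scheme.{u}}

lemma pt_self_hom : (SGA7.pt (K := k) k).hom = 𝟙 _ := by
  change Spec.map (CommRingCat.ofHom (algebraMap k k)) = _
  rw [Algebra.algebraMap_self, CommRingCat.ofHom_id]
  exact Spec.map_id _

lemma subsingleton_hom_pt_self (W : Over (Spec (CommRingCat.of k))) (a b : W ⟶ SGA7.pt (K := k) k) : a = b := by
  ext : 1
  have ha := Over.w a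
  have hb := Over.w b
  rw [pt_self_hom, Category.comp_id] at ha hb
  exact ha.trans hb.symm

/-- The map to the point of the base. -/
def toSelfPt (W : Over (Spec (CommRingCat.of k))) : W ⟶ SGA7.pt (K := k) k :=
  Over.homMk W.hom (by rw [pt_self_hom]; exact Category.comp_id _)

/-- The object of a torsor. -/
def objOfTorsor (P : NonAbH1.TorsorSch G J) : FibOver k (trivAction G) J :=
  ⟨{ base := SGA7.pt (K := k) k
     P := P.X
     act := P.act
     π := toSelfPt P.X
     cart := by
       haveI : IsIso (lift P.act.act (snd G P.X)) := P.isTorsor.1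
       refine IsPullback.of_isLimit' ⟨subsingleton_hom_pt_self _ _ _⟩ (PullbackCone.IsLimit.mk _
         (fun s => lift s.fst s.snd ≫ inv (lift P.act.act (snd G P.X))) (fun s => ?_) (fun s => ?_) fun s m h1 h2 => ?_)
       · have h := congrArg (· ≫ fst P.X P.X) (IsIso.inv_hom_id (lift P.act.act (snd G P.X)))
         simp only [Category.assoc, lift_fst, Category.id_comp] at h
         change (lift s.fst s.snd ≫ inv _) ≫ P.act.act = _
         rw [Category.assoc, h, lift_fst]
       · have h := congrArg (· ≫ snd P.X P.X) (IsIso.inv_hom_id (lift P.act.act (snd G P.X)))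
         simp only [Category.assoc, lift_snd, Category.id_comp] at h
         change (lift s.fst s.snd ≫ inv _) ≫ snd G P.X = _
         rw [Category.assoc, h, lift_snd]
       · rw [IsIso.eq_comp_inv, comp_lift]
         exact congrArg₂ lift h1 h2
     loc := P.isTorsor.2
     φ := toUnit _
     eqv := toUnit_unique _ _ }, rfl⟩

variable [J.IsStableUnderBaseChange]

/-- The morphism of an equivariant isomorphism. -/
def homOfEquiv {P Q : NonAbH1.TorsorSch G J} (e : NonAbH1.EquivIso P.act Q.act) :
    objOfTorsor P ⟶ objOfTorsor Q :=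
  have hl : (QuotObj.forget J G (trivAction G)).IsHomLift (𝟙 (SGA7.pt (K := k) k))
      ({ base := 𝟙 _, top := e.iso.hom, eqv := e.comm
         cart := IsPullback.of_horiz_isIso ⟨subsingleton_hom_pt_self _ _ _⟩
         wφ := toUnit_unique _ _ } : (objOfTorsor P).1 ⟶ (objOfTorsor Q).1) :=
    IsHomLift.of_fac' _ _ _ rfl rfl (by simp [QuotObj.forget])
  Functor.Fiber.homMk (QuotObj.forget J G (trivAction G)) (SGA7.pt (K := k) k)
    ({ base := 𝟙 _, top := e.iso.hom, eqv := e.comm
       cart := IsPullback.of_horiz_isIso ⟨subsingleton_hom_pt_self _ _ _⟩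
       wφ := toUnit_unique _ _ } : (objOfTorsor P).1 ⟶ (objOfTorsor Q).1)

lemma equiv_symm_comm {P Q : NonAbH1.TorsorSch G J} (e : NonAbH1.EquivIso P.act Q.act) :
    Q.act.act ≫ e.iso.inv = (G ◁ e.iso.inv) ≫ P.act.act := by
  rw [Iso.comp_inv_eq, Category.assoc, e.comm, ← MonoidalCategory.whiskerLeft_comp_assoc, e.iso.inv_hom_id,
    MonoidalCategory.whiskerLeft_id, Category.id_comp]

/-- The isomorphism of an equivariant isomorphism. -/
def isoOfEquiv {P Q : NonAbH1.TorsorSch G J} (e : NonAbH1.EquivIso P.act Q.act) : objOfTorsor P ≅ objOfTorsor Q where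
  hom := homOfEquiv e
  inv := homOfEquiv ⟨e.iso.symm, equiv_symm_comm e⟩
  hom_inv_id := Functor.Fiber.hom_ext (QuotObj.hom_ext (Category.id_comp _) e.iso.hom_inv_id)
  inv_hom_id := Functor.Fiber.hom_ext (QuotObj.hom_ext (Category.id_comp _) e.iso.inv_hom_id)

/-- Equivariant isomorphisms of torsors are isomorphisms of objects. -/
def equivIsoEquiv (P Q : NonAbH1.TorsorSch G J) :
    NonAbH1.EquivIso P.act Q.act ≃ (objOfTorsor P ≅ objOfTorsor Q) where
  toFun := isoOfEquiv
  invFun i := ⟨⟨i.hom.1.top, i.inv.1.top, congrArg (fun m => m.1.top) i.hom_inv_id,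
    congrArg (fun m => m.1.top) i.inv_hom_id⟩, i.hom.1.eqv⟩
  left_inv e := by
    obtain ⟨⟨_, _, _, _⟩, _⟩ := e
    rfl
  right_inv i := Iso.ext (Functor.Fiber.hom_ext (QuotObj.hom_ext (subsingleton_hom_pt_self _ _ _) rfl))

/-- Every object over the point of the base comes from a torsor. -/
theorem exists_torsor_of_obj (A : FibOver k (trivAction G) J) :
    ∃ P : NonAbH1.TorsorSch G J, Nonempty (objOfTorsor P ≅ A) := by
  obtain ⟨⟨base, P, act, π, cart, loc, φ, eqv⟩, hA⟩ := A
  change base = _ at hA
  subst hA
  have hiso : NonAbH1.IsPseudoTorsorSch act :=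
    ⟨⟨cart.lift (fst P P) (snd P P) (subsingleton_hom_pt_self _ _ _),
      cart.hom_ext (by rw [Category.assoc, cart.lift_fst, lift_fst, Category.id_comp])
        (by rw [Category.assoc, cart.lift_snd, lift_snd, Category.id_comp]),
      CartesianMonoidalCategory.hom_ext _ _ (by rw [Category.assoc, lift_fst, cart.lift_fst, Category.id_comp])
        (by rw [Category.assoc, lift_snd, cart.lift_snd, Category.id_comp])⟩⟩
  have hloc : NonAbH1.IsLocallyTrivialFor J P := by
    obtain ⟨R, hR, hs⟩ := loc
    refine ⟨R, hR, fun S' f hf => ?_⟩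
    obtain ⟨s, hs'⟩ := hs f hf
    refine ⟨s, ?_⟩
    rw [← Over.w π, pt_self_hom]
    exact (congrArg (s ≫ ·) (Category.comp_id π.left)).trans hs'
  refine ⟨⟨P, act, hiso, hloc⟩, ⟨eqToIso (Subtype.ext ?_)⟩⟩
  obtain rfl : toSelfPt P = π := subsingleton_hom_pt_self _ _ _
  obtain rfl : toUnit P = φ := toUnit_unique _ _
  rfl

end Groth.Agent.H14Count
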